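import Mathlib

/-!
The integer conditions on the degrees and on the values at an element of order two modulo the
centre, for `p = 19`.
-/

set_option autoImplicit false
set_option maxHeartbeats 1000000

namespace Cfsg.Agent.Block.Deg16

/-- The possible traces of an element whose square is scalar, in degree `d`. -/
def vals (d : ℕ) : List ℤ :=
  if d = 1 then [1] else (List.range ((2 * d - 1) / 4)).map fun k : ℕ => (d : ℤ) - 4 * ((k : ℤ) + 1)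

theorem mem_vals {d : ℕ} {v : ℤ} (h1 : (d : ℤ) = 1 → v = 1)
    (h2 : d ≠ 1 → -(d : ℤ) < v ∧ v < d) (h4 : (4 : ℤ) ∣ d - v) : v ∈ vals d := by
  rcases eq_or_ne d 1 with hd | hd
  · rw [vals, if_pos hd, List.mem_singleton]
    exact h1 (by rw [hd]; rfl)
  · obtain ⟨hlo, hhi⟩ := h2 hd
    obtain ⟨k, hk⟩ := h4
    rw [vals, if_neg hd, List.mem_map]
    refine ⟨(k - 1).toNat, List.mem_range.2 ?_, ?_⟩
    · omega
    · rw [Int.toNat_of_nonneg (by omega)]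
      omega

/-- The sign of a signed degree. -/
def sg (e : ℤ) : ℤ := if 0 ≤ e then 1 else -1

/-- No values satisfy the two relations. -/
def noVals (D δ e₁ e₂ e₃ : ℤ) : Bool :=
  (vals e₁.natAbs).all fun a => (vals e₂.natAbs).all fun b => (vals e₃.natAbs).all fun c =>
    let x := δ * (sg e₁ * a + sg e₂ * b + sg e₃ * c)
    !(decide (-D < x) && decide (x < D) && ((D - x) % 4 == 0) &&
      (δ * (x * x) * (e₁.natAbs * e₂.natAbs * e₃.natAbs : ℕ) ==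
        D * (sg e₁ * (a * a) * (e₂.natAbs * e₃.natAbs : ℕ) +
          sg e₂ * (b * b) * (e₁.natAbs * e₃.natAbs : ℕ) +
          sg e₃ * (c * c) * (e₁.natAbs * e₂.natAbs : ℕ))))

theorem false_of_noVals {D δ e₁ e₂ e₃ : ℤ} (h : noVals D δ e₁ e₂ e₃ = true) {a b c x : ℤ}
    (ha : a ∈ vals e₁.natAbs) (hb : b ∈ vals e₂.natAbs) (hc : c ∈ vals e₃.natAbs)
    (hx : x = δ * (sg e₁ * a + sg e₂ * b + sg e₃ * c))
    (hlo : -D < x) (hhi : x < D) (h4 : (4 : ℤ) ∣ D - x)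
    (hsq : δ * (x * x) * (e₁.natAbs * e₂.natAbs * e₃.natAbs : ℕ) =
        D * (sg e₁ * (a * a) * (e₂.natAbs * e₃.natAbs : ℕ) +
          sg e₂ * (b * b) * (e₁.natAbs * e₃.natAbs : ℕ) +
          sg e₃ * (c * c) * (e₁.natAbs * e₂.natAbs : ℕ))) : False := by
  subst hx
  have h1 := List.all_eq_true.1 (List.all_eq_true.1 (List.all_eq_true.1 h a ha) b hb) c hc
  simp only [hlo, hhi, Int.emod_eq_zero_of_dvd h4, hsq, decide_true, beq_self_eq_true, Bool.and_self,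
    Bool.not_true, Bool.false_eq_true] at h1

/-- The options above the trivial character of the centre. -/
def IsOne (D δ e₁ e₂ : ℤ) : Prop :=
  (δ = 1 ∧ D = 41 ∧ e₁ = 20 ∧ e₂ = 20) ∨ (δ = 1 ∧ D = 60 ∧ e₁ = 20 ∧ e₂ = 39) ∨
  (δ = 1 ∧ D = 79 ∧ e₁ = 20 ∧ e₂ = 58) ∨ (δ = 1 ∧ D = 79 ∧ e₁ = 39 ∧ e₂ = 39) ∨
  (δ = 1 ∧ D = 22 ∧ e₁ = -18 ∧ e₂ = 39) ∨ (δ = 1 ∧ D = 22 ∧ e₁ = -37 ∧ e₂ = 58) ∨
  (δ = 1 ∧ D = 22 ∧ e₁ = -56 ∧ e₂ = 77) ∨ (δ = 1 ∧ D = 22 ∧ e₁ = -75 ∧ e₂ = 96) ∨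
  (δ = 1 ∧ D = 41 ∧ e₁ = -18 ∧ e₂ = 58) ∨ (δ = 1 ∧ D = 41 ∧ e₁ = -37 ∧ e₂ = 77) ∨
  (δ = -1 ∧ D = 16 ∧ e₁ = -37 ∧ e₂ = 20) ∨ (δ = -1 ∧ D = 16 ∧ e₁ = -56 ∧ e₂ = 39)

/-- A factor of a small product. -/
theorem small_of {n d T : ℤ} (hn : 1 ≤ n) (hd : 0 ≤ d) (h : n * d ≤ T) : d ≤ T :=
  le_trans (by simpa using mul_le_mul_of_nonneg_right hn hd) h

/-- The options above the trivial character of the centre. -/
theorem options_one {D δ K d₁ d₂ s₁ s₂ m₁ m₂ : ℤ} (hδ : δ = 1 ∨ δ = -1) (hD : 9 ≤ D)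
    (hDc : (19 : ℤ) ∣ D - 3 * δ) (hs₁ : s₁ = 1 ∨ s₁ = -1) (hs₂ : s₂ = 1 ∨ s₂ = -1)
    (hd₁ : 9 ≤ d₁) (hd₂ : 9 ≤ d₂) (hc₁ : (19 : ℤ) ∣ d₁ - s₁) (hc₂ : (19 : ℤ) ∣ d₂ - s₂)
    (hm₁ : 0 ≤ m₁) (hm₂ : 0 ≤ m₂) (hm₁' : 0 ≤ m₁ + s₁) (hm₂' : 0 ≤ m₂ + s₂)
    (hsum : s₁ * m₁ + s₂ * m₂ = δ * K) (hK : 0 ≤ K) (hK' : δ = -1 → 2 ≤ K)
    (hdeg : 1 + s₁ * d₁ + s₂ * d₂ = δ * D)
    (hd : (6 * K + 2 * δ) * D + 1 + (m₁ * d₁ + s₁ * d₁) + (m₂ * d₂ + s₂ * d₂) ≤ 256)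
    (ho : (6 * K + 3 * δ) * D + m₁ * d₁ + m₂ * d₂ ≤ 256) (hle : s₁ * d₁ ≤ s₂ * d₂) :
    IsOne D δ (s₁ * d₁) (s₂ * d₂) := by
  have hD16 : 16 ≤ D := by omega
  have hd₁' : 18 ≤ d₁ := by omega
  have hd₂' : 18 ≤ d₂ := by omega
  have f₁ : 0 ≤ m₁ * d₁ := mul_nonneg hm₁ (by omega)
  have f₂ : 0 ≤ m₂ * d₂ := mul_nonneg hm₂ (by omega)
  unfold IsOne
  rcases hs₁ with rfl | rfl <;> rcases hs₂ with rfl | rfl
  · -- two positive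
    rcases hδ with rfl | rfl
    · have hTd : 2 * D ≤ (6 * K + 2 * 1) * D := mul_le_mul_of_nonneg_right (by omega) (by omega)
      have hDv : D = 41 ∨ D = 60 ∨ D = 79 := by omega
      have hdv : d₁ = 20 ∨ d₁ = 39 := by omega
      obtain rfl : d₂ = D - 1 - d₁ := by omega
      rcases hDv with rfl | rfl | rfl <;> rcases hdv with rfl | rfl <;>
        first | (exfalso; omega) | norm_num
    · exfalso; omega
  · rcases hδ with rfl | rfl <;> (exfalso; omega)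
  · -- one of each
    rcases hδ with rfl | rfl
    · have hTd : 2 * D ≤ (6 * K + 2 * 1) * D := mul_le_mul_of_nonneg_right (by omega) (by omega)
      have hTo : 3 * D ≤ (6 * K + 3 * 1) * D := mul_le_mul_of_nonneg_right (by omega) (by omega)
      have g₁ : 1 * d₁ ≤ m₁ * d₁ := mul_le_mul_of_nonneg_right (by omega) (by omega)
      have g₂ : 1 * d₂ ≤ m₂ * d₂ := mul_le_mul_of_nonneg_right (by omega) (by omega)
      have hDv : D = 22 ∨ D = 41 := by omega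
      have hdv : d₁ = 18 ∨ d₁ = 37 ∨ d₁ = 56 ∨ d₁ = 75 := by omega
      obtain rfl : d₂ = D - 1 + d₁ := by omega
      rcases hDv with rfl | rfl <;> rcases hdv with rfl | rfl | rfl | rfl <;>
        first | (exfalso; omega) | norm_num
    · have hK2 := hK' rfl
      have hTo : 9 * D ≤ (6 * K + 3 * -1) * D := mul_le_mul_of_nonneg_right (by omega) (by omega)
      have g₁ : 2 * d₁ ≤ m₁ * d₁ := mul_le_mul_of_nonneg_right (by omega) (by omega)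
      obtain rfl : D = 16 := by omega
      have hdv : d₁ = 37 ∨ d₁ = 56 := by omega
      obtain rfl : d₂ = d₁ - 17 := by omega
      rcases hdv with rfl | rfl <;> norm_num
  · rcases hδ with rfl | rfl
    · exfalso; omega
    · have hK2 := hK' rfl
      have hTo : 9 * D ≤ (6 * K + 3 * -1) * D := mul_le_mul_of_nonneg_right (by omega) (by omega)
      exfalso; omega

/-- The two options above a character of the centre with values in the even roots. -/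
def IsSq (D δ e₁ e₂ e₃ : ℤ) : Prop :=
  (δ = 1 ∧ D = 22 ∧ e₁ = -18 ∧ e₂ = 20 ∧ e₃ = 20) ∨
  (δ = 1 ∧ D = 22 ∧ e₁ = -56 ∧ e₂ = 20 ∧ e₃ = 58) ∨
  (δ = 1 ∧ D = 22 ∧ e₁ = -94 ∧ e₂ = 20 ∧ e₃ = 96) ∨
  (δ = 1 ∧ D = 22 ∧ e₁ = -18 ∧ e₂ = -18 ∧ e₃ = 58) ∨
  (δ = 1 ∧ D = 60 ∧ e₁ = -18 ∧ e₂ = 20 ∧ e₃ = 58) ∨
  (δ = 1 ∧ D = 60 ∧ e₁ = -56 ∧ e₂ = 20 ∧ e₃ = 96) ∨
  (δ = 1 ∧ D = 60 ∧ e₁ = 20 ∧ e₂ = 20 ∧ e₃ = 20) ∨
  (δ = -1 ∧ D = 16 ∧ e₁ = -56 ∧ e₂ = 20 ∧ e₃ = 20) ∨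
  (δ = -1 ∧ D = 16 ∧ e₁ = -18 ∧ e₂ = -18 ∧ e₃ = 20) ∨
  (δ = -1 ∧ D = 16 ∧ e₁ = -56 ∧ e₂ = -18 ∧ e₃ = 58) ∨
  (δ = -1 ∧ D = 16 ∧ e₁ = -56 ∧ e₂ = -56 ∧ e₃ = 96)

set_option maxHeartbeats 4000000 in
/-- The options above the square of the character of the centre. -/
theorem options_sq {D δ A B C d₁ d₂ d₃ s₁ s₂ s₃ a₁ a₂ a₃ b₁ b₂ b₃ : ℤ} (hδ : δ = 1 ∨ δ = -1)
    (hD : 9 ≤ D) (hDc : (19 : ℤ) ∣ D - 3 * δ) (hD2 : (2 : ℤ) ∣ D)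
    (hA : 0 ≤ A) (hB : 0 ≤ B) (hA' : δ = -1 → 1 ≤ A) (hB' : δ = -1 → 1 ≤ B)
    (hs₁ : s₁ = 1 ∨ s₁ = -1) (hs₂ : s₂ = 1 ∨ s₂ = -1) (hs₃ : s₃ = 1 ∨ s₃ = -1)
    (hd₁ : 9 ≤ d₁) (hd₂ : 9 ≤ d₂) (hd₃ : 9 ≤ d₃) (hc₁ : (19 : ℤ) ∣ d₁ - s₁)
    (hc₂ : (19 : ℤ) ∣ d₂ - s₂) (hc₃ : (19 : ℤ) ∣ d₃ - s₃) (he₁ : (2 : ℤ) ∣ d₁) (he₂ : (2 : ℤ) ∣ d₂)
    (he₃ : (2 : ℤ) ∣ d₃) (ha₁ : 0 ≤ a₁) (ha₂ : 0 ≤ a₂) (ha₃ : 0 ≤ a₃) (hb₁ : 0 ≤ b₁) (hb₂ : 0 ≤ b₂)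
    (hb₃ : 0 ≤ b₃) (hm₁ : 0 ≤ a₁ + b₁ + s₁) (hm₂ : 0 ≤ a₂ + b₂ + s₂) (hm₃ : 0 ≤ a₃ + b₃ + s₃)
    (hdeg : s₁ * d₁ + s₂ * d₂ + s₃ * d₃ = δ * D)
    (hsa : s₁ * a₁ + s₂ * a₂ + s₃ * a₃ = δ * A) (hsb : s₁ * b₁ + s₂ * b₂ + s₃ * b₃ = δ * B)
    (hC : C = A + B)
    (hda : (6 * A + 2 * δ) * D + a₁ * d₁ + a₂ * d₂ + a₃ * d₃ ≤ 120)
    (hdb : (6 * B + δ) * D + b₁ * d₁ + b₂ * d₂ + b₃ * d₃ ≤ 136)
    (hdd : (6 * C + 2 * δ) * D + (a₁ * d₁ + b₁ * d₁ + s₁ * d₁) + (a₂ * d₂ + b₂ * d₂ + s₂ * d₂) +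
      (a₃ * d₃ + b₃ * d₃ + s₃ * d₃) ≤ 256)
    (h12 : s₁ * d₁ ≤ s₂ * d₂) (h23 : s₂ * d₂ ≤ s₃ * d₃) :
    IsSq D δ (s₁ * d₁) (s₂ * d₂) (s₃ * d₃) := by
  subst hC
  have hD16 : 16 ≤ D := by omega
  have hd₁' : 18 ≤ d₁ := by omega
  have hd₂' : 18 ≤ d₂ := by omega
  have hd₃' : 18 ≤ d₃ := by omega
  have p₁ : 0 ≤ a₁ * d₁ := mul_nonneg ha₁ (by omega)
  have p₂ : 0 ≤ a₂ * d₂ := mul_nonneg ha₂ (by omega)
  have p₃ : 0 ≤ a₃ * d₃ := mul_nonneg ha₃ (by omega)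
  have q₁ : 0 ≤ b₁ * d₁ := mul_nonneg hb₁ (by omega)
  have q₂ : 0 ≤ b₂ * d₂ := mul_nonneg hb₂ (by omega)
  have q₃ : 0 ≤ b₃ * d₃ := mul_nonneg hb₃ (by omega)
  unfold IsSq
  rcases hδ with rfl | rfl
  · have hTa : 2 * D ≤ (6 * A + 2 * 1) * D := mul_le_mul_of_nonneg_right (by omega) (by omega)
    have hTb : 1 * D ≤ (6 * B + 1) * D := mul_le_mul_of_nonneg_right (by omega) (by omega)
    rcases hs₁ with rfl | rfl <;> rcases hs₂ with rfl | rfl <;> rcases hs₃ with rfl | rfl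
    · obtain rfl : d₁ = 20 := by omega
      obtain rfl : d₂ = 20 := by omega
      obtain rfl : d₃ = 20 := by omega
      obtain rfl : D = 60 := by omega
      norm_num
    · exfalso; omega
    · exfalso; omega
    · exfalso; omega
    · -- one negative
      have hkey : d₁ + d₂ ≤ 136 - D := by
        rcases (by omega : 1 ≤ a₁ ∨ 1 ≤ b₁) with h | h
        · have g₁ : 1 * d₁ ≤ a₁ * d₁ := mul_le_mul_of_nonneg_right h (by omega)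
          rcases (by omega : 1 ≤ a₂ ∨ 1 ≤ a₃) with h' | h'
          · have g₂ : 1 * d₂ ≤ a₂ * d₂ := mul_le_mul_of_nonneg_right h' (by omega)
            omega
          · have g₃ : 1 * d₃ ≤ a₃ * d₃ := mul_le_mul_of_nonneg_right h' (by omega)
            omega
        · have g₁ : 1 * d₁ ≤ b₁ * d₁ := mul_le_mul_of_nonneg_right h (by omega)
          rcases (by omega : 1 ≤ b₂ ∨ 1 ≤ b₃) with h' | h'
          · have g₂ : 1 * d₂ ≤ b₂ * d₂ := mul_le_mul_of_nonneg_right h' (by omega)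
            omega
          · have g₃ : 1 * d₃ ≤ b₃ * d₃ := mul_le_mul_of_nonneg_right h' (by omega)
            omega
      have hDv : D = 22 ∨ D = 60 := by omega
      have hnv : d₁ = 18 ∨ d₁ = 56 ∨ d₁ = 94 := by omega
      have hpv : d₂ = 20 ∨ d₂ = 58 := by omega
      obtain rfl : d₃ = D + d₁ - d₂ := by omega
      rcases hDv with rfl | rfl <;> rcases hnv with rfl | rfl | rfl <;>
        rcases hpv with rfl | rfl <;> first | (exfalso; omega) | norm_num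
    · exfalso; omega
    · -- two negatives
      have hkey : d₁ + d₃ ≤ 136 - D := by
        rcases (by omega : 1 ≤ a₁ ∨ 1 ≤ b₁) with h | h
        · have g₁ : 1 * d₁ ≤ a₁ * d₁ := mul_le_mul_of_nonneg_right h (by omega)
          have g₃ : 1 * d₃ ≤ a₃ * d₃ := mul_le_mul_of_nonneg_right (by omega) (by omega)
          omega
        · have g₁ : 1 * d₁ ≤ b₁ * d₁ := mul_le_mul_of_nonneg_right h (by omega)
          have g₃ : 1 * d₃ ≤ b₃ * d₃ := mul_le_mul_of_nonneg_right (by omega) (by omega)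
          omega
      obtain rfl : d₁ = 18 := by omega
      obtain rfl : d₂ = 18 := by omega
      obtain rfl : D = 22 := by omega
      obtain rfl : d₃ = 58 := by omega
      norm_num
    · exfalso; omega
  · have := hA' rfl
    have := hB' rfl
    have hTa : 4 * D ≤ (6 * A + 2 * -1) * D := mul_le_mul_of_nonneg_right (by omega) (by omega)
    have hTb : 5 * D ≤ (6 * B + -1) * D := mul_le_mul_of_nonneg_right (by omega) (by omega)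
    rcases hs₁ with rfl | rfl <;> rcases hs₂ with rfl | rfl <;> rcases hs₃ with rfl | rfl
    · exfalso; omega
    · exfalso; omega
    · exfalso; omega
    · exfalso; omega
    · have g₁ : 1 * d₁ ≤ a₁ * d₁ := mul_le_mul_of_nonneg_right (by omega) (by omega)
      obtain rfl : D = 16 := by omega
      obtain rfl : d₁ = 56 := by omega
      obtain rfl : d₂ = 20 := by omega
      obtain rfl : d₃ = 20 := by omega
      norm_num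
    · exfalso; omega
    · have h₁ : d₁ ≤ 56 := by
        rcases (by omega : 1 ≤ a₁ ∨ 1 ≤ b₁) with h | h
        · have g₁ : 1 * d₁ ≤ a₁ * d₁ := mul_le_mul_of_nonneg_right h (by omega)
          omega
        · have g₁ : 1 * d₁ ≤ b₁ * d₁ := mul_le_mul_of_nonneg_right h (by omega)
          omega
      obtain rfl : D = 16 := by omega
      have hnv : d₁ = 18 ∨ d₁ = 56 := by omega
      have hnv' : d₂ = 18 ∨ d₂ = 56 := by omega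
      obtain rfl : d₃ = d₁ + d₂ - 16 := by omega
      rcases hnv with rfl | rfl <;> rcases hnv' with rfl | rfl <;>
        first | (exfalso; omega) | norm_num
    · exfalso; omega

theorem kill_one {D δ e₁ e₂ : ℤ} (h : IsOne D δ e₁ e₂) :
    (δ = 1 ∧ D = 22 ∧ e₁ = -56 ∧ e₂ = 77) ∨ noVals D δ 1 e₁ e₂ = true := by
  rcases h with h | h | h | h | h | h | h | h | h | h | h | h <;>
    obtain ⟨rfl, rfl, rfl, rfl⟩ := h <;>
    first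
      | (left; exact ⟨rfl, rfl, rfl, rfl⟩)
      | (right; decide +kernel)

/-- The survivors. -/
theorem kill_sq {D δ e₁ e₂ e₃ : ℤ} (h : IsSq D δ e₁ e₂ e₃) :
    (δ = 1 ∧ D = 60 ∧ e₁ = -56 ∧ e₂ = 20 ∧ e₃ = 96) ∨
    (δ = 1 ∧ D = 60 ∧ e₁ = 20 ∧ e₂ = 20 ∧ e₃ = 20) ∨
    (δ = -1 ∧ D = 16 ∧ e₁ = -56 ∧ e₂ = 20 ∧ e₃ = 20) ∨
    (δ = -1 ∧ D = 16 ∧ e₁ = -56 ∧ e₂ = -56 ∧ e₃ = 96) ∨ noVals D δ e₁ e₂ e₃ = true := by
  rcases h with h | h | h | h | h | h | h | h | h | h | h <;>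
    obtain ⟨rfl, rfl, rfl, rfl, rfl⟩ := h <;>
    first
      | (exact Or.inl ⟨rfl, rfl, rfl, rfl, rfl⟩)
      | (exact Or.inr (Or.inl ⟨rfl, rfl, rfl, rfl, rfl⟩))
      | (exact Or.inr (Or.inr (Or.inl ⟨rfl, rfl, rfl, rfl, rfl⟩)))
      | (exact Or.inr (Or.inr (Or.inr (Or.inl ⟨rfl, rfl, rfl, rfl, rfl⟩))))
      | (refine Or.inr (Or.inr (Or.inr (Or.inr ?_))); decide +kernel)

end Cfsg.Agent.Block.Deg16
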