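import Mathlib
import Cfsg.Agent.Lib.Block.SmallFaith.Bounds
import Cfsg.Agent.Lib.Block.SmallFaith.Psl
import Cfsg.Agent.Lib.Char.Det
import Cfsg.Agent.Lib.Char.WeightPair
import Cfsg.Agent.Lib.Invol.ZStar
import Cfsg.Agent.S0899

/-!
A perfect group with exceptional characters of degree 16 for `p = 19`: the centre, the kernels,
and an element of order two modulo the centre whose square has a square root in the image of the
character of the centre.
-/

set_option autoImplicit false
set_option linter.unusedSectionVars false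
set_option linter.style.haveILetI false
set_option maxHeartbeats 800000

namespace Cfsg.Agent.Block.Deg16

open scoped ComplexConjugate commutatorElement
open scoped _root_.Classical
open Cfsg Cfsg.Agent.Block Cfsg.Agent.Char Cfsg.Agent.Char.BP Cfsg.Agent.Char.Spec
  Cfsg.Agent.Char.DefectOne Cfsg.Agent.Block.PMinusTwo Cfsg.Agent.Block.SmallFaith

universe w

/-- The trace of an involutive map of determinant one. -/
theorem trace_involutive {V : Type w} [AddCommGroup V] [Module ℂ V] [FiniteDimensional ℂ V]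
    (T : Module.End ℂ V) (hT : T * T = 1) (hdet : LinearMap.det T = 1) :
    ∃ r : ℕ, Even r ∧ r ≤ Module.finrank ℂ V ∧
      LinearMap.trace ℂ V T = (Module.finrank ℂ V : ℂ) - 2 * r := by
  set P : Module.End ℂ V := (2⁻¹ : ℂ) • (1 - T)
  have hPP : P * P = P := by
    simp only [P, smul_mul_smul_comm]
    rw [show (1 - T) * (1 - T) = (2 : ℂ) • (1 - T) by
      simp only [sub_mul, mul_sub, one_mul, mul_one, hT, two_smul]; abel, smul_smul]
    norm_num
  have hproj : LinearMap.IsProj (LinearMap.range P) P := by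
    refine ⟨fun x => LinearMap.mem_range_self P x, fun x hx => ?_⟩
    obtain ⟨y, rfl⟩ := hx
    exact LinearMap.congr_fun hPP y
  have hT' : T = 1 - (2 : ℂ) • P := by
    simp only [P, smul_smul]
    norm_num
  set A := LinearMap.range P
  set r := Module.finrank ℂ A
  have htr : LinearMap.trace ℂ V P = (r : ℂ) := hproj.trace
  set e := Submodule.prodEquivOfIsCompl A (LinearMap.ker P) hproj.isCompl
  set f : (A × LinearMap.ker P) →ₗ[ℂ] (A × LinearMap.ker P) :=
    LinearMap.prodMap ((-1 : ℂ) • LinearMap.id) LinearMap.id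
  have hf : (e : _ →ₗ[ℂ] V) ∘ₗ f ∘ₗ (e.symm : V →ₗ[ℂ] _) = T := by
    refine LinearMap.ext fun x => ?_
    obtain ⟨⟨a, b⟩, rfl⟩ := e.surjective x
    have ha : P (a : V) = a := hproj.map_id _ a.2
    have hb : P (b : V) = 0 := LinearMap.mem_ker.1 b.2
    rw [LinearMap.comp_apply, LinearMap.comp_apply, LinearEquiv.coe_coe, LinearEquiv.coe_coe,
      LinearEquiv.symm_apply_apply, hT']
    simp only [f, e, LinearMap.prodMap_apply, LinearMap.id_apply,
      Submodule.coe_prodEquivOfIsCompl']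
    show ((-1 : ℂ) • (a : V)) + (b : V) = ((a : V) + b) - (2 : ℂ) • P ((a : V) + b)
    rw [map_add, ha, hb, add_zero, two_smul, neg_one_smul]
    abel
  have hdet' : ((-1 : ℂ)) ^ r = 1 := by
    have := hdet
    rw [← hf, LinearMap.det_conj, LinearMap.det_prodMap, LinearMap.det_id, LinearMap.det_smul,
      LinearMap.det_id, mul_one, mul_one] at this
    exact this
  refine ⟨r, (neg_one_pow_eq_one_iff_even (by norm_num)).1 hdet', Submodule.finrank_le A, ?_⟩
  rw [hT', map_sub, map_smul, htr, Module.End.one_eq_id, LinearMap.trace_id, smul_eq_mul]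

variable {G : Type w} [Group G] [Fintype G]

/-- The determinant of a representation of a perfect group. -/
theorem det_one (hperf : commutator G = ⊤) {n : ℕ} (ρ : Representation ℂ G (Fin n → ℂ)) (g : G) :
    LinearMap.det (ρ g) = 1 := by
  have h : g ∈ (detUnits ρ).ker := by
    have hle : commutator G ≤ (detUnits ρ).ker := Abelianization.commutator_subset_ker _
    exact hle (hperf ▸ Subgroup.mem_top g)
  rw [← detUnits_apply, MonoidHom.mem_ker.1 h, Units.val_one]

theorem omega_pow_deg (hperf : commutator G = ⊤) (ψ : IrrCharacter G) (z : Subgroup.center G) :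
    omega ψ z ^ charDegree (ψ : G → ℂ) = 1 := by
  obtain ⟨n, ρ, hρ, hχ, h1, -⟩ := IsIrr.exists_rep ψ.2
  haveI := hρ
  have hn : charDegree (ψ : G → ℂ) = n :=
    Nat.cast_injective (R := ℂ) (by rw [← charDeg_spec', h1])
  have hnorm : ‖ρ.character (z : G)‖ = (Module.finrank ℂ (Fin n → ℂ) : ℝ) := by
    rw [hχ, omega_at_one, norm_mul, norm_omega, one_mul, h1, Module.finrank_fin_fun,
      Complex.norm_natCast]
  obtain ⟨c, hc⟩ := (norm_character_eq_iff ρ (z : G)).1 hnorm
  have hcz : c = (omega ψ z : ℂ) := by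
    have h2 : ρ.character (z : G) = c * n := by
      rw [Representation.character, hc, map_smul, LinearMap.trace_id, Module.finrank_fin_fun,
        smul_eq_mul]
    rw [hχ, omega_at_one, h1] at h2
    exact (mul_right_cancel₀ (h1 ▸ IsIrr.one_ne_zero ψ.2) h2).symm
  have h := det_one hperf ρ (z : G)
  rw [hc, LinearMap.det_smul, LinearMap.det_id, mul_one, Module.finrank_fin_fun, hcz] at h
  exact Units.ext (by rw [Units.val_pow_eq_pow_val, hn, h, Units.val_one])

/-- The value at an element whose square is central. -/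
theorem exists_value (hperf : commutator G = ⊤) (ψ : IrrCharacter G) {t : G}
    (ht : t * t ∈ Subgroup.center G) {ζ : ℂ} (hζ : ζ * ζ = (omega ψ ⟨t * t, ht⟩ : ℂ))
    (hζd : ζ ^ charDegree (ψ : G → ℂ) = 1) :
    ∃ v : ℤ, (ψ : G → ℂ) t = ζ * v ∧ -(charDegree (ψ : G → ℂ) : ℤ) ≤ v ∧
      v ≤ (charDegree (ψ : G → ℂ) : ℤ) ∧ (4 : ℤ) ∣ (charDegree (ψ : G → ℂ) : ℤ) - v := by
  obtain ⟨n, ρ, hρ, hχ, h1, -⟩ := IsIrr.exists_rep ψ.2
  haveI := hρ
  have hn : charDegree (ψ : G → ℂ) = n :=
    Nat.cast_injective (R := ℂ) (by rw [← charDeg_spec', h1])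
  rw [hn] at hζd ⊢
  have hnorm : ‖ρ.character (t * t)‖ = (Module.finrank ℂ (Fin n → ℂ) : ℝ) := by
    rw [hχ, show (ψ : G → ℂ) (t * t) = _ from omega_at_one ψ ⟨t * t, ht⟩, norm_mul, norm_omega,
      one_mul, h1, Module.finrank_fin_fun, Complex.norm_natCast]
  obtain ⟨c, hc⟩ := (norm_character_eq_iff ρ (t * t)).1 hnorm
  have hcz : c = ζ * ζ := by
    have h2 : ρ.character (t * t) = c * n := by
      rw [Representation.character, hc, map_smul, LinearMap.trace_id, Module.finrank_fin_fun,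
        smul_eq_mul]
    rw [hχ, show (ψ : G → ℂ) (t * t) = _ from omega_at_one ψ ⟨t * t, ht⟩, h1] at h2
    rw [hζ]
    exact (mul_right_cancel₀ (h1 ▸ IsIrr.one_ne_zero ψ.2) h2).symm
  have hn0 : n ≠ 0 := hn ▸ (charDeg_pos ψ).ne'
  have hζ0 : ζ ≠ 0 := fun e => by
    rw [e, zero_pow hn0] at hζd
    exact zero_ne_one hζd
  set T : Module.End ℂ (Fin n → ℂ) := ζ⁻¹ • ρ t
  have hTT : T * T = 1 := by
    simp only [T, smul_mul_smul_comm]
    rw [← map_mul, hc, hcz, smul_smul, Module.End.one_eq_id]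
    field_simp
    rw [one_smul]
  have hdet : LinearMap.det T = 1 := by
    simp only [T, LinearMap.det_smul, det_one hperf, mul_one, Module.finrank_fin_fun, inv_pow,
      hζd, inv_one]
  obtain ⟨r, ⟨k, hk⟩, hle, htr⟩ := trace_involutive T hTT hdet
  rw [Module.finrank_fin_fun] at hle htr
  refine ⟨(n : ℤ) - 2 * r, ?_, by omega, by omega, ⟨(k : ℤ), by omega⟩⟩
  rw [← hχ, Representation.character, show ρ t = ζ • T by
    simp only [T, smul_smul, mul_inv_cancel₀ hζ0, one_smul], map_smul, htr, smul_eq_mul]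
  push_cast
  ring

/-- A perfect group has no central commutators with a noncentral element. -/
theorem mem_center_of_commutators (hperf : commutator G = ⊤) {t : G}
    (h : ∀ g : G, t * g * t⁻¹ * g⁻¹ ∈ Subgroup.center G) : t ∈ Subgroup.center G := by
  let f : G →* Subgroup.center G :=
    { toFun := fun g => ⟨t * g * t⁻¹ * g⁻¹, h g⟩
      map_one' := Subtype.ext (by simp)
      map_mul' := fun a b => Subtype.ext (by
        show t * (a * b) * t⁻¹ * (a * b)⁻¹ = (t * a * t⁻¹ * a⁻¹) * (t * b * t⁻¹ * b⁻¹)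
        calc t * (a * b) * t⁻¹ * (a * b)⁻¹ =
              (t * a * t⁻¹ * a⁻¹) * (a * (t * b * t⁻¹ * b⁻¹) * a⁻¹) := by group
          _ = _ := by rw [Subgroup.mem_center_iff.1 (h b) a, mul_inv_cancel_right]) }
  letI : CommGroup (Subgroup.center G) :=
    { mul_comm := fun a b => Subtype.ext (Subgroup.mem_center_iff.1 b.2 a) }
  refine Subgroup.mem_center_iff.2 fun g => ?_
  have hg : g ∈ f.ker := Abelianization.commutator_subset_ker f (hperf ▸ Subgroup.mem_top g)
  have h1 : t * g * t⁻¹ * g⁻¹ = 1 := congrArg Subtype.val (MonoidHom.mem_ker.1 hg)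
  calc g * t = (t * g * t⁻¹ * g⁻¹)⁻¹ * (t * g) := by group
    _ = t * g := by rw [h1, inv_one, one_mul]

theorem cube_roots : ∀ r : (ZMod 19)ˣ,
    r ^ 3 = 1 ↔ (r : ZMod 19) = 1 ∨ (r : ZMod 19) = 7 ∨ (r : ZMod 19) = 11 := by
  decide +kernel

theorem card_cube_roots :
    (Finset.univ.filter fun s : (ZMod 19)ˣ => s ^ 3 = 1).card = 3 := by
  decide +kernel

/-- The unit `7`. -/
def seven : (ZMod 19)ˣ := ⟨7, 11, by decide, by decide⟩

theorem seven_cube : seven ^ 3 = 1 := by decide +kernel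

theorem neg_one_cube : ¬ (-1 : (ZMod 19)ˣ) ^ 3 = 1 := by decide +kernel

theorem one_ne_seven : (1 : ZMod 19) ≠ 7 := by decide

variable [hp : Fact (Nat.Prime 19)] {u : G} {R : Subgroup (ZMod 19)ˣ}

/-- The group generated by the conjugates of `u`, with the exceptional characters of degree 16. -/
structure Setting (u : G) (R : Subgroup (ZMod 19)ˣ) (ω : Subgroup.center G →* ℂˣ)
    (y : (ZMod 19)ˣ ⧸ R → IrrCharacter G) : Prop where
  sit : Sit 19 u R
  zf : Zf 19 u R ω y
  card : Nat.card R = 3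
  gen : ∀ K : Subgroup G, K.Normal → u ∈ K → K = ⊤
  faith : ∀ g : G, (y 1 : G → ℂ) g = (y 1 : G → ℂ) 1 → g = 1

theorem mem_iff_cube (hR : Nat.card R = 3) (r : (ZMod 19)ˣ) : r ∈ R ↔ r ^ 3 = 1 := by
  have hle : ∀ s ∈ R, s ^ 3 = 1 := fun s hs => by
    have h := pow_card_eq_one' (x := (⟨s, hs⟩ : R))
    rw [hR] at h
    exact congrArg Subtype.val h
  refine ⟨hle r, fun hr => ?_⟩
  by_contra hn
  have h4 : (insert r (Finset.univ.filter (· ∈ R))).card ≤
      (Finset.univ.filter fun s : (ZMod 19)ˣ => s ^ 3 = 1).card :=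
    Finset.card_le_card fun s hs => Finset.mem_filter.2 ⟨Finset.mem_univ _, by
      rcases Finset.mem_insert.1 hs with rfl | h
      · exact hr
      · exact hle s (Finset.mem_filter.1 h).2⟩
  rw [Finset.card_insert_of_notMem (fun h => hn (Finset.mem_filter.1 h).2),
    show (Finset.univ.filter (· ∈ R)).card = 3 by
      rw [← hR, Nat.card_eq_fintype_card, Fintype.card_subtype]] at h4
  have h3 := card_cube_roots
  have h5 : (Finset.univ.filter fun s : (ZMod 19)ˣ => s ^ 3 = 1).card = 3 := by convert h3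
  omega

theorem neg_one_notMem (hR : Nat.card R = 3) : (-1 : (ZMod 19)ˣ) ∉ R := by
  rw [mem_iff_cube hR]
  exact neg_one_cube

namespace Setting

variable {ω : Subgroup.center G →* ℂˣ} {y : (ZMod 19)ˣ ⧸ R → IrrCharacter G}
  (S : Setting u R ω y)
include S

theorem deg_y (q : (ZMod 19)ˣ ⧸ R) : charDegree (y q : G → ℂ) = 16 := by
  have := S.zf.deg q
  have := S.card
  omega

theorem perfect : commutator G = ⊤ := by
  have h7 : seven ∈ R := (mem_iff_cube S.card _).2 seven_cube
  obtain ⟨g, hg⟩ := (S.sit.mem_R _).1 h7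
  refine S.gen _ inferInstance ?_
  have h6 : pw u (6 : ZMod 19) ∈ commutator G := by
    have h : ⁅g, u⁆ ∈ commutator G :=
      Subgroup.commutator_mem_commutator (Subgroup.mem_top g) (Subgroup.mem_top u)
    rwa [commutatorElement_def, hg, show ((seven : (ZMod 19)ˣ) : ZMod 19) = 7 from rfl, show (pw u (7 : ZMod 19)) * u⁻¹ = pw u 6 by
      rw [mul_inv_eq_iff_eq_mul]
      conv_rhs => arg 2; rw [← S.sit.pw_one']
      rw [S.sit.pw_add]; rfl] at h
  have e : pw u (6 : ZMod 19) ^ (16 : ZMod 19).val = u := by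
    rw [pw_pow S.sit.cardP (Subgroup.mem_zpowers u) S.sit.u_ne, ZMod.natCast_zmod_val,
      show (6 : ZMod 19) * 16 = 1 from rfl, S.sit.pw_one']
  exact e ▸ pow_mem h6 _

theorem not_sq_dvd : ¬ 19 ^ 2 ∣ Nat.card G := by
  intro h
  rw [← (Subgroup.zpowers u).card_mul_index, S.sit.cardP, pow_two] at h
  exact S.sit.hsyl (Nat.dvd_of_mul_dvd_mul_left (by norm_num) h)

theorem no_normal : ∀ H : Subgroup G, H.Normal → Nat.card H ≠ 19 := by
  intro H hH hHp
  haveI := hH
  have hup : u ^ 19 = 1 := by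
    have := pow_orderOf_eq_one u
    rwa [S.sit.hu] at this
  have huH : u ∈ H := HalfDeg.mem_of_normal_card S.not_sq_dvd hHp hup
  have hall : ∀ g : G, g ∈ Subgroup.zpowers u := fun g => by
    rw [Subgroup.eq_of_le_of_card_ge (Subgroup.zpowers_le.2 huH) (by rw [hHp, S.sit.cardP]),
      S.gen H hH huH]
    trivial
  have h7 : seven ∈ R := (mem_iff_cube S.card _).2 seven_cube
  obtain ⟨g, hg⟩ := (S.sit.mem_R _).1 h7
  obtain ⟨n, rfl⟩ := Subgroup.mem_zpowers_iff.1 (hall g)
  rw [show u ^ n * u * (u ^ n)⁻¹ = pw u (1 : ZMod 19) by rw [S.sit.pw_one']; group] at hg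
  have := S.sit.pw_inj' hg
  exact one_ne_seven this

theorem deg_ge (ψ : IrrCharacter G) (h : (ψ : G → ℂ) u ≠ (ψ : G → ℂ) 1) :
    9 ≤ charDegree (ψ : G → ℂ) := by
  have := two_mul_degree_ge (by norm_num) S.not_sq_dvd S.no_normal (IsIrr.isCharacter (y 1).2)
    S.faith (charDeg_spec' (y 1)) (by rw [S.deg_y]; norm_num) ψ S.sit.hu h
  omega

/-- A normal subgroup not containing `u` is central. -/
theorem le_center (K : Subgroup G) [K.Normal] (huK : u ∉ K) : K ≤ Subgroup.center G := by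
  have hup : u ^ 19 = 1 := by
    have := pow_orderOf_eq_one u
    rwa [S.sit.hu] at this
  have hpK : ¬ 19 ∣ Nat.card K := fun h => huK (HalfDeg.mem_of_dvd S.not_sq_dvd h hup)
  intro k hk
  have hc : Commute k u := HalfDeg.commute_kernel S.not_sq_dvd
    (IsIrr.isCharacter (y 1).2) S.faith (charDeg_spec' (y 1)) (by rw [S.deg_y]; norm_num) hpK
    S.sit.hu hk
  obtain ⟨i, z, hz, rfl⟩ := S.sit.cent_pw (S.sit.mem_cg.2 hc.eq)
  by_cases hi : i = 0
  · rw [hi, show pw u (0 : ZMod 19) = 1 by simp [pw], one_mul]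
    exact hz
  · exact absurd ((S.sit.singular_pw hi hz).trans (Subgroup.orderOf_dvd_natCard K hk)) hpK

/-- A character that moves `u` is extremal only on the centre. -/
theorem value_strict (ψ : IrrCharacter G) (h : (ψ : G → ℂ) u ≠ (ψ : G → ℂ) 1) {t : G}
    (ht : t ∉ Subgroup.center G) :
    ‖(ψ : G → ℂ) t‖ ≠ (charDegree (ψ : G → ℂ) : ℝ) := by
  intro hn
  obtain ⟨n, ρ, hρ, hχ, h1, -⟩ := IsIrr.exists_rep ψ.2
  haveI := hρ
  have hdn : charDegree (ψ : G → ℂ) = n :=
    Nat.cast_injective (R := ℂ) (by rw [← charDeg_spec', h1])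
  obtain ⟨c, hc⟩ := (norm_character_eq_iff ρ t).1 (by
    rw [hχ, hn, hdn, Module.finrank_fin_fun])
  refine ht (mem_center_of_commutators S.perfect fun g => ?_)
  have huK : u ∉ ρ.ker := fun hu => h (by
    rw [← hχ]; simp only [Representation.character, MonoidHom.mem_ker.1 hu, map_one])
  refine S.le_center ρ.ker huK (MonoidHom.mem_ker.2 ?_)
  have hcomm : ρ (t * g) = ρ (g * t) := by
    rw [map_mul, map_mul, hc, ← Module.End.one_eq_id, smul_mul_assoc, one_mul, mul_smul_comm,
      mul_one]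
  rw [show t * g * t⁻¹ * g⁻¹ = t * g * (g * t)⁻¹ by group, map_mul, hcomm, ← map_mul,
    mul_inv_cancel, map_one]

theorem omega_pow (z : Subgroup.center G) : ω z ^ 16 = 1 := by
  rw [← S.zf.fam.om 1, ← S.deg_y 1]
  exact omega_pow_deg S.perfect _ z

theorem two_dvd_index : 2 ∣ (Subgroup.center G).index := by
  have h16 : 16 ∣ Nat.card G := S.deg_y 1 ▸ charDeg_dvd (y 1)
  by_contra hodd
  haveI : Fact (Nat.Prime 2) := ⟨Nat.prime_two⟩
  obtain ⟨P⟩ : Nonempty (Sylow 2 G) := inferInstance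
  have hPZ : (P : Subgroup G) ≤ Subgroup.center G := fun x hx => by
    rw [← QuotientGroup.eq_one_iff, ← orderOf_eq_one_iff]
    obtain ⟨k, hk⟩ := IsPGroup.iff_orderOf.1 P.isPGroup' ⟨x, hx⟩
    rw [← Subgroup.orderOf_coe] at hk
    refine Nat.eq_one_of_dvd_coprimes ?_ ((orderOf_map_dvd (QuotientGroup.mk' _) x).trans
      (dvd_of_eq hk)) (Subgroup.index_eq_card (Subgroup.center G) ▸ orderOf_dvd_natCard _)
    exact Nat.Coprime.pow_left k (Nat.prime_two.coprime_iff_not_dvd.2 hodd)
  have hN : Subgroup.normalizer ((P : Subgroup G) : Set G) ≤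
      Subgroup.centralizer ((P : Subgroup G) : Set G) := fun g _ =>
    Subgroup.mem_centralizer_iff.2 fun x hx => (Subgroup.mem_center_iff.1 (hPZ hx) g).symm
  have hcompl := MonoidHom.ker_transferSylow_isComplement' P hN
  have hker : (MonoidHom.transferSylow P hN).ker = ⊤ := by
    letI : CommGroup (P : Subgroup G) :=
      { mul_comm := fun a b => Subtype.ext (Subgroup.mem_center_iff.1 (hPZ b.2) a) }
    exact eq_top_iff.2 (S.perfect ▸ Abelianization.commutator_subset_ker _)
  rw [hker, Subgroup.isComplement'_top_left] at hcompl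
  have hdiv : (2 : ℕ) ∣ (P : Subgroup G).index * Nat.card (P : Subgroup G) := by
    rw [Subgroup.index_mul_card]
    exact (by norm_num : (2 : ℕ) ∣ 16).trans h16
  rw [hcompl, Subgroup.card_bot, mul_one] at hdiv
  exact P.not_dvd_index (by rw [hcompl]; exact hdiv)

/-- Two commuting elements of order two modulo the centre. -/
theorem exists_pair :
    ∃ a b : G, a * a ∈ Subgroup.center G ∧ b * b ∈ Subgroup.center G ∧ a ∉ Subgroup.center G ∧
      b ∉ Subgroup.center G ∧ a * b ∉ Subgroup.center G ∧ ⁅b, a⁆ ∈ Subgroup.center G := by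
  haveI : Fact (Nat.Prime 2) := ⟨Nat.prime_two⟩
  have h2 : 2 ∣ Nat.card (G ⧸ Subgroup.center G) := by
    rw [← Subgroup.index_eq_card]
    exact S.two_dvd_index
  obtain ⟨x, hx⟩ := exists_prime_orderOf_dvd_card' 2 h2
  obtain ⟨t, rfl⟩ := QuotientGroup.mk_surjective x
  set q := QuotientGroup.mk' (Subgroup.center G)
  have hq : ∀ g, q g = (g : G ⧸ Subgroup.center G) := fun _ => rfl
  by_contra hno
  have hiso : IsIsolatedInvolution (t : G ⧸ Subgroup.center G) := by
    refine ⟨hx, fun g hg => ?_⟩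
    obtain ⟨g, rfl⟩ := QuotientGroup.mk_surjective g
    by_contra hne
    have hord : orderOf ((g * t * g⁻¹ : G) : G ⧸ Subgroup.center G) = 2 := by
      rw [QuotientGroup.mk_mul, QuotientGroup.mk_mul, QuotientGroup.mk_inv,
        show (g : G ⧸ Subgroup.center G) * t * (g : G ⧸ Subgroup.center G)⁻¹ =
          MulAut.conj (g : G ⧸ Subgroup.center G) t by simp, MulEquiv.orderOf_eq, hx]
    have hmem : ∀ a : G, orderOf (a : G ⧸ Subgroup.center G) = 2 →
        a * a ∈ Subgroup.center G ∧ a ∉ Subgroup.center G := fun a ha => by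
      refine ⟨(QuotientGroup.eq_one_iff _).1 ?_, fun h => ?_⟩
      · rw [QuotientGroup.mk_mul, ← pow_two, ← ha, pow_orderOf_eq_one]
      · rw [(QuotientGroup.eq_one_iff a).2 h, orderOf_one] at ha
        omega
    obtain ⟨ha1, ha2⟩ := hmem t hx
    obtain ⟨hb1, hb2⟩ := hmem _ hord
    refine hno ⟨t, g * t * g⁻¹, ha1, hb1, ha2, hb2, fun h => hne ?_, ?_⟩
    · rw [← QuotientGroup.eq_one_iff, QuotientGroup.mk_mul] at h
      have ht2 : (t : G ⧸ Subgroup.center G) * t = 1 := by
        rw [← pow_two, ← hx, pow_orderOf_eq_one]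
      calc (g : G ⧸ Subgroup.center G) * t * (g : G ⧸ Subgroup.center G)⁻¹
          = ((g * t * g⁻¹ : G) : G ⧸ Subgroup.center G) := by
            rw [QuotientGroup.mk_mul, QuotientGroup.mk_mul, QuotientGroup.mk_inv]
        _ = (t : G ⧸ Subgroup.center G)⁻¹ := eq_inv_of_mul_eq_one_right h
        _ = t := inv_eq_of_mul_eq_one_right ht2
    · rw [← QuotientGroup.eq_one_iff, ← hq, map_commutatorElement,
        commutatorElement_eq_one_iff_mul_comm]
      simp only [map_mul, map_inv, hq]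
      exact hg.symm.eq
  obtain ⟨N, hN, hodd, hcomm⟩ := ZStar.exists_odd_normal hiso
  haveI := hN
  set K := N.comap q
  haveI : K.Normal := hN.comap q
  by_cases huK : u ∈ K
  · have hK := S.gen K inferInstance huK
    have hN' : Nat.card N = Nat.card (G ⧸ Subgroup.center G) := by
      rw [show N = ⊤ from eq_top_iff.2 fun x _ => ?_, Subgroup.card_top]
      obtain ⟨g, rfl⟩ := QuotientGroup.mk_surjective x
      exact (hK ▸ Subgroup.mem_top g : g ∈ K)
    rw [hN'] at hodd
    exact Nat.not_even_iff_odd.2 hodd (even_iff_two_dvd.2 h2)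
  · have hKZ := S.le_center K huK
    have ht : t ∈ Subgroup.center G := mem_center_of_commutators S.perfect fun g => hKZ (by
      show q (t * g * t⁻¹ * g⁻¹) ∈ N
      rw [hq, QuotientGroup.mk_mul, QuotientGroup.mk_mul, QuotientGroup.mk_mul, QuotientGroup.mk_inv,
        QuotientGroup.mk_inv]
      exact hcomm _)
    rw [(QuotientGroup.eq_one_iff t).2 ht, orderOf_one] at hx
    omega

/-- An element of order two modulo the centre, whose square has a square root in the image of `τ`. -/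
theorem exists_root (τ : Subgroup.center G →* ℂˣ) (hτ : ∀ z, τ z = ω z * ω z ∨ τ z = 1) :
    ∃ (t : G) (ht : t * t ∈ Subgroup.center G) (w : Subgroup.center G),
      t ∉ Subgroup.center G ∧ τ w * τ w = τ ⟨t * t, ht⟩ := by
  obtain ⟨a, b, ha, hb, ha', hb', hab', hc⟩ := S.exists_pair
  set c : Subgroup.center G := ⟨_, hc⟩
  have hτc : τ c = 1 := by
    rcases hτ c with h | h
    · have hc2 : c * c = 1 := by
        refine Subtype.ext ?_
        show ⁅b, a⁆ * ⁅b, a⁆ = 1
        have hcz := Subgroup.mem_center_iff.1 hc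
        calc ⁅b, a⁆ * ⁅b, a⁆ = b * (⁅b, a⁆ * (a * b⁻¹ * a⁻¹)) := by
              conv_lhs => arg 1; rw [commutatorElement_def]
              rw [mul_assoc b a, mul_assoc b, mul_assoc b, ← hcz]
          _ = ⁅b * b, a⁆ := by simp only [commutatorElement_def]; group
          _ = 1 := commutatorElement_eq_one_iff_mul_comm.2
            (Subgroup.mem_center_iff.1 hb a).symm
      rw [h, ← map_mul, hc2, map_one]
    · exact h
  have hab : a * b * (a * b) ∈ Subgroup.center G := by
    have e : a * b * (a * b) = ⁅b, a⁆ * (a * a) * (b * b) := by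
      calc a * b * (a * b) = a * (b * a) * b := by group
        _ = a * (⁅b, a⁆ * (a * b)) * b := by rw [commutatorElement_def]; group
        _ = ⁅b, a⁆ * (a * a) * (b * b) := by
          rw [← mul_assoc a, Subgroup.mem_center_iff.1 hc a]; group
    rw [e]
    exact mul_mem (mul_mem hc ha) hb
  set H := τ.range
  haveI : Finite H := Finite.of_surjective τ.rangeRestrict τ.rangeRestrict_surjective
  haveI : IsCyclic H := inferInstance
  obtain ⟨γ, hγ⟩ := IsCyclic.exists_generator (α := H)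
  have hdec : ∀ z : Subgroup.center G, (∃ w, τ w * τ w = τ z) ∨
      ∃ w, τ w * τ w * (γ : ℂˣ) = τ z := by
    intro z
    obtain ⟨n, hn⟩ := Subgroup.mem_zpowers_iff.1 (hγ ⟨τ z, z, rfl⟩)
    have hn' : ((γ : ℂˣ)) ^ n = τ z := by
      rw [← SubgroupClass.coe_zpow, hn]
    rcases Int.even_or_odd' n with ⟨k, rfl | rfl⟩
    · obtain ⟨w, hw⟩ : ((γ ^ k : H) : ℂˣ) ∈ τ.range := (γ ^ k : H).2
      refine Or.inl ⟨w, ?_⟩
      rw [hw, SubgroupClass.coe_zpow, ← zpow_add, ← two_mul, hn']
    · obtain ⟨w, hw⟩ : ((γ ^ k : H) : ℂˣ) ∈ τ.range := (γ ^ k : H).2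
      refine Or.inr ⟨w, ?_⟩
      rw [hw, SubgroupClass.coe_zpow, ← zpow_add, ← zpow_add_one, ← two_mul, hn']
  rcases hdec ⟨_, ha⟩ with ⟨w, hw⟩ | ⟨w₁, hw₁⟩
  · exact ⟨a, ha, w, ha', hw⟩
  rcases hdec ⟨_, hb⟩ with ⟨w, hw⟩ | ⟨w₂, hw₂⟩
  · exact ⟨b, hb, w, hb', hw⟩
  obtain ⟨wg, hwg⟩ : ((γ : H) : ℂˣ) ∈ τ.range := γ.2
  refine ⟨a * b, hab, w₁ * w₂ * wg, hab', ?_⟩
  have he : (⟨a * b * (a * b), hab⟩ : Subgroup.center G) = c * ⟨_, ha⟩ * ⟨_, hb⟩ := by
    refine Subtype.ext ?_
    show a * b * (a * b) = ⁅b, a⁆ * (a * a) * (b * b)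
    calc a * b * (a * b) = a * (b * a) * b := by group
      _ = a * (⁅b, a⁆ * (a * b)) * b := by rw [commutatorElement_def]; group
      _ = ⁅b, a⁆ * (a * a) * (b * b) := by
        rw [← mul_assoc a, Subgroup.mem_center_iff.1 hc a]; group
  rw [he, map_mul, map_mul, map_mul, map_mul, hτc, one_mul, ← hw₁, ← hw₂, hwg]
  simp only [mul_comm, mul_assoc, mul_left_comm]

end Setting

end Cfsg.Agent.Block.Deg16
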