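import Mathlib
import Cfsg.Agent.Lib.Block.SmallFaith.Cyclo
import Cfsg.Agent.Lib.Block.Deg16.Invol

/-!
The cyclotomic numbers of the cubic roots of unity modulo 19.
-/

set_option autoImplicit false
set_option linter.unusedSectionVars false
set_option maxHeartbeats 800000

namespace Cfsg.Agent.Block.Deg16

open scoped ComplexConjugate
open Cfsg Cfsg.Agent.Block.SmallFaith Cfsg.Agent.Char.DefectOne

/-- A generator. -/
def gen19 : (ZMod 19)ˣ := ⟨2, 10, by decide, by decide⟩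

/-- The solutions of `v + w = 1` in two given classes. -/
def cubeCount (a b : (ZMod 19)ˣ) : ℕ :=
  (Finset.univ.filter fun v : (ZMod 19)ˣ × (ZMod 19)ˣ =>
    (v.1 ^ 3 = a ^ 3 ∧ v.2 ^ 3 = b ^ 3) ∧ (v.1 : ZMod 19) + (v.2 : ZMod 19) = 1).card

theorem count_off : ∀ x : (ZMod 19)ˣ, cubeCount x⁻¹ x⁻¹ =
    (if x ^ 3 = gen19 ^ 3 then 1 else 0) + 2 * if x ^ 3 = (gen19 ^ 3) ^ 3 then 1 else 0 := by
  decide +kernel

theorem count_dg : ∀ x : (ZMod 19)ˣ, cubeCount x⁻¹ (-1 * x⁻¹) =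
    (if x ^ 3 = (gen19 ^ 2) ^ 3 then 1 else 0) + if x ^ 3 = (gen19 ^ 5) ^ 3 then 1 else 0 := by
  decide +kernel

theorem gen_one_three : ¬ gen19 ^ 3 = (gen19 ^ 3) ^ 3 := by decide +kernel

theorem gen_two_five : ¬ (gen19 ^ 2) ^ 3 = (gen19 ^ 5) ^ 3 := by decide +kernel

theorem gen_val : (gen19 : ZMod 19) = 2 := rfl

variable [hp : Fact (Nat.Prime 19)] (R : Subgroup (ZMod 19)ˣ)

/-- The classes. -/
def cl (j : ℕ) : (ZMod 19)ˣ ⧸ R := ((gen19 ^ j : (ZMod 19)ˣ) : (ZMod 19)ˣ ⧸ R)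

variable {R} (hR : Nat.card R = 3)
include hR

theorem mk_eq_iff (x a : (ZMod 19)ˣ) :
    (x : (ZMod 19)ˣ ⧸ R) = (a : (ZMod 19)ˣ ⧸ R) ↔ x ^ 3 = a ^ 3 := by
  rw [QuotientGroup.eq, mem_iff_cube hR, mul_pow, inv_pow, inv_mul_eq_one]

theorem cl_one_ne_three : cl R 1 ≠ cl R 3 := by
  rw [cl, cl, Ne, mk_eq_iff hR, pow_one]
  exact gen_one_three

theorem cl_two_ne_five : cl R 2 ≠ cl R 5 := by
  rw [cl, cl, Ne, mk_eq_iff hR]
  exact gen_two_five

theorem N2_eq (a b : (ZMod 19)ˣ) :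
    N2 R (a : (ZMod 19)ˣ ⧸ R) (b : (ZMod 19)ˣ ⧸ R) = cubeCount a b := by
  classical
  rw [N2, cubeCount]
  refine congrArg Finset.card (Finset.ext fun v => ?_)
  simp only [Finset.mem_filter, Finset.mem_univ, true_and, mk_eq_iff hR]

open scoped _root_.Classical in
theorem tri_off (q : (ZMod 19)ˣ ⧸ R) :
    tri R 1 1 q = (if q = cl R 1 then 1 else 0) + 2 * if q = cl R 3 then 1 else 0 := by
  induction q using QuotientGroup.induction_on with
  | _ x =>
    rw [tri, one_div, ← QuotientGroup.mk_inv, N2_eq hR, count_off]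
    simp only [cl, mk_eq_iff hR, pow_one]

open scoped _root_.Classical in
theorem tri_dg (q : (ZMod 19)ˣ ⧸ R) :
    tri R 1 (negQ R 1) q = (if q = cl R 2 then 1 else 0) + if q = cl R 5 then 1 else 0 := by
  induction q using QuotientGroup.induction_on with
  | _ x =>
    rw [tri, one_div, negQ, mul_one, div_eq_mul_inv, ← QuotientGroup.mk_inv, ← QuotientGroup.mk_mul,
      N2_eq hR, count_dg]
    simp only [cl, mk_eq_iff hR]

theorem card_q [Fintype ((ZMod 19)ˣ ⧸ R)] : Fintype.card ((ZMod 19)ˣ ⧸ R) = 6 := by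
  have h := R.card_eq_card_quotient_mul_card_subgroup
  rw [hR, Nat.card_eq_fintype_card, ZMod.card_units, Nat.card_eq_fintype_card] at h
  omega

theorem negQ_one_ne : negQ R (1 : (ZMod 19)ˣ ⧸ R) ≠ 1 := by
  rw [negQ, mul_one, Ne, QuotientGroup.eq_one_iff]
  exact neg_one_notMem hR

omit hR in
theorem two_class : ((Units.mk0 (2 : ZMod 19) (ne_two (by norm_num)) : (ZMod 19)ˣ) : (ZMod 19)ˣ ⧸ R) =
    cl R 1 := by
  rw [cl, pow_one]
  exact congrArg _ (Units.ext gen_val.symm)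

omit hR in
theorem cosum_double (i : ZMod 19) : cosum R 1 (i + i) = cosum R (cl R 1) i := by
  have h := cosum_smul R (1 : (ZMod 19)ˣ ⧸ R) gen19 i
  rw [gen_val, mul_two, mul_one] at h
  rw [cl, pow_one]
  exact h

end Cfsg.Agent.Block.Deg16
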