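import Mathlib
import Cfsg.Agent.Lib.Block.SmallFaith.Bounds
import Cfsg.Agent.Lib.Block.PMinusTwo.Shape
import Cfsg.Agent.Lib.Block.ClassMul

/-!
The characters above a character of the centre that do not vanish on a Sylow subgroup of prime
order: the exceptional family and exactly `e` further characters, with their orthogonality relations.
-/

set_option autoImplicit false
set_option linter.unusedSectionVars false
set_option linter.style.haveILetI false
set_option maxHeartbeats 800000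

namespace Cfsg.Agent.Block.Deg16

open scoped ComplexConjugate
open scoped _root_.Classical
open Cfsg Cfsg.Agent.Block Cfsg.Agent.Char Cfsg.Agent.Char.BP Cfsg.Agent.Char.Spec
  Cfsg.Agent.Char.DefectOne Cfsg.Agent.Char.SmallDeg Cfsg.Agent.Block.PMinusTwo
  Cfsg.Agent.Block.SmallFaith

universe w

variable {G : Type w} [Group G] [Fintype G] {p : ℕ} [hp : Fact p.Prime] {u : G}
  {R : Subgroup (ZMod p)ˣ}

section Local

variable (L : Sit p u R)
include L

theorem center_of_conj {z : G} (hz : z ∈ Subgroup.center G) (h : IsConj u (z * u)) : z = 1 := by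
  obtain ⟨g, hg⟩ := isConj_iff.1 h
  refine L.center_eq_one hz ?_
  have h1 := congrArg (· ^ p) hg
  simp only [conj_pow, (show Commute z u from (Subgroup.mem_center_iff.1 hz u).symm).mul_pow] at h1
  have e : u ^ p = 1 := by
    have := pow_orderOf_eq_one u
    rwa [L.hu] at this
  rw [e, mul_one, mul_one, mul_inv_cancel] at h1
  exact h1.symm

theorem card_centralizer :
    Nat.card (Subgroup.centralizer ({u} : Set G)) = p * Nat.card (Subgroup.center G) := by
  rw [← L.card_cg]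
  refine congrArg (fun H : Subgroup G => Nat.card H) (SetLike.ext fun g => ?_)
  rw [L.mem_cg, Subgroup.mem_centralizer_singleton_iff]

/-- Column orthogonality above a character of the centre. -/
theorem column_sum [Fintype (Subgroup.center G)] (ψ₀ : IrrCharacter G) (g : G) :
    ∑ ψ ∈ overC ψ₀, (ψ : G → ℂ) g * conj ((ψ : G → ℂ) u) =
      (Nat.card (Subgroup.center G) : ℂ)⁻¹ * ∑ z : Subgroup.center G, (omega ψ₀ z : ℂ) *
        (if IsConj g ((z : G) * u) then
          (Nat.card (Subgroup.centralizer ({(z : G) * u} : Set G)) : ℂ) else 0) := by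
  classical
  have h := average ψ₀ fun ψ => (ψ : G → ℂ) g * conj ((ψ : G → ℂ) u)
  rw [eq_inv_mul_iff_mul_eq₀ (Nat.cast_ne_zero.2 (Nat.card_pos (α := Subgroup.center G)).ne'), ← h]
  refine Finset.sum_congr rfl fun z _ => ?_
  rw [Finset.sum_congr rfl (g := fun ψ : IrrCharacter G =>
    (ψ : G → ℂ) g * conj ((ψ : G → ℂ) ((z : G) * u))) fun ψ _ => by rw [omega_spec, map_mul]; ring,
    Char.sum_irr_mul_conj]
  split_ifs <;> rfl

theorem column_self (ψ₀ : IrrCharacter G) :
    ∑ ψ ∈ overC ψ₀, (ψ : G → ℂ) u * conj ((ψ : G → ℂ) u) = (p : ℂ) := by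
  classical
  letI := Fintype.ofFinite (Subgroup.center G)
  rw [column_sum L, Finset.sum_eq_single (1 : Subgroup.center G)]
  · rw [OneMemClass.coe_one, one_mul, if_pos (IsConj.refl u), card_centralizer L, map_one,
      Units.val_one, one_mul]
    push_cast
    field_simp [Nat.cast_ne_zero.2 (Nat.card_pos (α := Subgroup.center G)).ne']
  · intro z _ hz
    rw [if_neg fun h => hz (Subtype.ext (center_of_conj L z.2 h)), mul_zero]
  · exact fun h => absurd (Finset.mem_univ _) h

theorem column_regular (ψ₀ : IrrCharacter G) {g : G} (hg : ¬ p ∣ orderOf g) :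
    ∑ ψ ∈ overC ψ₀, (ψ : G → ℂ) g * conj ((ψ : G → ℂ) u) = 0 := by
  classical
  letI := Fintype.ofFinite (Subgroup.center G)
  rw [column_sum L, Finset.sum_eq_zero fun z _ => ?_, mul_zero]
  rw [if_neg fun h => ?_, mul_zero]
  obtain ⟨k, hk⟩ := isConj_iff.1 h
  refine hg ?_
  have h1 : orderOf g = orderOf ((z : G) * u) := by
    rw [← hk, show k * g * k⁻¹ = MulAut.conj k g by simp, MulEquiv.orderOf_eq]
  rw [h1, ← Subgroup.mem_center_iff.1 z.2 u]
  have := L.singular_pw (i := (1 : ZMod p)) one_ne_zero z.2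
  rwa [L.pw_one'] at this

theorem not_dvd_of_ne_zero (ψ : IrrCharacter G) {g : G} (hg : p ∣ orderOf g)
    (hψ : (ψ : G → ℂ) g ≠ 0) : ¬ p ∣ charDegree (ψ : G → ℂ) := by
  intro hd
  obtain ⟨M, hM⟩ := exists_isPModular p hp.out
  have hfac : (Nat.card G).factorization p = 1 := by
    rw [← (Subgroup.zpowers u).card_mul_index, Nat.card_zpowers, L.hu,
      Nat.factorization_mul hp.out.ne_zero
      Subgroup.index_ne_zero_of_finite, Finsupp.add_apply, hp.out.factorization_self,
      Nat.factorization_eq_zero_of_not_dvd L.hsyl]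
  refine hψ (defectZero_vanish hM ψ ?_ hg)
  refine le_antisymm ((Nat.factorization_le_iff_dvd (charDeg_pos ψ).ne' Nat.card_pos.ne').2
    (charDeg_dvd ψ) p) ?_
  rw [hfac]
  exact (hp.out.dvd_iff_one_le_factorization (charDeg_pos ψ).ne').1 hd

/-- The sum over the powers of `u` is `p` times a natural number. -/
theorem exists_fix {Φ : G → ℂ} (hΦ : IsCharacter G Φ) :
    ∃ k : ℕ, ∑ i : ZMod p, Φ (pw u i) = (p : ℂ) * k := by
  classical
  obtain ⟨m, hm⟩ := exists_pmult L.cardP (Subgroup.mem_zpowers u) L.u_ne hΦ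
  refine ⟨m 0, ?_⟩
  simp only [hm]
  rw [Finset.sum_comm, Finset.sum_eq_single (0 : ZMod p)]
  · simp [mul_comm]
  · intro l _ hl
    rw [← Finset.mul_sum, ψc_sum, if_neg hl, mul_zero]
  · exact fun h => absurd (Finset.mem_univ _) h

theorem exists_fix_const (ψ : IrrCharacter G) (c : ℤ)
    (hc : ∀ i : ZMod p, i ≠ 0 → (ψ : G → ℂ) (pw u i) = (c : ℂ)) :
    ∃ k : ℕ, (charDegree (ψ : G → ℂ) : ℤ) + ((p : ℤ) - 1) * c = p * k := by
  obtain ⟨k, hk⟩ := exists_fix L (IsIrr.isCharacter ψ.2)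
  refine ⟨k, Int.cast_injective (α := ℂ) ?_⟩
  rw [← Finset.add_sum_erase _ _ (Finset.mem_univ (0 : ZMod p)),
    Finset.sum_congr rfl fun i hi => hc i (Finset.ne_of_mem_erase hi), Finset.sum_const,
    Finset.card_erase_of_mem (Finset.mem_univ _), Finset.card_univ, ZMod.card, nsmul_eq_mul,
    show pw u (0 : ZMod p) = 1 by simp [pw], charDeg_spec', Nat.cast_sub hp.out.one_le,
    Nat.cast_one] at hk
  push_cast
  exact hk

end Local

theorem sum_classes_sq [Fintype ((ZMod p)ˣ ⧸ R)] :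
    ∑ q, cosum R q (1 : ZMod p) * conj (cosum R q (1 : ZMod p)) =
      (p : ℂ) - (Nat.card R : ℂ) := by
  classical
  set S : ZMod p → ℂ := fun i => ∑ q, cosum R q i * conj (cosum R q i)
  have hS : ∀ i : ZMod p, i ≠ 0 → S i = S 1 := fun i hi => by
    simp only [S]
    refine Fintype.sum_equiv (Equiv.mulLeft ((Units.mk0 i hi : (ZMod p)ˣ) : (ZMod p)ˣ ⧸ R)) _ _
      fun q => ?_
    have h := cosum_smul R q (Units.mk0 i hi) (1 : ZMod p)
    rw [Units.val_mk0, one_mul] at h
    rw [h, Equiv.coe_mulLeft]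
  have htot : ∑ i : ZMod p, S i = (Fintype.card ((ZMod p)ˣ ⧸ R) : ℂ) * ((p : ℂ) * Nat.card R) := by
    simp only [S]
    rw [Finset.sum_comm, Finset.sum_congr rfl (g := fun _ => (p : ℂ) * Nat.card R) fun q _ => by
      rw [sum_pair, if_pos rfl], Finset.sum_const, Finset.card_univ, nsmul_eq_mul]
  rw [← Finset.add_sum_erase _ _ (Finset.mem_univ (0 : ZMod p)),
    Finset.sum_congr rfl fun i hi => hS i (Finset.ne_of_mem_erase hi), Finset.sum_const,
    Finset.card_erase_of_mem (Finset.mem_univ _), Finset.card_univ, ZMod.card, nsmul_eq_mul,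
    Nat.cast_sub hp.out.one_le, Nat.cast_one] at htot
  simp only [S, cosum_zero, map_natCast, Finset.sum_const, Finset.card_univ, nsmul_eq_mul] at htot
  have hQ : (Fintype.card ((ZMod p)ˣ ⧸ R) : ℂ) * Nat.card R = (p : ℂ) - 1 := by
    have h := R.card_eq_card_quotient_mul_card_subgroup
    rw [Nat.card_eq_fintype_card, ZMod.card_units, Nat.card_eq_fintype_card
      (α := (ZMod p)ˣ ⧸ R)] at h
    rw [← Nat.cast_mul, ← h, Nat.cast_sub hp.out.one_le, Nat.cast_one]
  have hp1 : (p : ℂ) - 1 ≠ 0 := sub_ne_zero.2 (by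
    exact_mod_cast hp.out.ne_one)
  refine mul_left_cancel₀ hp1 ?_
  linear_combination htot + ((p : ℂ) - Nat.card R) * hQ

theorem sum_classes_conj [Fintype ((ZMod p)ˣ ⧸ R)] :
    ∑ q, conj (cosum R q (1 : ZMod p)) = -1 := by
  rw [← map_sum, sum_classes R one_ne_zero, map_neg, map_one]

variable {τ : Subgroup.center G →* ℂˣ} {Y Y' : (ZMod p)ˣ ⧸ R → IrrCharacter G} {δ δ' : ℤ}

/-- The characters above `τ` besides the family that do not vanish on `u`. -/
noncomputable def others (u : G) (τ : Subgroup.center G →* ℂˣ)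
    (Y : (ZMod p)ˣ ⧸ R → IrrCharacter G) : Finset (IrrCharacter G) :=
  @Finset.filter _ (fun ψ => omega ψ = τ ∧ (ψ : G → ℂ) u ≠ 0 ∧ ψ ∉ Set.range Y) (Classical.decPred _)
    Finset.univ

theorem mem_others {ψ : IrrCharacter G} :
    ψ ∈ others u τ Y ↔ omega ψ = τ ∧ (ψ : G → ℂ) u ≠ 0 ∧ ψ ∉ Set.range Y := by
  simp [others]

theorem sign_sum_eq [Fintype ((ZMod p)ˣ ⧸ R)] (F : Fam p u R τ Y δ) (L : Sit p u R) :
    ∑ q, (Y q : G → ℂ) u * conj ((Y q : G → ℂ) u) = (p : ℂ) - (Nat.card R : ℂ) := by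
  rw [← sum_classes_sq (R := R)]
  refine Finset.sum_congr rfl fun q _ => ?_
  rw [← L.pw_one', F.val q 1 one_ne_zero, map_mul, map_intCast]
  rcases F.sign with h | h <;> rw [h] <;> push_cast <;> ring

/-- Two families above the same central character with a common member have the same members. -/
theorem range_subset (F : Fam p u R τ Y δ) (F' : Fam p u R τ Y' δ') (L : Sit p u R)
    (he : Nat.card R + 1 < p) (h : ∃ a b, Y' a = Y b) : ∀ q, Y' q ∈ Set.range Y := by
  classical
  letI : Fintype ((ZMod p)ˣ ⧸ R) := Fintype.ofFinite _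
  obtain ⟨a, b, hab⟩ := h
  have hδ : δ' = δ := by
    have h1 := F'.sum_erase a
    rw [hab, F.sum_erase b, neg_inj] at h1
    exact Int.cast_injective (α := ℂ)
      (mul_right_cancel₀ (Nat.cast_ne_zero.2 (Nat.card_pos (α := R)).ne') h1.symm)
  intro q
  refine ⟨q, Subtype.ext (funext fun g => ?_)⟩
  by_cases hg : p ∣ orderOf g
  · obtain ⟨k, i, z, hi, hz, rfl⟩ := L.exists_form hg
    rw [irr_classFun (Y q), irr_classFun (Y' q), F.val_center q hi ⟨z, hz⟩,
      F'.val_center q hi ⟨z, hz⟩, hδ]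
  · rw [F.agree q b g hg, F'.agree q a g hg, hab]

theorem value_others (F : Fam p u R τ Y δ) (L : Sit p u R) (he : 2 * Nat.card R < p)
    {ψ : IrrCharacter G} (hom : omega ψ = τ) (hY : ψ ∉ Set.range Y) {i₀ : ZMod p} (hi₀ : i₀ ≠ 0)
    (hne : (ψ : G → ℂ) (pw u i₀) ≠ 0) :
    ∃ c : ℤ, (c = 1 ∨ c = -1) ∧ ∀ i : ZMod p, i ≠ 0 → (ψ : G → ℂ) (pw u i) = (c : ℂ) := by
  classical
  letI : Fintype ((ZMod p)ˣ ⧸ R) := Fintype.ofFinite _
  have hR : 0 < Nat.card R := Nat.card_pos
  obtain ⟨Y', δ', F', hor⟩ := exists_fam L ψ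
    (not_dvd_of_ne_zero L ψ (dvd_of_eq (L.orderOf_pw hi₀).symm) hne)
  rw [hom] at F'
  refine hor.resolve_left fun ⟨q, hq⟩ => ?_
  have hdisj : Disjoint (Finset.univ.image Y) (Finset.univ.image Y') := by
    rw [Finset.disjoint_left]
    intro θ h1 h2
    obtain ⟨b, -, rfl⟩ := Finset.mem_image.1 h1
    obtain ⟨a, -, hab⟩ := Finset.mem_image.1 h2
    exact hY (hq ▸ range_subset F F' L (by omega) ⟨a, b, hab⟩ q)
  have hsub : Finset.univ.image Y ∪ Finset.univ.image Y' ⊆ overC ψ := by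
    intro θ hθ
    rw [mem_overC, hom]
    rcases Finset.mem_union.1 hθ with h | h <;> obtain ⟨x, -, rfl⟩ := Finset.mem_image.1 h
    · exact F.om x
    · exact F'.om x
  have h := column_self L ψ
  have hre : ∀ θ : IrrCharacter G, 0 ≤ ((θ : G → ℂ) u * conj ((θ : G → ℂ) u)).re := fun θ => by
    rw [Complex.mul_conj, Complex.ofReal_re]
    exact Complex.normSq_nonneg _
  have hle : ((∑ θ ∈ Finset.univ.image Y ∪ Finset.univ.image Y',
      (θ : G → ℂ) u * conj ((θ : G → ℂ) u)) : ℂ).re ≤ (p : ℝ) := by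
    rw [← Complex.natCast_re p, ← h, Complex.re_sum, Complex.re_sum]
    exact Finset.sum_le_sum_of_subset_of_nonneg hsub fun θ _ _ => hre θ
  rw [Finset.sum_union hdisj, Finset.sum_image fun x _ y _ e => F.inj e,
    Finset.sum_image fun x _ y _ e => F'.inj e, sign_sum_eq F L, sign_sum_eq F' L] at hle
  simp only [Complex.add_re, Complex.sub_re, Complex.natCast_re] at hle
  have : (2 * (Nat.card R : ℝ) < (p : ℝ)) := by exact_mod_cast he
  linarith

/-- The sign of a character outside the family. -/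
noncomputable def sgn (u : G) (ψ : IrrCharacter G) : ℤ :=
  if (ψ : G → ℂ) u = 1 then 1 else -1

theorem sgn_cases (ψ : IrrCharacter G) : sgn u ψ = 1 ∨ sgn u ψ = -1 := by
  unfold sgn
  split <;> simp

theorem sgn_sq (ψ : IrrCharacter G) : sgn u ψ * sgn u ψ = 1 := by
  rcases sgn_cases (u := u) ψ with h | h <;> rw [h] <;> norm_num

variable (F : Fam p u R τ Y δ) (L : Sit p u R) (he : 2 * Nat.card R < p)
include F L he

theorem others_val {ψ : IrrCharacter G} (hψ : ψ ∈ others u τ Y) {i : ZMod p} (hi : i ≠ 0) :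
    (ψ : G → ℂ) (pw u i) = (sgn u ψ : ℂ) := by
  obtain ⟨h1, h2, h3⟩ := mem_others.1 hψ
  obtain ⟨c, hc, hv⟩ := value_others F L he h1 h3 (i₀ := (1 : ZMod p)) one_ne_zero (by
    rwa [L.pw_one'])
  have hu := hv 1 one_ne_zero
  rw [L.pw_one'] at hu
  rw [hv i hi, sgn, hu]
  rcases hc with rfl | rfl <;> norm_num

/-- The rest vanishes on the powers of `u`. -/
theorem rest_val {ψ : IrrCharacter G} (hom : omega ψ = τ) (hY : ψ ∉ Set.range Y)
    (hX : ψ ∉ others u τ Y) {i : ZMod p} (hi : i ≠ 0) : (ψ : G → ℂ) (pw u i) = 0 := by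
  by_contra hne
  obtain ⟨c, hc, hv⟩ := value_others F L he hom hY hi hne
  refine hX (mem_others.2 ⟨hom, ?_, hY⟩)
  have hu := hv 1 one_ne_zero
  rw [L.pw_one'] at hu
  rw [hu]
  rcases hc with rfl | rfl <;> norm_num

theorem sum_over [Fintype ((ZMod p)ˣ ⧸ R)] (H : IrrCharacter G → ℂ) :
    ∑ ψ ∈ overC (Y 1), H ψ * conj ((ψ : G → ℂ) u) =
      (δ : ℂ) * ∑ q, H (Y q) * conj (cosum R q (1 : ZMod p)) +
        ∑ ψ ∈ others u τ Y, (sgn u ψ : ℂ) * H ψ := by
  classical
  have hsub : Finset.univ.image Y ∪ others u τ Y ⊆ overC (Y 1) := by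
    intro θ hθ
    rw [mem_overC, F.om]
    rcases Finset.mem_union.1 hθ with h | h
    · obtain ⟨x, -, rfl⟩ := Finset.mem_image.1 h
      exact F.om x
    · exact (mem_others.1 h).1
  rw [← Finset.sum_subset hsub fun θ hθ hn => ?_, Finset.sum_union ?_,
    Finset.sum_image fun x _ y _ e => F.inj e, Finset.mul_sum]
  · congr 1
    · refine Finset.sum_congr rfl fun q _ => ?_
      rw [← L.pw_one', F.val q 1 one_ne_zero, map_mul, map_intCast]
      ring
    · refine Finset.sum_congr rfl fun θ hθ => ?_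
      conv_lhs => rw [← L.pw_one', others_val F L he hθ one_ne_zero, map_intCast]
      ring
  · rw [Finset.disjoint_left]
    intro θ h1 h2
    obtain ⟨q, -, rfl⟩ := Finset.mem_image.1 h1
    exact (mem_others.1 h2).2.2 ⟨q, rfl⟩
  · rw [mem_overC, F.om] at hθ
    rw [Finset.mem_union, not_or] at hn
    have := rest_val F L he hθ (fun ⟨q, hq⟩ => hn.1 (Finset.mem_image.2 ⟨q, Finset.mem_univ _, hq⟩))
      hn.2 (i := (1 : ZMod p)) one_ne_zero
    rw [L.pw_one'] at this
    rw [this, map_zero, mul_zero]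

/-- There are exactly `e` further characters. -/
theorem card_others : (others u τ Y).card = Nat.card R := by
  classical
  letI : Fintype ((ZMod p)ˣ ⧸ R) := Fintype.ofFinite _
  have h := sum_over F L he fun ψ => (ψ : G → ℂ) u
  rw [column_self L, Finset.sum_congr rfl (s₂ := others u τ Y) (g := fun _ => (1 : ℂ))
    fun ψ hψ => ?_] at h
  · rw [Finset.sum_const, nsmul_one] at h
    have h2 := sum_classes_sq (R := R)
    have h3 : (δ : ℂ) * ∑ q, (Y q : G → ℂ) u * conj (cosum R q (1 : ZMod p)) =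
        (p : ℂ) - (Nat.card R : ℂ) := by
      rw [← h2, Finset.mul_sum]
      refine Finset.sum_congr rfl fun q _ => ?_
      rw [← L.pw_one', F.val q 1 one_ne_zero]
      rcases F.sign with e | e <;> rw [e] <;> push_cast <;> ring
    rw [h3] at h
    exact Nat.cast_injective (R := ℂ) (by linear_combination -h)
  · have e := others_val F L he hψ (i := (1 : ZMod p)) one_ne_zero
    rw [L.pw_one'] at e
    rw [e, ← Int.cast_mul, sgn_sq, Int.cast_one]

/-- Orthogonality at a regular element. -/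
theorem orth_regular {g : G} (hg : ¬ p ∣ orderOf g) :
    ∑ ψ ∈ others u τ Y, (sgn u ψ : ℂ) * (ψ : G → ℂ) g = (δ : ℂ) * (Y 1 : G → ℂ) g := by
  classical
  letI : Fintype ((ZMod p)ˣ ⧸ R) := Fintype.ofFinite _
  have h := sum_over F L he fun ψ => (ψ : G → ℂ) g
  rw [column_regular L _ hg, Finset.sum_congr rfl fun q _ => by rw [F.agree q 1 g hg],
    ← Finset.mul_sum, sum_classes_conj] at h
  linear_combination -h

theorem orth_deg :
    ∑ ψ ∈ others u τ Y, sgn u ψ * (charDegree (ψ : G → ℂ) : ℤ) =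
      δ * (charDegree (Y 1 : G → ℂ) : ℤ) := by
  apply Int.cast_injective (α := ℂ)
  have h := orth_regular F L he (g := (1 : G)) (by rw [orderOf_one]; exact hp.out.not_dvd_one)
  simp only [charDeg_spec'] at h
  push_cast
  exact h

omit F in
/-- A product of `t` with a conjugate is not a conjugate of `z u`, if nothing inverts `u`. -/
theorem not_conj_product {t : G} (ht : t * t ∈ Subgroup.center G) (hinv : (-1 : (ZMod p)ˣ) ∉ R)
    {z : G} (hz : z ∈ Subgroup.center G) (g : G) : ¬ IsConj (t * (g * t * g⁻¹)) (z * u) := by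
  intro hc
  obtain ⟨k, hk⟩ := isConj_iff.1 hc
  set t₂ := g * t * g⁻¹
  set c := t * t
  have hcz := Subgroup.mem_center_iff.1 ht
  have ht₂ : t₂ * t₂ = c := by
    show g * t * g⁻¹ * (g * t * g⁻¹) = c
    rw [show g * t * g⁻¹ * (g * t * g⁻¹) = g * c * g⁻¹ by simp only [c]; group, hcz g,
      mul_inv_cancel_right]
  have hw : t * (t * t₂) * t⁻¹ = (t * t₂)⁻¹ * (c * c) := by
    calc t * (t * t₂) * t⁻¹ = c * t₂ * t⁻¹ := by simp only [c]; group
      _ = t₂ * c * t⁻¹ := by rw [hcz t₂]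
      _ = t₂ * t := by simp only [c]; group
      _ = (t * t₂)⁻¹ * ((t * t₂) * (t₂ * t)) := by group
      _ = (t * t₂)⁻¹ * (t * c * t) := by rw [← ht₂]; group
      _ = _ := by rw [hcz t, mul_assoc c t t]
  set s := k * t * k⁻¹
  set c' := c * c
  have hc' : c' ∈ Subgroup.center G := mul_mem ht ht
  have h1 : s * (z * u) * s⁻¹ = (z * u)⁻¹ * c' := by
    rw [← hk]
    calc s * (k * (t * t₂) * k⁻¹) * s⁻¹ = k * (t * (t * t₂) * t⁻¹) * k⁻¹ := by
          simp only [s]; group
      _ = k * ((t * t₂)⁻¹ * c') * k⁻¹ := by rw [hw]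
      _ = (k * (t * t₂)⁻¹ * k⁻¹) * (k * c' * k⁻¹) := by group
      _ = _ := by rw [Subgroup.mem_center_iff.1 hc' k, mul_inv_cancel_right]; group
  set v := z⁻¹ * z⁻¹ * c'
  have hv : v ∈ Subgroup.center G := mul_mem (mul_mem (inv_mem hz) (inv_mem hz)) hc'
  have hzc := Subgroup.mem_center_iff.1 hz
  have h2 : s * u * s⁻¹ = u⁻¹ * v := by
    calc s * u * s⁻¹ = z⁻¹ * (s * (z * u) * s⁻¹) := by
          rw [← mul_assoc s z u, hzc s]; group
      _ = z⁻¹ * ((z * u)⁻¹ * c') := by rw [h1]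
      _ = _ := by
        simp only [v, mul_inv_rev, ← mul_assoc]
        rw [← Subgroup.mem_center_iff.1 (inv_mem hz) u⁻¹]
  have hv1 : v = 1 := by
    refine L.center_eq_one hv ?_
    have h3 := congrArg (· ^ p) h2
    have e : u ^ p = 1 := by
      have := pow_orderOf_eq_one u
      rwa [L.hu] at this
    simp only [conj_pow, (show Commute u⁻¹ v from Subgroup.mem_center_iff.1 hv _).mul_pow, inv_pow,
      e, inv_one, one_mul, mul_one, mul_inv_cancel] at h3
    exact h3.symm
  rw [hv1, mul_one] at h2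
  refine hinv ((L.mem_R _).2 ⟨s, ?_⟩)
  rw [h2, Units.val_neg, Units.val_one]
  refine inv_eq_of_mul_eq_one_right ?_
  conv_lhs => arg 1; rw [← L.pw_one']
  rw [L.pw_add, add_neg_cancel]
  simp [pw]

/-- The relation from the class multiplication. -/
theorem class_mul {t : G} (ht : t * t ∈ Subgroup.center G) (htr : ¬ p ∣ orderOf t)
    (hinv : (-1 : (ZMod p)ˣ) ∉ R) :
    ∑ ψ ∈ others u τ Y, (sgn u ψ : ℂ) * ((ψ : G → ℂ) t ^ 2 / (ψ : G → ℂ) 1) =
      (δ : ℂ) * ((Y 1 : G → ℂ) t ^ 2 / (Y 1 : G → ℂ) 1) := by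
  classical
  letI : Fintype ((ZMod p)ˣ ⧸ R) := Fintype.ofFinite _
  letI := Fintype.ofFinite (Subgroup.center G)
  have hz : ∀ z : Subgroup.center G, ∑ ψ : IrrCharacter G, conj (omega ψ z : ℂ) *
      ((ψ : G → ℂ) t ^ 2 / (ψ : G → ℂ) 1 * conj ((ψ : G → ℂ) u)) = 0 := by
    intro z
    set w := (z : G) * u
    let f : G → ℂ := fun x => if IsConj x w then 1 else 0
    have hf : IsClassFunction G f := fun x y => by
      simp only [f]
      have : IsConj (y * x * y⁻¹) w ↔ IsConj x w := by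
        have hc : IsConj x (y * x * y⁻¹) := isConj_iff.mpr ⟨y, rfl⟩
        exact ⟨fun H => hc.trans H, fun H => hc.symm.trans H⟩
      rw [if_congr this rfl rfl]
    have hin : ∀ ψ : IrrCharacter G, classInner f ψ =
        (Nat.card G : ℂ)⁻¹ * ((Finset.univ.filter fun x => IsConj x w).card : ℂ) *
          conj ((ψ : G → ℂ) w) := by
      intro ψ
      simp only [classInner, f, ite_mul, one_mul, zero_mul, ← Finset.sum_filter]
      rw [Finset.sum_congr rfl (g := fun _ => conj ((ψ : G → ℂ) w)) fun x hx => ?_,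
        Finset.sum_const, nsmul_eq_mul, mul_assoc]
      obtain ⟨y, hy⟩ := isConj_iff.1 (Finset.mem_filter.1 hx).2
      rw [← hy, irr_classFun ψ]
    have h := sum_classFun_mul_conj hf t t
    rw [Finset.sum_eq_zero (fun g _ => if_neg (not_conj_product L he ht hinv z.2 g)), mul_zero] at h
    simp only [hin, mul_assoc] at h
    simp only [mul_div_assoc, ← Finset.mul_sum] at h
    have hne : (Nat.card G : ℂ)⁻¹ ≠ 0 := inv_ne_zero (Nat.cast_ne_zero.2 Nat.card_pos.ne')
    have hne2 : ((Finset.univ.filter fun x => IsConj x w).card : ℂ) ≠ 0 :=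
      Nat.cast_ne_zero.2 (Finset.card_ne_zero.2 ⟨w, Finset.mem_filter.2
        ⟨Finset.mem_univ _, IsConj.refl w⟩⟩)
    have h1 := ((mul_eq_zero.1 ((mul_eq_zero.1 h.symm).resolve_left hne)).resolve_left hne2)
    rw [← h1]
    refine Finset.sum_congr rfl fun ψ _ => ?_
    simp only [w, omega_spec, map_mul]
    ring
  have h := average (Y 1) fun ψ => (ψ : G → ℂ) t ^ 2 / (ψ : G → ℂ) 1 * conj ((ψ : G → ℂ) u)
  rw [Finset.sum_eq_zero fun z _ => by rw [hz z, mul_zero], eq_comm, mul_eq_zero,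
    or_iff_right (Nat.cast_ne_zero.2 (Nat.card_pos (α := Subgroup.center G)).ne')] at h
  rw [sum_over F L he fun ψ => (ψ : G → ℂ) t ^ 2 / (ψ : G → ℂ) 1] at h
  rw [Finset.sum_congr rfl fun q _ => by
    rw [F.agree q 1 t htr, F.agree q 1 1 (by rw [orderOf_one]; exact hp.out.not_dvd_one)],
    ← Finset.mul_sum, sum_classes_conj] at h
  linear_combination h

/-- The degree of the family. -/
theorem exists_fix_fam (q : (ZMod p)ˣ ⧸ R) :
    ∃ k : ℕ, (charDegree (Y q : G → ℂ) : ℤ) = p * k + δ * (Nat.card R : ℤ) := by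
  obtain ⟨k, hk⟩ := exists_fix L (IsIrr.isCharacter (Y q).2)
  refine ⟨k, Int.cast_injective (α := ℂ) ?_⟩
  rw [← Finset.add_sum_erase _ _ (Finset.mem_univ (0 : ZMod p)), F.sum_erase,
    show pw u (0 : ZMod p) = 1 by simp [pw], charDeg_spec'] at hk
  push_cast
  linear_combination hk

end Cfsg.Agent.Block.Deg16
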