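import Mathlib
import Cfsg.Agent.Lib.Block.Deg16.Over
import Cfsg.Agent.Lib.Block.Deg16.Cyclo19

/-!
The decomposition of a character with given values on the powers of `u` into the members of the
family, the further characters, and characters vanishing at `u`.
-/

set_option autoImplicit false
set_option linter.unusedSectionVars false
set_option linter.style.haveILetI false
set_option maxHeartbeats 800000

namespace Cfsg.Agent.Block.Deg16

open scoped ComplexConjugate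
open scoped _root_.Classical
open Cfsg Cfsg.Agent.Block Cfsg.Agent.Char Cfsg.Agent.Char.BP Cfsg.Agent.Char.Spec
  Cfsg.Agent.Char.DefectOne Cfsg.Agent.Block.PMinusTwo Cfsg.Agent.Block.SmallFaith

universe w

variable {G : Type w} [Group G] [Fintype G] [hp : Fact (Nat.Prime 19)] {u : G}
  {R : Subgroup (ZMod 19)ˣ} {τ : Subgroup.center G →* ℂˣ}
  {Y : (ZMod 19)ˣ ⧸ R → IrrCharacter G} {δ : ℤ}

/-- The characters above `τ` that vanish on the powers of `u`. -/
noncomputable def rest (u : G) (τ : Subgroup.center G →* ℂˣ)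
    (Y : (ZMod 19)ˣ ⧸ R → IrrCharacter G) : Finset (IrrCharacter G) :=
  @Finset.filter _ (fun ψ => omega ψ = τ ∧ ψ ∉ Set.range Y ∧ ψ ∉ others u τ Y) (Classical.decPred _)
    Finset.univ

theorem mem_rest {ψ : IrrCharacter G} :
    ψ ∈ rest u τ Y ↔ omega ψ = τ ∧ ψ ∉ Set.range Y ∧ ψ ∉ others u τ Y := by
  simp [rest]

/-- A class function that transforms by `τ` has its constituents above `τ`. -/
theorem omega_of_inner {Φ : G → ℂ} (hτ : ∀ (z : Subgroup.center G) (g : G),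
    Φ ((z : G) * g) = (τ z : ℂ) * Φ g) (ψ : IrrCharacter G)
    (h : classInner Φ (ψ : G → ℂ) ≠ 0) : omega ψ = τ := by
  refine MonoidHom.ext fun z => Units.ext ?_
  have h1 : classInner Φ (ψ : G → ℂ) =
      (τ z : ℂ) * conj (omega ψ z : ℂ) * classInner Φ (ψ : G → ℂ) := by
    conv_lhs => simp only [classInner]; rw [← Equiv.sum_comp (Equiv.mulLeft (z : G))]
    conv_rhs => simp only [classInner]; rw [mul_left_comm, Finset.mul_sum]
    refine congrArg _ (Finset.sum_congr rfl fun g _ => ?_)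
    simp only [Equiv.coe_mulLeft, hτ, omega_spec, map_mul]
    ring
  have h2 : (τ z : ℂ) * conj (omega ψ z : ℂ) = 1 := by
    refine mul_right_cancel₀ h ?_
    rw [one_mul, ← h1]
  calc (omega ψ z : ℂ) = (τ z : ℂ) * conj (omega ψ z : ℂ) * (omega ψ z : ℂ) := by
        rw [h2, one_mul]
    _ = _ := by rw [mul_assoc, omega_conj_mul, mul_one]

theorem value_center {Φ : G → ℂ} (hτ : ∀ (z : Subgroup.center G) (g : G),
    Φ ((z : G) * g) = (τ z : ℂ) * Φ g) (g : G) (z : Subgroup.center G) :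
    Φ (g * (z : G)) = (τ z : ℂ) * Φ g := by
  rw [Subgroup.mem_center_iff.1 z.2 g, hτ]

variable [Fintype ((ZMod 19)ˣ ⧸ R)] (F : Fam 19 u R τ Y δ) (L : Sit 19 u R)
  (hR : Nat.card R = 3)

/-- The multiplicities in a character with the values `f` on the powers of `u`. -/
structure Counts (u : G) (τ : Subgroup.center G →* ℂˣ) (Y : (ZMod 19)ˣ ⧸ R → IrrCharacter G)
    (δ : ℤ) (Φ : G → ℂ) (f : ZMod 19 → ℂ) (P : (ZMod 19)ˣ ⧸ R → ℤ)
    (K : ℤ) (M : (ZMod 19)ˣ ⧸ R → ℕ) (m : IrrCharacter G → ℕ) : Prop where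
  shift : ∀ q, (M q : ℤ) = K + δ * P q
  inner : ∀ ψ : IrrCharacter G, classInner Φ (ψ : G → ℂ) = (m ψ : ℂ)
  fam : ∀ q, M q = m (Y q)
  decomp : ∀ g, Φ g = ∑ q, (M q : ℂ) * (Y q : G → ℂ) g +
    (∑ ψ ∈ others u τ Y, (m ψ : ℂ) * (ψ : G → ℂ) g +
      ∑ ψ ∈ rest u τ Y, (m ψ : ℂ) * (ψ : G → ℂ) g)
  sum_f : ∑ i ∈ Finset.univ.erase (0 : ZMod 19), f i =
    (((-3) * δ * ∑ q, (M q : ℤ) + 18 * ∑ ψ ∈ others u τ Y, sgn u ψ * (m ψ : ℤ) : ℤ) : ℂ)
  norm : classInner Φ Φ = ((∑ q, M q ^ 2 + (∑ ψ ∈ others u τ Y, m ψ ^ 2 +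
    ∑ ψ ∈ rest u τ Y, m ψ ^ 2) : ℕ) : ℂ)

include F L hR

theorem rest_zero {ψ : IrrCharacter G} (h : ψ ∈ rest u τ Y) {i : ZMod 19} (hi : i ≠ 0) :
    (ψ : G → ℂ) (pw u i) = 0 := by
  obtain ⟨h1, h2, h3⟩ := mem_rest.1 h
  exact rest_val F L (by rw [hR]; norm_num) h1 h2 h3 hi

theorem rest_deg {ψ : IrrCharacter G} (h : ψ ∈ rest u τ Y) : 19 ∣ charDegree (ψ : G → ℂ) := by
  obtain ⟨k, hk⟩ := exists_fix_const L ψ 0 fun i hi => by
    rw [rest_zero F L hR h hi, Int.cast_zero]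
  refine Int.natCast_dvd_natCast.1 ⟨(k : ℤ), ?_⟩
  rw [mul_zero, add_zero] at hk
  exact_mod_cast hk

theorem exists_counts {Φ : G → ℂ} (hΦ : IsCharacter G Φ)
    (hτ : ∀ (z : Subgroup.center G) (g : G), Φ ((z : G) * g) = (τ z : ℂ) * Φ g)
    (f : ZMod 19 → ℂ) (hf : ∀ i : ZMod 19, i ≠ 0 → Φ (pw u i) = f i)
    (P : (ZMod 19)ˣ ⧸ R → ℤ)
    (hP : ∀ q, ∑ i : ZMod 19, f i * conj (cosum R q i) = 57 * (P q : ℂ)) :
    ∃ (K : ℤ) (M : (ZMod 19)ˣ ⧸ R → ℕ) (m : IrrCharacter G → ℕ), Counts u τ Y δ Φ f P K M m := by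
  classical
  obtain ⟨a, ha, hdec⟩ := IsChar.exists_decomp_inner hΦ
  have hzero : ∀ ψ : IrrCharacter G, omega ψ ≠ τ → a ψ = 0 := fun ψ hψ => by
    by_contra h
    exact hψ (omega_of_inner hτ ψ (by rw [ha]; exact_mod_cast h))
  have hdisj : Disjoint (Finset.univ.image Y) (others u τ Y ∪ rest u τ Y) := by
    rw [Finset.disjoint_left]
    intro θ h1 h2
    obtain ⟨q, -, rfl⟩ := Finset.mem_image.1 h1
    rcases Finset.mem_union.1 h2 with h | h
    · exact (mem_others.1 h).2.2 ⟨q, rfl⟩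
    · exact (mem_rest.1 h).2.1 ⟨q, rfl⟩
  have hdisj' : Disjoint (others u τ Y) (rest u τ Y) := by
    rw [Finset.disjoint_left]
    intro θ h1 h2
    exact (mem_rest.1 h2).2.2 h1
  have hsplit : ∀ H : IrrCharacter G → ℂ, ∑ ψ : IrrCharacter G, (a ψ : ℂ) * H ψ =
      ∑ q, (a (Y q) : ℂ) * H (Y q) + (∑ ψ ∈ others u τ Y, (a ψ : ℂ) * H ψ +
        ∑ ψ ∈ rest u τ Y, (a ψ : ℂ) * H ψ) := by
    intro H
    rw [← Finset.sum_union hdisj', ← Finset.sum_image (f := fun ψ => (a ψ : ℂ) * H ψ)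
      (fun x _ y _ e => F.inj e), ← Finset.sum_union hdisj]
    refine (Finset.sum_subset (Finset.subset_univ _) fun ψ _ hn => ?_).symm
    by_cases hom : omega ψ = τ
    · simp only [Finset.mem_union, not_or] at hn
      exact absurd (mem_rest.2 ⟨hom, fun ⟨q, e⟩ => hn.1 (Finset.mem_image.2 ⟨q, Finset.mem_univ _, e⟩),
        hn.2.1⟩) hn.2.2
    · rw [hzero ψ hom, Nat.cast_zero, zero_mul]
  have hdec' : ∀ g, Φ g = ∑ ψ : IrrCharacter G, (a ψ : ℂ) * (ψ : G → ℂ) g := fun g => by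
    rw [← sum_irr_apply]
    exact congrFun hdec g
  have hshift : ∀ q, (a (Y q) : ℤ) = ((a (Y 1) : ℤ) - δ * P 1) + δ * P q := by
    intro q
    have h := F.inner_sub L (IsChar.classFun hΦ) f (fun i hi z => by
      rw [value_center hτ, hf i hi]) q 1
    have hs : ∑ i : ZMod 19, f i * conj (cosum R q i - cosum R 1 i) =
        57 * (P q : ℂ) - 57 * (P 1 : ℂ) := by
      rw [← hP, ← hP, ← Finset.sum_sub_distrib]
      exact Finset.sum_congr rfl fun i _ => by rw [map_sub]; ring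
    rw [ha, ha, hs, hR] at h
    apply Int.cast_injective (α := ℂ)
    push_cast at h ⊢
    linear_combination h
  refine ⟨(a (Y 1) : ℤ) - δ * P 1, fun q => a (Y q), a, hshift, ha, fun _ => rfl,
    fun g => by rw [hdec' g, hsplit], ?_, ?_⟩
  · rw [Finset.sum_congr rfl (g := fun i => ∑ q, (a (Y q) : ℂ) * (Y q : G → ℂ) (pw u i) +
      ∑ ψ ∈ others u τ Y, (a ψ : ℂ) * (sgn u ψ : ℂ)) fun i hi => ?_]
    · rw [Finset.sum_add_distrib, Finset.sum_comm]
      simp only [← Finset.mul_sum, F.sum_erase, hR, Finset.sum_const,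
        Finset.card_erase_of_mem (Finset.mem_univ (0 : ZMod 19)), Finset.card_univ, ZMod.card,
        nsmul_eq_mul]
      push_cast
      rw [Finset.mul_sum, Finset.mul_sum, Finset.mul_sum]
      congr 1 <;> exact Finset.sum_congr rfl fun x _ => by ring
    · have hi' := Finset.ne_of_mem_erase hi
      rw [← hf i hi', hdec', hsplit,
        Finset.sum_eq_zero (s := rest u τ Y) fun ψ hψ => by rw [rest_zero F L hR hψ hi', mul_zero],
        add_zero]
      congr 1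
      exact Finset.sum_congr rfl fun ψ hψ => by
        rw [others_val F L (by rw [hR]; norm_num) hψ hi']
  · have h : classInner Φ Φ = ∑ ψ : IrrCharacter G, (a ψ : ℂ) * (a ψ : ℂ) := by
      calc classInner Φ Φ = ∑ ψ : IrrCharacter G, (a ψ : ℂ) * classInner Φ (ψ : G → ℂ) := by
            simp only [classInner]
            conv_lhs => arg 2; arg 2; ext g; arg 2; rw [hdec' g]
            simp only [map_sum, map_mul, map_natCast, Finset.mul_sum]
            rw [Finset.sum_comm]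
            exact Finset.sum_congr rfl fun ψ _ => Finset.sum_congr rfl fun g _ => by ring
        _ = _ := Finset.sum_congr rfl fun ψ _ => by rw [ha]
    rw [h, hsplit]
    push_cast
    simp only [pow_two]

/-- The degree of a counted character. -/
theorem Counts.degree {Φ : G → ℂ} {f : ZMod 19 → ℂ} {P : (ZMod 19)ˣ ⧸ R → ℤ} {K : ℤ}
    {M : (ZMod 19)ˣ ⧸ R → ℕ} {m : IrrCharacter G → ℕ} (C : Counts u τ Y δ Φ f P K M m) {N : ℕ}
    (hN : Φ 1 = N) :
    (∑ q, (M q : ℤ)) * charDegree (Y 1 : G → ℂ) +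
      (∑ ψ ∈ others u τ Y, (m ψ : ℤ) * charDegree (ψ : G → ℂ) +
        ∑ ψ ∈ rest u τ Y, (m ψ : ℤ) * charDegree (ψ : G → ℂ)) = N := by
  apply Int.cast_injective (α := ℂ)
  have h := C.decomp 1
  simp only [charDeg_spec', hN] at h
  push_cast
  rw [h, Finset.sum_mul]
  congr 1
  exact Finset.sum_congr rfl fun q _ => by rw [F.charDeg_eq 1 q]

/-- Two counted characters agreeing on the regular elements. -/
theorem inner_diff {Φ Φ' : G → ℂ} (hΦ : IsCharacter G Φ) (hΦ' : IsCharacter G Φ')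
    (hτ : ∀ (z : Subgroup.center G) (g : G), Φ ((z : G) * g) = (τ z : ℂ) * Φ g)
    (hτ' : ∀ (z : Subgroup.center G) (g : G), Φ' ((z : G) * g) = (τ z : ℂ) * Φ' g)
    (hag : ∀ g : G, ¬ 19 ∣ orderOf g → Φ g = Φ' g)
    (hsum : ∑ i ∈ Finset.univ.erase (0 : ZMod 19), (Φ (pw u i) - Φ' (pw u i)) = 57)
    {ψ : IrrCharacter G} (hψ : ψ ∈ others u τ Y) :
    classInner Φ (ψ : G → ℂ) = classInner Φ' (ψ : G → ℂ) + (sgn u ψ : ℂ) := by
  classical
  letI := Fintype.ofFinite (Subgroup.center G)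
  set H : G → ℂ := fun g => (Φ g - Φ' g) * conj ((ψ : G → ℂ) g)
  have hH : IsClassFunction G H := fun g h => by
    simp only [H]
    rw [IsChar.classFun hΦ g h, IsChar.classFun hΦ' g h, irr_classFun ψ]
  have h1 : classInner Φ (ψ : G → ℂ) - classInner Φ' (ψ : G → ℂ) =
      (Nat.card G : ℂ)⁻¹ * ∑ g ∈ Finset.univ.filter (fun g : G => 19 ∣ orderOf g), H g := by
    simp only [classInner, ← mul_sub, ← Finset.sum_sub_distrib, ← sub_mul]
    congr 1
    exact (Finset.sum_subset (Finset.subset_univ _) fun g _ hg => by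
      rw [hag g (by simpa using hg), sub_self, zero_mul]).symm
  have h2 := L.sum_singular hH
  have h3 : ∑ i ∈ Finset.univ.erase (0 : ZMod 19), ∑ z : Subgroup.center G, H (pw u i * (z : G)) =
      (Nat.card (Subgroup.center G) : ℂ) * ((sgn u ψ : ℂ) * 57) := by
    rw [← hsum, Finset.mul_sum, Finset.mul_sum]
    refine Finset.sum_congr rfl fun i hi => ?_
    have hi' := Finset.ne_of_mem_erase hi
    rw [Finset.sum_congr rfl (g := fun _ => (sgn u ψ : ℂ) * (Φ (pw u i) - Φ' (pw u i)))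
      fun z _ => ?_, Finset.sum_const, Finset.card_univ, nsmul_eq_mul, ← Nat.card_eq_fintype_card]
    simp only [H]
    rw [value_center hτ, value_center hτ', omega_right, others_val F L (by rw [hR]; norm_num) hψ hi',
      map_mul, map_intCast, (mem_others.1 hψ).1]
    have hz : (τ z : ℂ) * conj (τ z : ℂ) = 1 := by
      rw [← (mem_others.1 hψ).1, mul_comm, omega_conj_mul]
    linear_combination (sgn u ψ : ℂ) * (Φ (pw u i) - Φ' (pw u i)) * hz
  rw [h3, hR] at h2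
  have hG : (Nat.card G : ℂ) ≠ 0 := Nat.cast_ne_zero.2 Nat.card_pos.ne'
  have hZ : (Nat.card (Subgroup.center G) : ℂ) ≠ 0 := Nat.cast_ne_zero.2 Nat.card_pos.ne'
  push_cast at h2
  rw [← sub_eq_iff_eq_add', h1, inv_mul_eq_iff_eq_mul₀ hG]
  refine mul_left_cancel₀ (mul_ne_zero hZ (show (57 : ℂ) ≠ 0 by norm_num)) ?_
  linear_combination h2

end Cfsg.Agent.Block.Deg16
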