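import Mathlib
import Cfsg.Agent.Lib.Block.Deg16.Counts
import Cfsg.Agent.Lib.Block.Deg16.Arith

/-!
The family above the trivial character of the centre: its degree is 22, the further characters have
degrees 1, 56 and 77, and a product of an exceptional character with its conjugate has norm at
least 8.
-/

set_option autoImplicit false
set_option linter.unusedSectionVars false
set_option linter.style.haveILetI false
set_option maxHeartbeats 800000

namespace Cfsg.Agent.Block.Deg16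

open scoped ComplexConjugate
open scoped _root_.Classical
open Cfsg Cfsg.Agent.Block Cfsg.Agent.Char Cfsg.Agent.Char.BP Cfsg.Agent.Char.Spec
  Cfsg.Agent.Char.DefectOne Cfsg.Agent.Block.PMinusTwo Cfsg.Agent.Block.SmallFaith

universe w

theorem gen_pows : ∀ i : Fin 6, ∀ j : Fin 6,
    (gen19 ^ (i : ℕ)) ^ 3 = (gen19 ^ (j : ℕ)) ^ 3 → i = j := by
  decide +kernel

theorem gen_ne {i j : ℕ} (hi : i < 6) (hj : j < 6) (h : i ≠ j) :
    ¬ (gen19 ^ i) ^ 3 = (gen19 ^ j) ^ 3 := fun e =>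
  h (congrArg Fin.val (gen_pows ⟨i, hi⟩ ⟨j, hj⟩ e))

variable {G : Type w} [Group G] [Fintype G] [hp : Fact (Nat.Prime 19)] {u : G}
  {R : Subgroup (ZMod 19)ˣ} [Fintype ((ZMod 19)ˣ ⧸ R)]

theorem sg_signed {s : ℤ} (hs : s = 1 ∨ s = -1) {d : ℕ} (hd : 0 < d) :
    sg (s * (d : ℤ)) = s ∧ (s * (d : ℤ)).natAbs = d := by
  rcases hs with rfl | rfl
  · exact ⟨if_pos (by omega), by simp⟩
  · exact ⟨if_neg (by omega), by simp⟩

theorem regular_of_sq (L : Sit 19 u R) {t : G} (ht : t * t ∈ Subgroup.center G) :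
    ¬ 19 ∣ orderOf t := by
  intro h
  have h1 : orderOf t ∣ 2 * orderOf (t * t) := orderOf_dvd_of_pow_eq_one (by
    rw [pow_mul, pow_two, pow_orderOf_eq_one])
  rcases (Nat.Prime.dvd_mul hp.out).1 (h.trans h1) with h2 | h2
  · norm_num at h2
  · exact L.zreg (h2.trans (Subgroup.orderOf_dvd_natCard _ ht))

namespace Setting

variable {ω : Subgroup.center G →* ℂˣ} {y : (ZMod 19)ˣ ⧸ R → IrrCharacter G}
  (S : Setting u R ω y)
include S

/-- A nontrivial character moves `u`. -/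
theorem moves (ψ : IrrCharacter G) (h : ψ ≠ trivialIrr G) : (ψ : G → ℂ) u ≠ (ψ : G → ℂ) 1 := by
  intro hu
  haveI := charKer_normal (IsIrr.isCharacter ψ.2)
  have hK := S.gen (charKer (IsIrr.isCharacter ψ.2)) inferInstance ((mem_charKer _).2 hu)
  have hc : ∀ g, (ψ : G → ℂ) g = (ψ : G → ℂ) 1 := fun g =>
    (mem_charKer _).1 (hK ▸ Subgroup.mem_top g)
  have h0 : classInner (ψ : G → ℂ) (trivialIrr G : G → ℂ) = 0 :=
    classInner_irr_ne ψ.2 (trivialIrr G).2 fun e => h (Subtype.ext e)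
  have h1 : classInner (ψ : G → ℂ) (trivialIrr G : G → ℂ) = (ψ : G → ℂ) 1 := by
    have hG : (Nat.card G : ℂ) ≠ 0 := Nat.cast_ne_zero.2 Nat.card_pos.ne'
    simp only [classInner, trivialIrr, map_one, mul_one]
    rw [Finset.sum_congr rfl fun g _ => hc g, Finset.sum_const, Finset.card_univ, nsmul_eq_mul,
      ← Nat.card_eq_fintype_card, inv_mul_cancel_left₀ hG]
  exact IsIrr.one_ne_zero ψ.2 (h1 ▸ h0)

theorem deg_ge' (ψ : IrrCharacter G) (h : ψ ≠ trivialIrr G) : 9 ≤ charDegree (ψ : G → ℂ) :=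
  S.deg_ge ψ (S.moves ψ h)

variable {τ : Subgroup.center G →* ℂˣ} {Y : (ZMod 19)ˣ ⧸ R → IrrCharacter G} {δ : ℤ}
  (F : Fam 19 u R τ Y δ)
include F

theorem trivial_mem (hτ : τ = 1) : trivialIrr G ∈ others u τ Y := by
  refine mem_others.2 ⟨by rw [hτ, omega_trivial], ?_, fun ⟨q, hq⟩ => ?_⟩
  · simp [trivialIrr]
  · exact F.ne_trivial (by rw [S.card]; norm_num) q hq

theorem deg_data : 9 ≤ charDegree (Y 1 : G → ℂ) ∧
    (19 : ℤ) ∣ (charDegree (Y 1 : G → ℂ) : ℤ) - 3 * δ := by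
  refine ⟨S.deg_ge' _ (F.ne_trivial (by rw [S.card]; norm_num) 1), ?_⟩
  obtain ⟨k, hk⟩ := exists_fix_fam F S.sit (by rw [S.card]; norm_num) 1
  refine ⟨k, ?_⟩
  rw [hk, S.card]
  push_cast
  ring

theorem others_data {ψ : IrrCharacter G} (hψ : ψ ∈ others u τ Y) :
    (19 : ℤ) ∣ (charDegree (ψ : G → ℂ) : ℤ) - sgn u ψ := by
  obtain ⟨k, hk⟩ := exists_fix_const S.sit ψ (sgn u ψ) fun i hi =>
    others_val F S.sit (by rw [S.card]; norm_num) hψ hi
  exact ⟨(k : ℤ) - sgn u ψ, by push_cast at hk; linarith⟩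

/-- The trace of `t` in a character above `τ`. -/
theorem exists_v {t : G} (ht : t * t ∈ Subgroup.center G) (htc : t ∉ Subgroup.center G)
    {w : Subgroup.center G} (hw : τ w * τ w = τ ⟨t * t, ht⟩) (ψ : IrrCharacter G) (hom : omega ψ = τ)
    (h1 : charDegree (ψ : G → ℂ) = 1 → ψ = trivialIrr G ∧ τ = 1) :
    ∃ v : ℤ, (ψ : G → ℂ) t = (τ w : ℂ) * v ∧ v ∈ vals (charDegree (ψ : G → ℂ)) ∧
      (charDegree (ψ : G → ℂ) ≠ 1 → -(charDegree (ψ : G → ℂ) : ℤ) < v ∧
        v < (charDegree (ψ : G → ℂ) : ℤ)) ∧ (4 : ℤ) ∣ (charDegree (ψ : G → ℂ) : ℤ) - v := by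
  obtain ⟨v, hv, hlo, hhi, h4⟩ := exists_value S.perfect ψ ht (ζ := (τ w : ℂ))
    (by rw [hom, ← hw, Units.val_mul]) (by
      rw [← hom, ← Units.val_pow_eq_pow_val, omega_pow_deg S.perfect, Units.val_one])
  have hb : charDegree (ψ : G → ℂ) ≠ 1 → -(charDegree (ψ : G → ℂ) : ℤ) < v ∧
      v < (charDegree (ψ : G → ℂ) : ℤ) := by
    intro hd
    have hne : ψ ≠ trivialIrr G := fun e => hd (by rw [e]; simp [charDegree, trivialIrr])
    have h := S.value_strict ψ (S.moves ψ hne) htc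
    rw [hv, norm_mul, ← hom, norm_omega, one_mul, Complex.norm_intCast] at h
    constructor
    · refine lt_of_le_of_ne hlo fun e => h ?_
      rw [← e]
      push_cast
      rw [abs_neg, Nat.abs_cast]
    · refine lt_of_le_of_ne hhi fun e => h ?_
      rw [e]
      push_cast
      rw [Nat.abs_cast]
  refine ⟨v, hv, mem_vals (fun hd => ?_) hb h4, hb, h4⟩
  obtain ⟨e, hτ⟩ := h1 (by exact_mod_cast hd)
  rw [e, hτ] at hv
  simp only [trivialIrr, MonoidHom.one_apply, Units.val_one, one_mul] at hv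
  exact_mod_cast hv.symm

/-- The degrees and the traces are incompatible. -/
theorem false_of_block {t : G} (ht : t * t ∈ Subgroup.center G) (htc : t ∉ Subgroup.center G)
    {w : Subgroup.center G} (hw : τ w * τ w = τ ⟨t * t, ht⟩) {a b c : IrrCharacter G}
    (habc : others u τ Y = {a, b, c}) (hab : a ≠ b) (hac : a ≠ c) (hbc : b ≠ c)
    (h1 : ∀ ψ ∈ others u τ Y, charDegree (ψ : G → ℂ) = 1 → ψ = trivialIrr G ∧ τ = 1)
    (hno : noVals (charDegree (Y 1 : G → ℂ)) δ (sgn u a * (charDegree (a : G → ℂ) : ℤ))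
      (sgn u b * (charDegree (b : G → ℂ) : ℤ)) (sgn u c * (charDegree (c : G → ℂ) : ℤ)) = true) :
    False := by
  have he : 2 * Nat.card R < 19 := by rw [S.card]; norm_num
  have hma : a ∈ others u τ Y := by rw [habc]; simp
  have hmb : b ∈ others u τ Y := by rw [habc]; simp
  have hmc : c ∈ others u τ Y := by rw [habc]; simp
  obtain ⟨va, hva, hva', -, -⟩ := S.exists_v F ht htc hw a (mem_others.1 hma).1 (h1 a hma)
  obtain ⟨vb, hvb, hvb', -, -⟩ := S.exists_v F ht htc hw b (mem_others.1 hmb).1 (h1 b hmb)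
  obtain ⟨vc, hvc, hvc', -, -⟩ := S.exists_v F ht htc hw c (mem_others.1 hmc).1 (h1 c hmc)
  have hD := (S.deg_data F).1
  obtain ⟨x, hx, -, hxb, hx4⟩ := S.exists_v F ht htc hw (Y 1) (F.om 1) (fun h => by omega)
  have hr := regular_of_sq S.sit ht
  have hζ : (τ w : ℂ) ≠ 0 := Units.ne_zero _
  have hsum : ∀ g : IrrCharacter G → ℂ, ∑ ψ ∈ others u τ Y, g ψ = g a + g b + g c := fun g => by
    rw [habc, Finset.sum_insert (by simp [hab, hac]), Finset.sum_insert (by simp [hbc]),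
      Finset.sum_singleton]
    ring
  have hδ2 : δ * δ = 1 := by rcases F.sign with h | h <;> rw [h] <;> norm_num
  have e1 : δ * x = sgn u a * va + sgn u b * vb + sgn u c * vc := by
    apply Int.cast_injective (α := ℂ)
    have h := orth_regular F S.sit he hr
    rw [hsum, hva, hvb, hvc, hx] at h
    refine mul_left_cancel₀ hζ ?_
    push_cast
    linear_combination -h
  obtain ⟨sa, na⟩ := sg_signed (sgn_cases (u := u) a) (charDeg_pos a)
  obtain ⟨sb, nb⟩ := sg_signed (sgn_cases (u := u) b) (charDeg_pos b)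
  obtain ⟨sc, nc⟩ := sg_signed (sgn_cases (u := u) c) (charDeg_pos c)
  obtain ⟨hlo, hhi⟩ := hxb (by omega)
  refine false_of_noVals hno (a := va) (b := vb) (c := vc) (x := x) (by rwa [na]) (by rwa [nb])
    (by rwa [nc]) (by rw [sa, sb, sc, ← e1, ← mul_assoc, hδ2, one_mul]) hlo hhi hx4 ?_
  rw [sa, sb, sc, na, nb, nc]
  have h := class_mul F S.sit he ht hr (neg_one_notMem S.card)
  rw [hsum, hva, hvb, hvc, hx, charDeg_spec' a, charDeg_spec' b, charDeg_spec' c,
    charDeg_spec' (Y 1)] at h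
  apply Int.cast_injective (α := ℂ)
  have na' : (charDegree (a : G → ℂ) : ℂ) ≠ 0 := Nat.cast_ne_zero.2 (charDeg_pos a).ne'
  have nb' : (charDegree (b : G → ℂ) : ℂ) ≠ 0 := Nat.cast_ne_zero.2 (charDeg_pos b).ne'
  have nc' : (charDegree (c : G → ℂ) : ℂ) ≠ 0 := Nat.cast_ne_zero.2 (charDeg_pos c).ne'
  have nY' : (charDegree (Y 1 : G → ℂ) : ℂ) ≠ 0 := Nat.cast_ne_zero.2 (charDeg_pos (Y 1)).ne'
  push_cast
  field_simp at h
  linear_combination -h

end Setting

/-- The sum of a product of two periods against a period. -/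
theorem sum_tri (hR : Nat.card R = 3) (a b q : (ZMod 19)ˣ ⧸ R) :
    ∑ i : ZMod 19, cosum R a i * cosum R b i * conj (cosum R q i) =
      57 * ((tri R a b q : ℤ) : ℂ) := by
  rw [sum_three, hR]
  push_cast
  ring

theorem sum_erase_prod (hR : Nat.card R = 3) (a b : (ZMod 19)ˣ ⧸ R) :
    ∑ i ∈ Finset.univ.erase (0 : ZMod 19), cosum R a i * cosum R b i =
      if b = negQ R a then (48 : ℂ) else -9 := by
  rw [Finset.sum_erase_eq_sub (Finset.mem_univ _), sum_two, cosum_zero, cosum_zero, hR]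
  split_ifs <;> norm_num

theorem sum_dg (hR : Nat.card R = 3) :
    ∑ q : (ZMod 19)ˣ ⧸ R, (tri R 1 (negQ R 1) q : ℤ) = 2 := by
  have h := tri_total R (1 : (ZMod 19)ˣ ⧸ R) (negQ R 1)
  rw [if_pos rfl, hR] at h
  zify at h
  omega

theorem sum_off (hR : Nat.card R = 3) :
    ∑ q : (ZMod 19)ˣ ⧸ R, (tri R (1 : (ZMod 19)ˣ ⧸ R) 1 q : ℤ) = 3 := by
  have h := tri_total R (1 : (ZMod 19)ˣ ⧸ R) 1
  rw [if_neg (negQ_one_ne hR).symm, hR] at h
  zify at h
  omega

theorem sum_M (hR : Nat.card R = 3) {M : (ZMod 19)ˣ ⧸ R → ℕ} {K δ : ℤ}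
    {P : (ZMod 19)ˣ ⧸ R → ℤ} (h : ∀ q, (M q : ℤ) = K + δ * P q) :
    ∑ q, (M q : ℤ) = 6 * K + δ * ∑ q, P q := by
  rw [Finset.sum_congr rfl fun q _ => h q, Finset.sum_add_distrib, ← Finset.mul_sum,
    Finset.sum_const, Finset.card_univ, card_q hR, nsmul_eq_mul]
  norm_num

theorem off_three (hR : Nat.card R = 3) : tri R (1 : (ZMod 19)ˣ ⧸ R) 1 (cl R 3) = 2 := by
  rw [tri_off hR, if_neg (cl_one_ne_three hR).symm, if_pos rfl]

theorem off_outside (hR : Nat.card R = 3) : ∃ q, tri R (1 : (ZMod 19)ˣ ⧸ R) 1 q = 0 := by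
  refine ⟨cl R 2, ?_⟩
  rw [tri_off hR, if_neg ?_, if_neg ?_] <;>
  · rw [cl, cl, mk_eq_iff hR]
    exact gen_ne (by norm_num) (by norm_num) (by norm_num)

theorem dg_two (hR : Nat.card R = 3) : tri R 1 (negQ R 1) (cl R 2) = 1 ∧
    tri R 1 (negQ R 1) (cl R 5) = 1 ∧ tri R 1 (negQ R 1) (cl R 3) = 0 := by
  refine ⟨?_, ?_, ?_⟩
  · rw [tri_dg hR, if_pos rfl, if_neg (cl_two_ne_five hR)]
  · rw [tri_dg hR, if_neg (cl_two_ne_five hR).symm, if_pos rfl]
  · rw [tri_dg hR, if_neg ?_, if_neg ?_] <;>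
    · rw [cl, cl, mk_eq_iff hR]
      exact gen_ne (by norm_num) (by norm_num) (by norm_num)

namespace Setting

variable {ω : Subgroup.center G →* ℂˣ} {y : (ZMod 19)ˣ ⧸ R → IrrCharacter G}
  (S : Setting u R ω y)
  {Y : (ZMod 19)ˣ ⧸ R → IrrCharacter G} {δ : ℤ} (F : Fam 19 u R 1 Y δ)
include S F

theorem y_reg_conj {g : G} (hg : ¬ 19 ∣ orderOf g) :
    (y 1 : G → ℂ) g * conj ((y 1 : G → ℂ) g) =
      (y 1 : G → ℂ) g * conj ((y (negQ R 1) : G → ℂ) g) := by
  rw [S.zf.fam.agree (negQ R 1) 1 g hg]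

/-- The family above the trivial character. -/
theorem one_case :
    δ = 1 ∧ charDegree (Y 1 : G → ℂ) = 22 ∧
      ∃ a b : IrrCharacter G, others u 1 Y = {trivialIrr G, a, b} ∧ a ≠ trivialIrr G ∧
        b ≠ trivialIrr G ∧ a ≠ b ∧ sgn u a = -1 ∧ charDegree (a : G → ℂ) = 56 ∧ sgn u b = 1 ∧
        charDegree (b : G → ℂ) = 77 ∧
        8 ≤ (classInner (fun g => (y 1 : G → ℂ) g * conj ((y 1 : G → ℂ) g))
          (fun g => (y 1 : G → ℂ) g * conj ((y 1 : G → ℂ) g))).re := by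
  have hR := S.card
  have he : 2 * Nat.card R < 19 := by rw [hR]; norm_num
  have L := S.sit
  have htriv := S.trivial_mem F rfl
  have hc : ((others u 1 Y).erase (trivialIrr G)).card = 2 := by
    rw [Finset.card_erase_of_mem htriv, card_others F L he, hR]
  obtain ⟨a, b, hab, hset, hle⟩ : ∃ a b, a ≠ b ∧
      (others u 1 Y).erase (trivialIrr G) = {a, b} ∧
      sgn u a * (charDegree (a : G → ℂ) : ℤ) ≤ sgn u b * (charDegree (b : G → ℂ) : ℤ) := by
    obtain ⟨a, b, hab, h⟩ := Finset.card_eq_two.1 hc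
    rcases le_total (sgn u a * (charDegree (a : G → ℂ) : ℤ))
      (sgn u b * (charDegree (b : G → ℂ) : ℤ)) with h1 | h1
    · exact ⟨a, b, hab, h, h1⟩
    · exact ⟨b, a, hab.symm, by rw [h, Finset.pair_comm], h1⟩
  have hoth : others u 1 Y = {trivialIrr G, a, b} := by
    rw [← Finset.insert_erase htriv, hset]
  have hma : a ∈ (others u 1 Y).erase (trivialIrr G) := by rw [hset]; simp
  have hmb : b ∈ (others u 1 Y).erase (trivialIrr G) := by rw [hset]; simp
  obtain ⟨ha, hma⟩ := Finset.mem_erase.1 hma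
  obtain ⟨hb, hmb⟩ := Finset.mem_erase.1 hmb
  have hsum : ∀ g : IrrCharacter G → ℤ,
      ∑ ψ ∈ others u 1 Y, g ψ = g (trivialIrr G) + g a + g b := fun g => by
    rw [hoth, Finset.sum_insert (by simp [ha.symm, hb.symm]), Finset.sum_insert (by simp [hab]),
      Finset.sum_singleton]
    ring
  have ht1 : sgn u (trivialIrr G) = 1 := by simp [sgn, trivialIrr]
  have htd : charDegree (trivialIrr G : G → ℂ) = 1 := by simp [charDegree, trivialIrr]
  -- the two products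
  set Φd : G → ℂ := fun g => (y 1 : G → ℂ) g * conj ((y 1 : G → ℂ) g) with hΦd
  set Φo : G → ℂ := fun g => (y 1 : G → ℂ) g * conj ((y (negQ R 1) : G → ℂ) g) with hΦo
  have hcd : IsCharacter G Φd :=
    IsChar.mul (IsIrr.isCharacter (y 1).2) (IsChar.conj (IsIrr.isCharacter (y 1).2))
  have hco : IsCharacter G Φo :=
    IsChar.mul (IsIrr.isCharacter (y 1).2) (IsChar.conj (IsIrr.isCharacter (y (negQ R 1)).2))
  have hτ : ∀ q (z : Subgroup.center G) (g : G),
      (y 1 : G → ℂ) ((z : G) * g) * conj ((y q : G → ℂ) ((z : G) * g)) =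
        ((1 : Subgroup.center G →* ℂˣ) z : ℂ) * ((y 1 : G → ℂ) g * conj ((y q : G → ℂ) g)) := by
    intro q z g
    rw [omega_spec, omega_spec, S.zf.fam.om, S.zf.fam.om, map_mul, MonoidHom.one_apply,
      Units.val_one, one_mul]
    have h : (ω z : ℂ) * conj (ω z : ℂ) = 1 := by
      rw [← S.zf.fam.om 1, mul_comm, omega_conj_mul]
    linear_combination (y 1 : G → ℂ) g * conj ((y q : G → ℂ) g) * h
  have hfd : ∀ i : ZMod 19, i ≠ 0 → Φd (pw u i) = cosum R 1 i * cosum R (negQ R 1) i := by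
    intro i hi
    simp only [hΦd]
    rw [S.zf.fam.val 1 i hi, map_mul, conj_cosum, map_intCast]
    push_cast
    ring
  have hfo : ∀ i : ZMod 19, i ≠ 0 → Φo (pw u i) = cosum R 1 i * cosum R 1 i := by
    intro i hi
    simp only [hΦo]
    rw [S.zf.fam.val 1 i hi, S.zf.fam.val (negQ R 1) i hi, map_mul, conj_cosum, negQ_negQ,
      map_intCast]
    push_cast
    ring
  obtain ⟨Kd, Md, md, Cd⟩ := exists_counts F L hR hcd (hτ 1) _ hfd
    (fun q => (tri R 1 (negQ R 1) q : ℤ)) fun q => sum_tri hR _ _ q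
  obtain ⟨Ko, Mo, mo, Co⟩ := exists_counts F L hR hco (hτ (negQ R 1)) _ hfo
    (fun q => (tri R (1 : (ZMod 19)ˣ ⧸ R) 1 q : ℤ)) fun q => sum_tri hR _ _ q
  have hdiff : ∀ ψ ∈ others u 1 Y, (md ψ : ℤ) = mo ψ + sgn u ψ := by
    intro ψ hψ
    apply Int.cast_injective (α := ℂ)
    push_cast
    rw [← Cd.inner, ← Co.inner]
    refine inner_diff F L hR hcd hco (hτ 1) (hτ (negQ R 1)) (fun g hg => S.y_reg_conj F hg) ?_ hψ
    rw [Finset.sum_sub_distrib, Finset.sum_congr rfl fun i hi => hfd i (Finset.ne_of_mem_erase hi),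
      Finset.sum_congr rfl fun i hi => hfo i (Finset.ne_of_mem_erase hi), sum_erase_prod hR,
      sum_erase_prod hR, if_pos rfl, if_neg (negQ_one_ne hR).symm]
    norm_num
  have hd0 := hdiff _ htriv
  have hda := hdiff a hma
  have hdb := hdiff b hmb
  rw [ht1] at hd0
  have hmd0 : md (trivialIrr G) = 1 := by
    refine Nat.cast_injective (R := ℂ) ?_
    rw [← Cd.inner, Nat.cast_one, ← classInner_self_irr (y 1).2]
    simp [classInner, trivialIrr, hΦd]
  have hMd := sum_M hR Cd.shift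
  have hMo := sum_M hR Co.shift
  rw [sum_dg hR] at hMd
  rw [sum_off hR] at hMo
  have sd : (48 : ℤ) = (-3) * δ * ∑ q, (Md q : ℤ) +
      18 * ∑ ψ ∈ others u 1 Y, sgn u ψ * (md ψ : ℤ) := by
    apply Int.cast_injective (α := ℂ)
    rw [← Cd.sum_f, sum_erase_prod hR, if_pos rfl]
    norm_num
  have so : (-9 : ℤ) = (-3) * δ * ∑ q, (Mo q : ℤ) +
      18 * ∑ ψ ∈ others u 1 Y, sgn u ψ * (mo ψ : ℤ) := by
    apply Int.cast_injective (α := ℂ)
    rw [← Co.sum_f, sum_erase_prod hR, if_neg (negQ_one_ne hR).symm]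
    norm_num
  have hsq := sgn_sq (u := u)
  simp only [hsum, ht1] at sd so
  rw [hMd, hda, hdb, hmd0] at sd
  rw [hMo] at so
  have h16 : ∀ q, (y 1 : G → ℂ) 1 * conj ((y q : G → ℂ) 1) = ((256 : ℕ) : ℂ) := fun q => by
    rw [charDeg_spec', charDeg_spec', S.deg_y, S.deg_y, map_natCast]
    norm_num
  have dd := Cd.degree F L hR (h16 1)
  have do_ := Co.degree F L hR (h16 (negQ R 1))
  simp only [hsum, htd] at dd do_
  rw [hMd, hda, hdb, hmd0] at dd
  rw [hMo] at do_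
  have hrd : 0 ≤ ∑ ψ ∈ rest u (1 : Subgroup.center G →* ℂˣ) Y,
      (md ψ : ℤ) * charDegree (ψ : G → ℂ) :=
    Finset.sum_nonneg fun ψ _ => by positivity
  have hro : 0 ≤ ∑ ψ ∈ rest u (1 : Subgroup.center G →* ℂˣ) Y,
      (mo ψ : ℤ) * charDegree (ψ : G → ℂ) :=
    Finset.sum_nonneg fun ψ _ => by positivity
  obtain ⟨hDge, hDc⟩ := S.deg_data F
  have hdeg := orth_deg F L he
  rw [hsum, ht1, htd] at hdeg
  have m0 : (mo (trivialIrr G) : ℤ) = 0 := by omega
  rw [m0] at so do_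
  push_cast at sd so dd do_ hdeg
  have hKdo : Kd = Ko := by
    have := hsq a
    have := hsq b
    rcases F.sign with rfl | rfl <;> linarith
  subst hKdo
  have hKo2 := Co.shift (cl R 3)
  rw [off_three hR] at hKo2
  obtain ⟨q0, hq0⟩ := off_outside hR
  have hKo0 := Co.shift q0
  rw [hq0] at hKo0
  push_cast at hKo2 hKo0
  have hopt := options_one (D := (charDegree (Y 1 : G → ℂ) : ℤ)) (δ := δ) (K := Kd)
    (d₁ := (charDegree (a : G → ℂ) : ℤ)) (d₂ := (charDegree (b : G → ℂ) : ℤ))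
    (s₁ := sgn u a) (s₂ := sgn u b) (m₁ := (mo a : ℤ)) (m₂ := (mo b : ℤ))
    F.sign (by exact_mod_cast hDge) hDc (sgn_cases a) (sgn_cases b)
    (by exact_mod_cast S.deg_ge' a ha) (by exact_mod_cast S.deg_ge' b hb)
    (S.others_data F hma) (S.others_data F hmb) (by omega) (by omega) (by omega) (by omega)
    (by rcases F.sign with rfl | rfl <;> linarith) (by omega)
    (fun e => by rw [e] at hKo2; omega)
    (by linarith) (by push_cast at dd hrd ⊢; linarith)
    (by push_cast at do_ hro ⊢; linarith) hle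
  rcases kill_one hopt with ⟨hδ, hD, hea, heb⟩ | hno
  swap
  · exfalso
    obtain ⟨t, ht, w, htc, hw⟩ := S.exists_root 1 fun _ => Or.inr rfl
    refine S.false_of_block F ht htc hw hoth ha.symm hb.symm hab (fun ψ hψ h1 => ⟨?_, rfl⟩) ?_
    · by_contra hne
      have := S.deg_ge' ψ hne
      omega
    · rw [ht1, htd, Nat.cast_one, mul_one]
      exact hno
  subst hδ
  have hsa : sgn u a = -1 := by
    rcases sgn_cases (u := u) a with h | h
    · rw [h] at hea; omega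
    · exact h
  have hsb : sgn u b = 1 := by
    rcases sgn_cases (u := u) b with h | h
    · exact h
    · rw [h] at heb; omega
  rw [hsa] at hea hda sd so dd
  rw [hsb] at heb hdb sd so dd
  have hda' : charDegree (a : G → ℂ) = 56 := by omega
  have hdb' : charDegree (b : G → ℂ) = 77 := by omega
  have hD' : charDegree (Y 1 : G → ℂ) = 22 := by omega
  refine ⟨rfl, hD', a, b, hoth, ha, hb, hab, hsa, hda', hsb, hdb', ?_⟩
  rw [Cd.norm, Complex.natCast_re]
  -- the norm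
  rw [hD', hda', hdb'] at dd do_
  have hM2 := Cd.shift (cl R 2)
  have hM5 := Cd.shift (cl R 5)
  rw [(dg_two hR).1] at hM2
  rw [(dg_two hR).2.1] at hM5
  push_cast at hM2 hM5 dd do_ hrd hro
  have hK : Kd = 0 := by omega
  have hb2 : 2 ≤ md b := by omega
  have hr : (∑ ψ ∈ rest u (1 : Subgroup.center G →* ℂˣ) Y,
      (md ψ : ℤ) * charDegree (ψ : G → ℂ)) ≠ 0 := by omega
  obtain ⟨θ, hθ, hθm⟩ := Finset.exists_ne_zero_of_sum_ne_zero hr
  have h1 : 1 + 1 ≤ ∑ q, Md q ^ 2 := by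
    have hsub : ({cl R 2, cl R 5} : Finset ((ZMod 19)ˣ ⧸ R)) ⊆ Finset.univ := Finset.subset_univ _
    refine le_trans (le_of_eq ?_) (Finset.sum_le_sum_of_subset hsub)
    rw [Finset.sum_pair (cl_two_ne_five hR), show Md (cl R 2) = 1 by omega,
      show Md (cl R 5) = 1 by omega]
    norm_num
  have h2 : 1 + 4 ≤ ∑ ψ ∈ others u (1 : Subgroup.center G →* ℂˣ) Y, md ψ ^ 2 := by
    rw [hoth, Finset.sum_insert (by simp [ha.symm, hb.symm]), Finset.sum_insert (by simp [hab]),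
      Finset.sum_singleton, hmd0]
    have h4 : 2 ^ 2 ≤ md b ^ 2 := Nat.pow_le_pow_left hb2 2
    omega
  have h3 : 1 ≤ ∑ ψ ∈ rest u (1 : Subgroup.center G →* ℂˣ) Y, md ψ ^ 2 := by
    refine le_trans ?_ (Finset.single_le_sum (fun ψ _ => Nat.zero_le _) hθ)
    refine Nat.one_le_pow _ _ (Nat.pos_of_ne_zero fun e => hθm ?_)
    rw [e, Nat.cast_zero, zero_mul]
  exact_mod_cast (by omega : 8 ≤ ∑ q, Md q ^ 2 +
    (∑ ψ ∈ others u (1 : Subgroup.center G →* ℂˣ) Y, md ψ ^ 2 +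
      ∑ ψ ∈ rest u (1 : Subgroup.center G →* ℂˣ) Y, md ψ ^ 2))

end Setting

end Cfsg.Agent.Block.Deg16
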