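import Mathlib
import Cfsg.Agent.Lib.Block.Deg16.One
import Cfsg.Agent.Lib.Block.SmallFaith.Odd

/-!
The symmetric and the alternating square of an exceptional character of degree 16 for `p = 19`:
there is no such configuration.
-/

set_option autoImplicit false
set_option linter.unusedSectionVars false
set_option linter.style.haveILetI false
set_option maxHeartbeats 1000000

namespace Cfsg.Agent.Block.Deg16

open scoped ComplexConjugate
open scoped _root_.Classical
open Cfsg Cfsg.Agent.Block Cfsg.Agent.Char Cfsg.Agent.Char.BP Cfsg.Agent.Char.Spec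
  Cfsg.Agent.Char.DefectOne Cfsg.Agent.Block.PMinusTwo Cfsg.Agent.Block.SmallFaith

universe w

/-- A root of unity is not twice an algebraic integer. -/
theorem root_ne_two_mul {z α : ℂ} {n : ℕ} (hn : 0 < n) (hz : z ^ n = 1) (hα : IsIntegral ℤ α) :
    z ≠ 2 * α := by
  intro e
  obtain ⟨k, rfl⟩ : ∃ k, n = k + 1 := ⟨n - 1, by omega⟩
  have h2 : IsIntegral ℤ ((((1 : ℚ) / 2 : ℚ)) : ℂ) := by
    have h3 : ((2 : ℤ) : ℂ) ^ k * α ^ (k + 1) = ((((1 : ℚ) / 2 : ℚ)) : ℂ) := by
      rw [e, mul_pow, pow_succ] at hz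
      push_cast
      linear_combination hz / 2
    rw [← h3]
    exact ((isIntegral_algebraMap).pow k).mul (hα.pow _)
  obtain ⟨m, hm⟩ := int_of_isIntegral_rat h2
  have h4 : (2 * m : ℤ) = 1 := by
    apply Int.cast_injective (α := ℂ)
    push_cast
    push_cast at hm
    linear_combination -2 * hm
  omega

variable {G : Type w} [Group G] [Fintype G]

theorem symSq_mul (χ : IrrCharacter G) (z : Subgroup.center G) (g : G) :
    symSq (χ : G → ℂ) ((z : G) * g) =
      ((omega χ z * omega χ z : ℂˣ) : ℂ) * symSq (χ : G → ℂ) g := by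
  simp only [symSq]
  rw [show (z : G) * g * ((z : G) * g) = ((z * z : Subgroup.center G) : G) * (g * g) by
    rw [Subgroup.coe_mul, mul_assoc, mul_assoc, ← mul_assoc g, Subgroup.mem_center_iff.1 z.2 g]
    group, omega_spec, omega_spec, map_mul, Units.val_mul]
  ring

theorem altSq_mul (χ : IrrCharacter G) (z : Subgroup.center G) (g : G) :
    altSq (χ : G → ℂ) ((z : G) * g) =
      ((omega χ z * omega χ z : ℂˣ) : ℂ) * altSq (χ : G → ℂ) g := by
  simp only [altSq]
  rw [show (z : G) * g * ((z : G) * g) = ((z * z : Subgroup.center G) : G) * (g * g) by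
    rw [Subgroup.coe_mul, mul_assoc, mul_assoc, ← mul_assoc g, Subgroup.mem_center_iff.1 z.2 g]
    group, omega_spec, omega_spec, map_mul, Units.val_mul]
  ring

variable [hp : Fact (Nat.Prime 19)] {u : G} {R : Subgroup (ZMod 19)ˣ}

/-- The fixed space of `u` bounds the value at an element acting on `⟨u⟩` without fixed points. -/
theorem norm_le_fix (L : Sit 19 u R) {Φ : G → ℂ} (hΦ : IsCharacter G Φ) {k : ℕ}
    (hk : ∑ i : ZMod 19, Φ (pw u i) = 19 * (k : ℂ)) {x : G} {r : (ZMod 19)ˣ}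
    (hr : x * u * x⁻¹ = pw u (r : ZMod 19)) (hr1 : r ≠ 1) :
    ‖Φ x‖ ≤ (k : ℝ) ∧ (k = 1 → ‖Φ x‖ = 1) := by
  classical
  set Q := (Subgroup.zpowers u).subgroupOf (Nu u) with hQ
  haveI : Q.Normal := Subgroup.normal_in_normalizer
  set η := avgN Q (fun g : Nu u => Φ g) with hη
  have hηc : IsCharacter (Nu u) η := IsChar.avgN Q (IsChar.res hΦ _)
  have hQp : Nat.card Q = 19 := by
    rw [hQ, Nat.card_congr (Subgroup.subgroupOfEquivOfLe Subgroup.le_normalizer).toEquiv, L.cardP]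
  let e : ZMod 19 → Q := fun i => ⟨⟨pw u i, L.pw_mem_Nu i⟩,
    pw_mem L.cardP (Subgroup.mem_zpowers u) L.u_ne i⟩
  have hebij : Function.Bijective e := (Nat.bijective_iff_injective_and_card e).2
    ⟨fun i j h => L.pw_inj' (congrArg (fun g : Q => ((g : Nu u) : G)) h), by rw [Nat.card_zmod, hQp]⟩
  have hηx : ∀ g : Nu u, η g = (19 : ℂ)⁻¹ * ∑ i : ZMod 19, Φ (pw u i * (g : G)) := fun g => by
    simp only [hη, avgN]
    rw [hQp, ← hebij.sum_comp]
    rfl
  have hη1 : η 1 = (k : ℂ) := by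
    rw [hηx]
    simp only [OneMemClass.coe_one, mul_one]
    rw [hk]
    ring
  set xN : Nu u := ⟨x, L.mem_normalizer hr⟩
  have hr0 : (1 : ZMod 19) - (r : ZMod 19) ≠ 0 := fun h0 =>
    hr1 (Units.ext (sub_eq_zero.1 h0).symm)
  have hηv : η xN = Φ x := by
    rw [hηx, Finset.sum_congr rfl (g := fun _ => Φ x) fun i _ => ?_, Finset.sum_const,
      Finset.card_univ, ZMod.card, nsmul_eq_mul]
    · push_cast; ring
    set a := i / (1 - (r : ZMod 19))
    have e1 : pw u i * x = pw u a * x * (pw u a)⁻¹ := by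
      have h1 := L.conj_pw' hr a
      have h2 : pw u i * pw u ((r : ZMod 19) * a) = pw u a := by
        rw [L.pw_add]; congr 1; simp only [a]; field_simp; ring
      rw [← h1] at h2
      calc pw u i * x = (pw u i * (x * pw u a * x⁻¹)) * x * (pw u a)⁻¹ := by group
        _ = _ := by rw [h2]
    show Φ (pw u i * x) = Φ x
    rw [e1]
    exact IsChar.classFun hΦ x _
  refine ⟨?_, fun h1 => ?_⟩
  · have h := IsChar.norm_le hηc xN
    rwa [hηv, hη1, Complex.norm_natCast] at h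
  · rw [h1, Nat.cast_one] at hη1
    obtain ⟨l, hl⟩ := linearHom_of_isCharacter hηc hη1
    rw [← hηv, congrFun hl xN]
    refine norm_eq_one_of_pow_eq_one' (Nat.card_pos (α := Nu u)) ?_
    rw [← Units.val_pow_eq_pow_val, ← map_pow, pow_card_eq_one', map_one, Units.val_one]

variable [Fintype ((ZMod 19)ˣ ⧸ R)]

theorem off_sq (hR : Nat.card R = 3) :
    ∑ q : (ZMod 19)ˣ ⧸ R, tri R (1 : (ZMod 19)ˣ ⧸ R) 1 q ^ 2 = 5 := by
  have key : ∀ q : (ZMod 19)ˣ ⧸ R, tri R (1 : (ZMod 19)ˣ ⧸ R) 1 q ^ 2 =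
      (if q = cl R 1 then 1 else 0) + 4 * if q = cl R 3 then 1 else 0 := by
    intro q
    rw [tri_off hR]
    by_cases h1 : q = cl R 1
    · rw [if_pos h1, if_neg (h1 ▸ cl_one_ne_three hR)]
      norm_num
    · rw [if_neg h1]
      split_ifs <;> norm_num
  rw [Finset.sum_congr rfl fun q _ => key q, Finset.sum_add_distrib, ← Finset.mul_sum,
    Finset.sum_ite_eq', Finset.sum_ite_eq', if_pos (Finset.mem_univ _),
    if_pos (Finset.mem_univ _)]
  norm_num

/-- The squares: the periods. -/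
theorem sum_sq_periods (hR : Nat.card R = 3) (σ : ℤ) (q : (ZMod 19)ˣ ⧸ R) :
    ∑ i : ZMod 19, ((cosum R 1 i * cosum R 1 i + (σ : ℂ) * cosum R (cl R 1) i) / 2) *
        conj (cosum R q i) =
      57 * ((((if q = cl R 1 then (1 + σ) else 0) + 2 * if q = cl R 3 then 1 else 0 : ℤ) : ℂ) / 2) := by
  rw [Finset.sum_congr rfl (g := fun i => (cosum R 1 i * cosum R 1 i * conj (cosum R q i) +
      (σ : ℂ) * (cosum R (cl R 1) i * conj (cosum R q i))) / 2) fun i _ => by ring,
    ← Finset.sum_div, Finset.sum_add_distrib, ← Finset.mul_sum, sum_tri hR, sum_pair, tri_off hR, hR]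
  push_cast
  split_ifs <;> norm_num <;> ring

theorem sum_ind (c : (ZMod 19)ˣ ⧸ R) (x : ℤ) :
    ∑ q : (ZMod 19)ˣ ⧸ R, (if q = c then x else 0) = x := by
  rw [Finset.sum_ite_eq', if_pos (Finset.mem_univ _)]

/-- Three elements ordered by a function. -/
theorem exists_ordered {α : Type*} [DecidableEq α] {s : Finset α} (h : s.card = 3) (f : α → ℤ) :
    ∃ a b c, a ≠ b ∧ a ≠ c ∧ b ≠ c ∧ s = {a, b, c} ∧ f a ≤ f b ∧ f b ≤ f c := by
  obtain ⟨x, y, z, hxy, hxz, hyz, rfl⟩ := Finset.card_eq_three.1 h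
  rcases le_total (f x) (f y) with h1 | h1 <;> rcases le_total (f y) (f z) with h2 | h2 <;>
    rcases le_total (f x) (f z) with h3 | h3
  all_goals first
    | exact ⟨x, y, z, hxy, hxz, hyz, rfl, h1, h2⟩
    | exact ⟨x, z, y, hxz, hxy, hyz.symm, by ext a; simp; tauto, h3, h2⟩
    | exact ⟨y, x, z, hxy.symm, hyz, hxz, by ext a; simp; tauto, h1, h3⟩
    | exact ⟨y, z, x, hyz, hxy.symm, hxz.symm, by ext a; simp; tauto, h2, h3⟩
    | exact ⟨z, x, y, hxz.symm, hyz.symm, hxy, by ext a; simp; tauto, h3, h1⟩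
    | exact ⟨z, y, x, hyz.symm, hxz.symm, hxy.symm, by ext a; simp; tauto, h2, h1⟩

namespace Setting

variable {ω : Subgroup.center G →* ℂˣ} {y : (ZMod 19)ˣ ⧸ R → IrrCharacter G}
  (S : Setting u R ω y)
include S

/-- The degrees above a nontrivial character in the even roots are even. -/
theorem deg_even (ψ : IrrCharacter G) {τ : Subgroup.center G →* ℂˣ} (hom : omega ψ = τ)
    (hτ : ∀ z, τ z = ω z * ω z) (h1 : τ ≠ 1) : 2 ∣ charDegree (ψ : G → ℂ) := by
  by_contra hodd
  refine h1 (MonoidHom.ext fun z => ?_)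
  have h8 : τ z ^ 8 = 1 := by
    rw [hτ, ← pow_two, ← pow_mul]
    exact S.omega_pow z
  have hd : τ z ^ charDegree (ψ : G → ℂ) = 1 := by
    rw [← hom]
    exact omega_pow_deg S.perfect ψ z
  have h := Nat.dvd_gcd (orderOf_dvd_of_pow_eq_one h8) (orderOf_dvd_of_pow_eq_one hd)
  rw [show Nat.gcd 8 (charDegree (ψ : G → ℂ)) = 1 from
    Nat.Coprime.pow_left 3 (Nat.prime_two.coprime_iff_not_dvd.2 hodd)] at h
  exact orderOf_eq_one_iff.1 (Nat.dvd_one.1 h)

/-- The exceptional character is not real. -/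
theorem y_not_real : classInner (fun g => (y 1 : G → ℂ) g * (y 1 : G → ℂ) g)
    (trivialIrr G : G → ℂ) = 0 := by
  let χ : IrrCharacter G := ⟨_, IsIrr.conj (y 1).2⟩
  have hne : (y 1 : G → ℂ) ≠ (χ : G → ℂ) := fun e => by
    have hval : ∀ i : ZMod 19, i ≠ 0 → cosum R 1 i * cosum R 1 i =
        cosum R 1 i * cosum R (negQ R 1) i := by
      intro i hi
      have h := congrFun e (pw u i)
      simp only [χ] at h
      rw [S.zf.fam.val 1 i hi, map_mul, conj_cosum, map_intCast] at h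
      push_cast at h
      linear_combination -(cosum R 1 i) * h
    have h := Finset.sum_congr (rfl : Finset.univ.erase (0 : ZMod 19) = _) fun i hi =>
      hval i (Finset.ne_of_mem_erase hi)
    rw [sum_erase_prod S.card, sum_erase_prod S.card, if_neg (negQ_one_ne S.card).symm,
      if_pos rfl] at h
    norm_num at h
  have h := classInner_irr_ne (y 1).2 χ.2 hne
  rw [← h]
  simp only [classInner, χ, trivialIrr, Complex.conj_conj, map_one, mul_one]

/-- No such configuration. -/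
theorem impossible : False := by
  classical
  have hR := S.card
  have he : 2 * Nat.card R < 19 := by rw [hR]; norm_num
  have L := S.sit
  obtain ⟨Y, τ, δ, F, hτ⟩ := S.zf.exists_fam_sq L
  have hωτ : ∀ z, ((omega (y 1) z * omega (y 1) z : ℂˣ) : ℂ) = (τ z : ℂ) := fun z => by
    rw [S.zf.fam.om, hτ]
  set Φa : G → ℂ := altSq (y 1 : G → ℂ) with hΦa
  set Φs : G → ℂ := symSq (y 1 : G → ℂ) with hΦs
  set Φd : G → ℂ := fun g => (y 1 : G → ℂ) g * (y (negQ R 1) : G → ℂ) g with hΦd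
  set Φo : G → ℂ := fun g => (y 1 : G → ℂ) g * (y 1 : G → ℂ) g with hΦo
  have hca : IsCharacter G Φa := isChar_altSq (IsIrr.isCharacter (y 1).2)
  have hcs : IsCharacter G Φs := isChar_symSq (IsIrr.isCharacter (y 1).2)
  have hcd : IsCharacter G Φd :=
    IsChar.mul (IsIrr.isCharacter (y 1).2) (IsIrr.isCharacter (y (negQ R 1)).2)
  have hco : IsCharacter G Φo := IsChar.mul (IsIrr.isCharacter (y 1).2) (IsIrr.isCharacter (y 1).2)
  have hta : ∀ (z : Subgroup.center G) (g : G), Φa ((z : G) * g) = (τ z : ℂ) * Φa g := fun z g => by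
    rw [hΦa, altSq_mul, hωτ]
  have hts : ∀ (z : Subgroup.center G) (g : G), Φs ((z : G) * g) = (τ z : ℂ) * Φs g := fun z g => by
    rw [hΦs, symSq_mul, hωτ]
  have htd : ∀ (z : Subgroup.center G) (g : G), Φd ((z : G) * g) = (τ z : ℂ) * Φd g := fun z g => by
    simp only [hΦd]
    rw [omega_spec, omega_spec, S.zf.fam.om, S.zf.fam.om, hτ, Units.val_mul]
    ring
  have hto : ∀ (z : Subgroup.center G) (g : G), Φo ((z : G) * g) = (τ z : ℂ) * Φo g := fun z g => by
    simp only [hΦo]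
    rw [omega_spec, S.zf.fam.om, hτ, Units.val_mul]
    ring
  have hadd : ∀ g, Φo g = Φa g + Φs g := fun g => by
    simp only [hΦo, hΦa, hΦs, altSq, symSq]
    ring
  have hyv : ∀ i : ZMod 19, i ≠ 0 → (y 1 : G → ℂ) (pw u i) = -cosum R 1 i ∧
      (y 1 : G → ℂ) (pw u i * pw u i) = -cosum R (cl R 1) i := by
    intro i hi
    refine ⟨S.zf.val L 1 hi, ?_⟩
    rw [L.pw_sq, ← cosum_double]
    exact S.zf.val L 1 fun h => mul_ne_zero hi (ne_two (p := 19) (by norm_num))
      (by linear_combination h)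
  have hfa : ∀ i : ZMod 19, i ≠ 0 → Φa (pw u i) =
      (cosum R 1 i * cosum R 1 i + ((1 : ℤ) : ℂ) * cosum R (cl R 1) i) / 2 := by
    intro i hi
    simp only [hΦa, altSq, (hyv i hi).1, (hyv i hi).2]
    push_cast
    ring
  have hfs : ∀ i : ZMod 19, i ≠ 0 → Φs (pw u i) =
      (cosum R 1 i * cosum R 1 i + ((-1 : ℤ) : ℂ) * cosum R (cl R 1) i) / 2 := by
    intro i hi
    simp only [hΦs, symSq, (hyv i hi).1, (hyv i hi).2]
    push_cast
    ring
  have hfd : ∀ i : ZMod 19, i ≠ 0 → Φd (pw u i) = cosum R 1 i * cosum R (negQ R 1) i := by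
    intro i hi
    simp only [hΦd]
    rw [S.zf.val L 1 hi, S.zf.val L (negQ R 1) hi]
    ring
  have hfo : ∀ i : ZMod 19, i ≠ 0 → Φo (pw u i) = cosum R 1 i * cosum R 1 i := by
    intro i hi
    simp only [hΦo]
    rw [S.zf.val L 1 hi]
    ring
  obtain ⟨A, Ma, ma, Ca⟩ := exists_counts F L hR hca hta _ hfa
    (fun q => (if q = cl R 1 then 1 else 0) + if q = cl R 3 then 1 else 0) fun q => by
      rw [sum_sq_periods hR]
      push_cast
      split_ifs <;> ring
  obtain ⟨B, Ms, ms, Cs⟩ := exists_counts F L hR hcs hts _ hfs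
    (fun q => if q = cl R 3 then 1 else 0) fun q => by
      rw [sum_sq_periods hR]
      push_cast
      split_ifs <;> ring
  obtain ⟨C, Md, md, Cd⟩ := exists_counts F L hR hcd htd _ hfd
    (fun q => (tri R 1 (negQ R 1) q : ℤ)) fun q => sum_tri hR _ _ q
  obtain ⟨K, Mo, mo, Co⟩ := exists_counts F L hR hco hto _ hfo
    (fun q => (tri R (1 : (ZMod 19)ˣ ⧸ R) 1 q : ℤ)) fun q => sum_tri hR _ _ q
  have hmo : ∀ ψ : IrrCharacter G, mo ψ = ma ψ + ms ψ := fun ψ => by
    refine Nat.cast_injective (R := ℂ) ?_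
    rw [Nat.cast_add, ← Co.inner, ← Ca.inner, ← Cs.inner, ← classInner_add_left]
    exact congrArg (classInner · _) (funext hadd)
  have hdiff : ∀ ψ ∈ others u τ Y, (md ψ : ℤ) = ma ψ + ms ψ + sgn u ψ := by
    intro ψ hψ
    have h : classInner Φd (ψ : G → ℂ) = classInner Φo (ψ : G → ℂ) + (sgn u ψ : ℂ) := by
      refine inner_diff F L hR hcd hco htd hto (fun g hg => ?_) ?_ hψ
      · simp only [hΦd, hΦo]
        rw [S.zf.fam.agree (negQ R 1) 1 g hg]
      · rw [Finset.sum_sub_distrib,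
          Finset.sum_congr rfl fun i hi => hfd i (Finset.ne_of_mem_erase hi),
          Finset.sum_congr rfl fun i hi => hfo i (Finset.ne_of_mem_erase hi), sum_erase_prod hR,
          sum_erase_prod hR, if_pos rfl, if_neg (negQ_one_ne hR).symm]
        norm_num
    rw [Cd.inner, Co.inner, hmo] at h
    apply Int.cast_injective (α := ℂ)
    push_cast at h ⊢
    exact h
  have hPa : ∑ q : (ZMod 19)ˣ ⧸ R,
      ((if q = cl R 1 then (1 : ℤ) else 0) + if q = cl R 3 then 1 else 0) = 2 := by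
    rw [Finset.sum_add_distrib, sum_ind, sum_ind]
    norm_num
  have hMa := sum_M hR Ca.shift
  have hMs := sum_M hR Cs.shift
  have hMd := sum_M hR Cd.shift
  rw [hPa] at hMa
  rw [sum_ind] at hMs
  rw [sum_dg hR] at hMd
  have hsa : (-6 : ℤ) = (-3) * δ * ∑ q, (Ma q : ℤ) +
      18 * ∑ ψ ∈ others u τ Y, sgn u ψ * (ma ψ : ℤ) := by
    apply Int.cast_injective (α := ℂ)
    rw [← Ca.sum_f, ← Finset.sum_div, Finset.sum_add_distrib, ← Finset.mul_sum, sum_erase_prod hR,
      if_neg (negQ_one_ne hR).symm, sum_cosum_erase, hR]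
    norm_num
  have hss : (-3 : ℤ) = (-3) * δ * ∑ q, (Ms q : ℤ) +
      18 * ∑ ψ ∈ others u τ Y, sgn u ψ * (ms ψ : ℤ) := by
    apply Int.cast_injective (α := ℂ)
    rw [← Cs.sum_f, ← Finset.sum_div, Finset.sum_add_distrib, ← Finset.mul_sum, sum_erase_prod hR,
      if_neg (negQ_one_ne hR).symm, sum_cosum_erase, hR]
    norm_num
  have hsd : (48 : ℤ) = (-3) * δ * ∑ q, (Md q : ℤ) +
      18 * ∑ ψ ∈ others u τ Y, sgn u ψ * (md ψ : ℤ) := by
    apply Int.cast_injective (α := ℂ)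
    rw [← Cd.sum_f, sum_erase_prod hR, if_pos rfl]
    norm_num
  have hy1 : (y 1 : G → ℂ) 1 = 16 := by rw [charDeg_spec', S.deg_y]; norm_num
  have dA := Ca.degree F L hR (N := 120) (by
    simp only [hΦa, altSq, one_mul, hy1]; norm_num)
  have dB := Cs.degree F L hR (N := 136) (by
    simp only [hΦs, symSq, one_mul, hy1]; norm_num)
  have dC := Cd.degree F L hR (N := 256) (by
    simp only [hΦd, hy1]; rw [charDeg_spec', S.deg_y]; norm_num)
  have hra : 0 ≤ ∑ ψ ∈ rest u τ Y, (ma ψ : ℤ) * charDegree (ψ : G → ℂ) :=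
    Finset.sum_nonneg fun ψ _ => by positivity
  have hrb : 0 ≤ ∑ ψ ∈ rest u τ Y, (ms ψ : ℤ) * charDegree (ψ : G → ℂ) :=
    Finset.sum_nonneg fun ψ _ => by positivity
  have hrc : 0 ≤ ∑ ψ ∈ rest u τ Y, (md ψ : ℤ) * charDegree (ψ : G → ℂ) :=
    Finset.sum_nonneg fun ψ _ => by positivity
  have hA3 := Ca.shift (cl R 3)
  have hA2 := Ca.shift (cl R 2)
  have hB3 := Cs.shift (cl R 3)
  have hB2 := Cs.shift (cl R 2)
  have hne : cl R 2 ≠ cl R 1 ∧ cl R 2 ≠ cl R 3 := by
    constructor <;>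
    · rw [cl, cl, Ne, mk_eq_iff hR]
      exact gen_ne (by norm_num) (by norm_num) (by norm_num)
  rw [if_neg (cl_one_ne_three hR).symm, if_pos rfl] at hA3
  rw [if_pos rfl] at hB3
  rw [if_neg hne.1, if_neg hne.2] at hA2
  rw [if_neg hne.2] at hB2
  simp only [add_zero, zero_add, mul_zero, mul_one] at hA2 hA3 hB2 hB3
  obtain ⟨hDge, hDc⟩ := S.deg_data F
  have hdeg := orth_deg F L he
  by_cases h1 : τ = 1
  · -- the trivial character of the centre
    subst h1
    obtain ⟨hδ, hD, a, b, hoth, ha, hb, hab, hsga, hda, hsgb, hdb, -⟩ := S.one_case F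
    have hsum : ∀ g : IrrCharacter G → ℤ, ∑ ψ ∈ others u (1 : Subgroup.center G →* ℂˣ) Y, g ψ =
        g (trivialIrr G) + g a + g b := fun g => by
      rw [hoth, Finset.sum_insert (by simp [ha.symm, hb.symm]), Finset.sum_insert (by simp [hab]),
        Finset.sum_singleton]
      ring
    have hm0 : mo (trivialIrr G) = 0 := by
      refine Nat.cast_injective (R := ℂ) ?_
      rw [← Co.inner, hΦo, S.y_not_real, Nat.cast_zero]
    rw [hmo] at hm0
    have hma0 : ma (trivialIrr G) = 0 := by omega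
    have hms0 : ms (trivialIrr G) = 0 := by omega
    have hd1 := hdiff a (by rw [hoth]; simp)
    simp only [hsum, hma0, hms0, hsga, hsgb, hda, hdb, hD, hMa, hMs, hδ] at hsa hss dA dB hd1
    push_cast at hsa hss dA dB
    omega
  -- the even case
  have heven : ∀ ψ ∈ others u τ Y, 2 ∣ charDegree (ψ : G → ℂ) := fun ψ hψ =>
    S.deg_even ψ (mem_others.1 hψ).1 hτ h1
  have hnt : ∀ ψ : IrrCharacter G, omega ψ = τ → ψ ≠ trivialIrr G := fun ψ hψ e =>
    h1 (by rw [← hψ, e, omega_trivial])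
  obtain ⟨a, b, c, hab, hac, hbc, hoth, hab', hbc'⟩ := exists_ordered
    ((card_others F L he).trans hR)
    fun ψ : IrrCharacter G => sgn u ψ * (charDegree (ψ : G → ℂ) : ℤ)
  have hsum : ∀ g : IrrCharacter G → ℤ,
      ∑ ψ ∈ others u τ Y, g ψ = g a + g b + g c := fun g => by
    rw [hoth, Finset.sum_insert (by simp [hab, hac]), Finset.sum_insert (by simp [hbc]),
      Finset.sum_singleton]
    ring
  have hma : a ∈ others u τ Y := by rw [hoth]; simp
  have hmb : b ∈ others u τ Y := by rw [hoth]; simp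
  have hmc : c ∈ others u τ Y := by rw [hoth]; simp
  have hda := hdiff a hma
  have hdb := hdiff b hmb
  have hdc := hdiff c hmc
  simp only [hsum] at hsa hss hsd dA dB dC hdeg
  rw [hMa] at hsa dA
  rw [hMs] at hss dB
  rw [hMd, hda, hdb, hdc] at hsd dC
  push_cast at hsa hss hsd dA dB dC hdeg
  have hC : C = A + B := by
    have := sgn_sq (u := u) a
    have := sgn_sq (u := u) b
    have := sgn_sq (u := u) c
    rcases F.sign with rfl | rfl <;> linarith
  have hge : ∀ ψ ∈ others u τ Y, (9 : ℤ) ≤ (charDegree (ψ : G → ℂ) : ℤ) := fun ψ hψ => by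
    exact_mod_cast S.deg_ge' ψ (hnt ψ (mem_others.1 hψ).1)
  have hev : ∀ ψ ∈ others u τ Y, (2 : ℤ) ∣ (charDegree (ψ : G → ℂ) : ℤ) := fun ψ hψ => by
    exact_mod_cast heven ψ hψ
  have hA' : δ = -1 → 1 ≤ A := fun e => by rw [e] at hA3; omega
  have hB' : δ = -1 → 1 ≤ B := fun e => by rw [e] at hB3; omega
  have hA0 : 0 ≤ A := by omega
  have hB0 : 0 ≤ B := by omega
  have hopt := options_sq (D := (charDegree (Y 1 : G → ℂ) : ℤ)) (δ := δ) (A := A) (B := B) (C := C)
    (d₁ := (charDegree (a : G → ℂ) : ℤ)) (d₂ := (charDegree (b : G → ℂ) : ℤ))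
    (d₃ := (charDegree (c : G → ℂ) : ℤ)) (s₁ := sgn u a) (s₂ := sgn u b) (s₃ := sgn u c)
    (a₁ := (ma a : ℤ)) (a₂ := (ma b : ℤ)) (a₃ := (ma c : ℤ)) (b₁ := (ms a : ℤ)) (b₂ := (ms b : ℤ))
    (b₃ := (ms c : ℤ)) F.sign (by exact_mod_cast hDge) hDc
    (by exact_mod_cast S.deg_even (Y 1) (F.om 1) hτ h1) hA0 hB0 hA' hB' (sgn_cases a)
    (sgn_cases b) (sgn_cases c) (hge a hma) (hge b hmb) (hge c hmc) (S.others_data F hma)
    (S.others_data F hmb) (S.others_data F hmc) (hev a hma) (hev b hmb) (hev c hmc)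
    (Int.natCast_nonneg _) (Int.natCast_nonneg _) (Int.natCast_nonneg _) (Int.natCast_nonneg _)
    (Int.natCast_nonneg _) (Int.natCast_nonneg _) (by omega) (by omega) (by omega) hdeg
    (by rcases F.sign with rfl | rfl <;> linarith) (by rcases F.sign with rfl | rfl <;> linarith)
    hC (by linarith) (by linarith) (by linarith) hab' hbc'
  -- the element of order dividing three modulo the centre
  obtain ⟨x, hx⟩ := (L.mem_R seven).1 ((mem_iff_cube hR _).2 seven_cube)
  have hxC : x ∉ CG (Subgroup.zpowers u) := fun h => by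
    rw [show x * u * x⁻¹ = pw u (1 : ZMod 19) by
      rw [L.pw_one', mul_inv_eq_iff_eq_mul]; exact L.mem_cg.1 h] at hx
    exact one_ne_seven (L.pw_inj' hx)
  have hx1 : seven ≠ 1 := fun e => one_ne_seven (congrArg Units.val e).symm
  have hxr : ¬ 19 ∣ orderOf x := L.regular_outside (L.mem_normalizer hx) hxC
  obtain ⟨l, -, -, hl⟩ := S.zf.exists_lam L
  set xN : Nu u := ⟨x, L.mem_normalizer hx⟩
  have hyx : (y 1 : G → ℂ) x = (l xN : ℂ) := hl 1 xN hxC
  have hyxx : (y 1 : G → ℂ) (x * x) = (l xN : ℂ) * (l xN : ℂ) := by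
    rw [← Units.val_mul, ← map_mul]
    refine hl 1 (xN * xN) fun h => ?_
    have h2 : x * x * u * (x * x)⁻¹ = pw u ((seven : ZMod 19) * (seven : ZMod 19)) := by
      rw [← L.conj_pw' hx (seven : ZMod 19), ← hx]
      group
    rw [show x * x * u * (x * x)⁻¹ = pw u (1 : ZMod 19) by
      rw [L.pw_one', mul_inv_eq_iff_eq_mul]; exact L.mem_cg.1 h] at h2
    have h3 := L.pw_inj' h2
    rw [← Units.val_mul, ← Units.val_one, Units.val_inj] at h3
    have h4 := seven_cube
    rw [pow_succ, pow_two, ← h3, one_mul] at h4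
    exact hx1 h4
  have hΦax : Φa x = 0 := by
    simp only [hΦa, altSq, hyx, hyxx]
    ring
  have hΦsx : Φs x = (l xN : ℂ) * (l xN : ℂ) := by
    simp only [hΦs, symSq, hyx, hyxx]
    ring
  have hYx : ∀ M : (ZMod 19)ˣ ⧸ R → ℕ, ∑ q, (M q : ℂ) * (Y q : G → ℂ) x =
      ((∑ q, (M q : ℤ) : ℤ) : ℂ) * (Y 1 : G → ℂ) x := fun M => by
    rw [Finset.sum_congr rfl fun q _ => by rw [F.agree q 1 x hxr], ← Finset.sum_mul]
    push_cast
    rfl
  have hsumC : ∀ g : IrrCharacter G → ℂ, ∑ ψ ∈ others u τ Y, g ψ = g a + g b + g c := fun g => by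
    rw [hoth, Finset.sum_insert (by simp [hab, hac]), Finset.sum_insert (by simp [hbc]),
      Finset.sum_singleton]
    ring
  have hzero : ∀ m : IrrCharacter G → ℕ,
      ∑ ψ ∈ rest u τ Y, (m ψ : ℤ) * charDegree (ψ : G → ℂ) = 0 →
      ∀ ψ ∈ rest u τ Y, m ψ = 0 := by
    intro m hm ψ hψ
    have h := (Finset.sum_eq_zero_iff_of_nonneg fun θ _ => by positivity).1 hm ψ hψ
    rcases mul_eq_zero.1 h with h | h
    · exact_mod_cast h
    · exact absurd (by exact_mod_cast h) (charDeg_pos ψ).ne'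
  obtain ⟨sa, na⟩ := sg_signed (sgn_cases (u := u) a) (charDeg_pos a)
  obtain ⟨sb, nb⟩ := sg_signed (sgn_cases (u := u) b) (charDeg_pos b)
  obtain ⟨sc, nc⟩ := sg_signed (sgn_cases (u := u) c) (charDeg_pos c)
  have hplus : ∀ {s : ℤ} {d n : ℕ}, s = 1 ∨ s = -1 → s * (d : ℤ) = (n : ℤ) → 0 < d →
      s = 1 ∧ d = n := fun hs h hd => by
    rcases hs with rfl | rfl <;> omega
  have hminus : ∀ {s : ℤ} {d n : ℕ}, s = 1 ∨ s = -1 → s * (d : ℤ) = -(n : ℤ) → 0 < d →
      s = -1 ∧ d = n := fun hs h hd => by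
    rcases hs with rfl | rfl <;> omega
  rcases kill_sq hopt with ⟨hδ, hD, ea, eb, ec⟩ | ⟨hδ, hD, ea, eb, ec⟩ | ⟨hδ, hD, ea, eb, ec⟩ |
    ⟨hδ, hD, ea, eb, ec⟩ | hno
  rotate_left 4
  · obtain ⟨t, ht, w, htc, hw⟩ := S.exists_root τ fun z => Or.inl (hτ z)
    refine S.false_of_block F ht htc hw hoth hab hac hbc (fun ψ hψ hd => ?_) hno
    have := hge ψ hψ
    omega
  all_goals subst hδ
  all_goals rw [hD] at dA dB dC
  · -- degree 60 with a negative character
    obtain ⟨s1, d1⟩ := hminus (n := 56) (sgn_cases a) (by exact_mod_cast ea) (charDeg_pos a)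
    obtain ⟨s2, d2⟩ := hplus (n := 20) (sgn_cases b) (by exact_mod_cast eb) (charDeg_pos b)
    obtain ⟨s3, d3⟩ := hplus (n := 96) (sgn_cases c) (by exact_mod_cast ec) (charDeg_pos c)
    rw [d1, d2, d3] at dA dB
    rw [s1, s2, s3] at hsa hss
    rw [s1] at hda
    push_cast at dA dB
    have hA : A = 0 := by omega
    have hB : B = 0 := by omega
    have hva : ma a = 0 ∧ ma b = 0 ∧ ma c = 0 := by omega
    have hvb : ms a = 1 ∧ ms b = 1 ∧ ms c = 0 := by omega
    have hr1 := hzero ma (by omega)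
    have hr2 := hzero ms (by omega)
    obtain ⟨Y₁, δ₁, F₁, -⟩ := exists_fam L (trivialIrr G) (by
      rw [show charDegree (trivialIrr G : G → ℂ) = 1 by simp [charDegree, trivialIrr]]
      exact hp.out.not_dvd_one)
    rw [omega_trivial] at F₁
    obtain ⟨-, -, _, _, -, -, -, -, -, -, -, -, hn8⟩ := S.one_case F₁
    have heq : classInner (fun g => (y 1 : G → ℂ) g * conj ((y 1 : G → ℂ) g))
        (fun g => (y 1 : G → ℂ) g * conj ((y 1 : G → ℂ) g)) = classInner Φo Φo := by
      simp only [classInner, hΦo, map_mul, Complex.conj_conj]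
      exact congrArg _ (Finset.sum_congr rfl fun g _ => by ring)
    rw [heq, Co.norm, Complex.natCast_re] at hn8
    have hn : 8 ≤ ∑ q, Mo q ^ 2 + (∑ ψ ∈ others u τ Y, mo ψ ^ 2 +
        ∑ ψ ∈ rest u τ Y, mo ψ ^ 2) := by exact_mod_cast hn8
    have hK : K = 0 := by
      have h0 := Co.shift (cl R 2)
      have e : mo (Y (cl R 2)) = ma (Y (cl R 2)) + ms (Y (cl R 2)) := hmo _
      rw [← Co.fam, ← Ca.fam, ← Cs.fam] at e
      rw [tri_off hR, if_neg hne.1, if_neg hne.2] at h0
      push_cast at h0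
      omega
    have h5 : ∑ q, Mo q ^ 2 = 5 := by
      rw [← off_sq hR]
      refine Finset.sum_congr rfl fun q _ => ?_
      have h0 := Co.shift q
      rw [hK] at h0
      congr 1
      omega
    rw [h5, Finset.sum_eq_zero (s := rest u τ Y) (fun ψ hψ => by
      rw [hmo, hr1 ψ hψ, hr2 ψ hψ]; norm_num), hoth, Finset.sum_insert (by simp [hab, hac]),
      Finset.sum_insert (by simp [hbc]), Finset.sum_singleton, hmo, hmo, hmo, hva.1, hva.2.1,
      hva.2.2, hvb.1, hvb.2.1, hvb.2.2] at hn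
    norm_num at hn
  · -- degree 60 with three positive characters
    obtain ⟨s1, d1⟩ := hplus (n := 20) (sgn_cases a) (by exact_mod_cast ea) (charDeg_pos a)
    obtain ⟨s2, d2⟩ := hplus (n := 20) (sgn_cases b) (by exact_mod_cast eb) (charDeg_pos b)
    obtain ⟨s3, d3⟩ := hplus (n := 20) (sgn_cases c) (by exact_mod_cast ec) (charDeg_pos c)
    rw [d1, d2, d3] at dA dB
    rw [s1, s2, s3] at hsa hss
    push_cast at dA dB
    have hA : A = 0 := by omega
    have hB : B = 0 := by omega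
    have hva : ma a = 0 ∧ ma b = 0 ∧ ma c = 0 := by omega
    have hvb : ms a = 0 ∧ ms b = 0 ∧ ms c = 0 := by omega
    have hr1 := hzero ma (by omega)
    have hY0 : (Y 1 : G → ℂ) x = 0 := by
      have h := Ca.decomp x
      rw [hΦax, hYx, hMa, hsumC, hva.1, hva.2.1, hva.2.2,
        Finset.sum_eq_zero (s := rest u τ Y) (fun ψ hψ => by rw [hr1 ψ hψ, Nat.cast_zero, zero_mul]),
        hA] at h
      push_cast at h
      linear_combination -h / 2
    have hr38 : ∀ ψ ∈ rest u τ Y, (38 : ℤ) ≤ (charDegree (ψ : G → ℂ) : ℤ) := fun ψ hψ => by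
      have h19 := rest_deg F L hR hψ
      have h2 := S.deg_even ψ (mem_rest.1 hψ).1 hτ h1
      have := charDeg_pos ψ
      omega
    have h76 : ∑ ψ ∈ rest u τ Y, (ms ψ : ℤ) * charDegree (ψ : G → ℂ) = 76 := by omega
    have hle : 38 * ∑ ψ ∈ rest u τ Y, (ms ψ : ℤ) ≤ 76 := by
      rw [← h76, Finset.mul_sum]
      exact Finset.sum_le_sum fun ψ hψ => by
        rw [mul_comm]; exact mul_le_mul_of_nonneg_left (hr38 ψ hψ) (Int.natCast_nonneg _)
    have hle' : ∑ ψ ∈ rest u τ Y, ms ψ ≤ 2 := by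
      have : ((∑ ψ ∈ rest u τ Y, ms ψ : ℕ) : ℤ) ≤ 2 := by push_cast; omega
      exact_mod_cast this
    obtain ⟨Y₁, δ₁, F₁, -⟩ := exists_fam L (trivialIrr G) (by
      rw [show charDegree (trivialIrr G : G → ℂ) = 1 by simp [charDegree, trivialIrr]]
      exact hp.out.not_dvd_one)
    rw [omega_trivial] at F₁
    obtain ⟨-, -, _, _, -, -, -, -, -, -, -, -, hn8⟩ := S.one_case F₁
    have heq : classInner (fun g => (y 1 : G → ℂ) g * conj ((y 1 : G → ℂ) g))
        (fun g => (y 1 : G → ℂ) g * conj ((y 1 : G → ℂ) g)) = classInner Φo Φo := by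
      simp only [classInner, hΦo, map_mul, Complex.conj_conj]
      exact congrArg _ (Finset.sum_congr rfl fun g _ => by ring)
    rw [heq, Co.norm, Complex.natCast_re] at hn8
    have hn : 8 ≤ ∑ q, Mo q ^ 2 + (∑ ψ ∈ others u τ Y, mo ψ ^ 2 +
        ∑ ψ ∈ rest u τ Y, mo ψ ^ 2) := by exact_mod_cast hn8
    have hK : K = 0 := by
      have h0 := Co.shift (cl R 2)
      have e : mo (Y (cl R 2)) = ma (Y (cl R 2)) + ms (Y (cl R 2)) := hmo _
      rw [← Co.fam, ← Ca.fam, ← Cs.fam] at e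
      rw [tri_off hR, if_neg hne.1, if_neg hne.2] at h0
      push_cast at h0
      omega
    have h5 : ∑ q, Mo q ^ 2 = 5 := by
      rw [← off_sq hR]
      refine Finset.sum_congr rfl fun q _ => ?_
      have h0 := Co.shift q
      rw [hK] at h0
      congr 1
      omega
    rw [h5, Finset.sum_congr rfl (s₂ := rest u τ Y) (g := fun ψ => ms ψ ^ 2) (fun ψ hψ => by
      rw [hmo, hr1 ψ hψ, zero_add]), hoth, Finset.sum_insert (by simp [hab, hac]),
      Finset.sum_insert (by simp [hbc]), Finset.sum_singleton, hmo, hmo, hmo, hva.1, hva.2.1,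
      hva.2.2, hvb.1, hvb.2.1, hvb.2.2] at hn
    norm_num at hn
    obtain ⟨θ, hθ, hθ2⟩ : ∃ θ ∈ rest u τ Y, 2 ≤ ms θ := by
      by_contra hcon
      push Not at hcon
      have : ∑ ψ ∈ rest u τ Y, ms ψ ^ 2 ≤ ∑ ψ ∈ rest u τ Y, ms ψ :=
        Finset.sum_le_sum fun ψ hψ => by
          have := hcon ψ hψ
          rw [pow_two]
          nlinarith
      omega
    have hsplit := Finset.add_sum_erase _ ms hθ
    have hθe : ms θ = 2 := by omega
    have hothers : ∀ ψ ∈ (rest u τ Y).erase θ, ms ψ = 0 := fun ψ hψ =>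
      (Finset.sum_eq_zero_iff.1 (by omega : ∑ ψ ∈ (rest u τ Y).erase θ, ms ψ = 0)) ψ hψ
    have h := Cs.decomp x
    rw [hΦsx, hYx, hMs, hsumC, hvb.1, hvb.2.1, hvb.2.2, hY0, hB,
      ← Finset.add_sum_erase _ _ hθ, Finset.sum_eq_zero (s := (rest u τ Y).erase θ)
        (fun ψ hψ => by rw [hothers ψ hψ, Nat.cast_zero, zero_mul]), hθe] at h
    push_cast at h
    refine root_ne_two_mul (Nat.card_pos (α := Nu u)) (z := ((l xN * l xN : ℂˣ) : ℂ))
      (α := (θ : G → ℂ) x) ?_ (IsChar.isIntegral (IsIrr.isCharacter θ.2) x) ?_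
    · rw [← Units.val_pow_eq_pow_val, ← map_mul, ← map_pow, pow_card_eq_one', map_one,
        Units.val_one]
    · rw [Units.val_mul]
      linear_combination h
  all_goals
    obtain ⟨s1, d1⟩ := hminus (n := 56) (sgn_cases a) (by exact_mod_cast ea) (charDeg_pos a)
  · -- degree 16 with one negative character
    obtain ⟨s2, d2⟩ := hplus (n := 20) (sgn_cases b) (by exact_mod_cast eb) (charDeg_pos b)
    obtain ⟨s3, d3⟩ := hplus (n := 20) (sgn_cases c) (by exact_mod_cast ec) (charDeg_pos c)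
    rw [d1, d2, d3] at dA
    rw [s1, s2, s3] at hsa
    push_cast at dA
    have hA : A = 1 := by omega
    have hva : ma a = 1 ∧ ma b = 0 ∧ ma c = 0 := by omega
    have hr1 := hzero ma (by omega)
    have h := Ca.decomp x
    rw [hΦax, hYx, hMa, hsumC, hva.1, hva.2.1, hva.2.2,
      Finset.sum_eq_zero (s := rest u τ Y) (fun ψ hψ => by rw [hr1 ψ hψ, Nat.cast_zero, zero_mul]),
      hA] at h
    push_cast at h
    have hY : ∑ i : ZMod 19, (Y 1 : G → ℂ) (pw u i) = 19 * ((1 : ℕ) : ℂ) := by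
      rw [← Finset.add_sum_erase _ _ (Finset.mem_univ (0 : ZMod 19)), F.sum_erase,
        show pw u (0 : ZMod 19) = 1 by simp [pw], charDeg_spec',
        show charDegree (Y 1 : G → ℂ) = 16 by omega, hR]
      norm_num
    have hnY := (norm_le_fix L (IsIrr.isCharacter (Y 1).2) hY hx hx1).2 rfl
    have hχ : ∑ i : ZMod 19, (a : G → ℂ) (pw u i) = 19 * ((2 : ℕ) : ℂ) := by
      rw [← Finset.add_sum_erase _ _ (Finset.mem_univ (0 : ZMod 19)),
        Finset.sum_congr rfl fun i hi => others_val F L he hma (Finset.ne_of_mem_erase hi),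
        show pw u (0 : ZMod 19) = 1 by simp [pw], charDeg_spec', d1, s1, Finset.sum_const,
        Finset.card_erase_of_mem (Finset.mem_univ _), Finset.card_univ, ZMod.card, nsmul_eq_mul]
      norm_num
    have hnχ := (norm_le_fix L (IsIrr.isCharacter a.2) hχ hx hx1).1
    have h4 : (a : G → ℂ) x = (-4 : ℂ) * (Y 1 : G → ℂ) x := by linear_combination -h
    rw [h4, norm_mul, hnY] at hnχ
    norm_num at hnχ
  · -- degree 16 with two negative characters
    obtain ⟨s2, d2⟩ := hminus (n := 56) (sgn_cases b) (by exact_mod_cast eb) (charDeg_pos b)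
    obtain ⟨s3, d3⟩ := hplus (n := 96) (sgn_cases c) (by exact_mod_cast ec) (charDeg_pos c)
    rw [d1, d2, d3] at dA
    rw [s1, s2, s3] at hsa
    push_cast at dA
    have hA : A = 1 := by omega
    have hvc : ma c = 0 := by omega
    have hva : ma a + ma b = 1 := by omega
    have hr1 := hzero ma (by omega)
    have h := Ca.decomp x
    rw [hΦax, hYx, hMa, hsumC, hvc,
      Finset.sum_eq_zero (s := rest u τ Y) (fun ψ hψ => by rw [hr1 ψ hψ, Nat.cast_zero, zero_mul]),
      hA] at h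
    push_cast at h
    have hY : ∑ i : ZMod 19, (Y 1 : G → ℂ) (pw u i) = 19 * ((1 : ℕ) : ℂ) := by
      rw [← Finset.add_sum_erase _ _ (Finset.mem_univ (0 : ZMod 19)), F.sum_erase,
        show pw u (0 : ZMod 19) = 1 by simp [pw], charDeg_spec',
        show charDegree (Y 1 : G → ℂ) = 16 by omega, hR]
      norm_num
    have hnY := (norm_le_fix L (IsIrr.isCharacter (Y 1).2) hY hx hx1).2 rfl
    have hχ : ∀ ψ ∈ others u τ Y, sgn u ψ = -1 → charDegree (ψ : G → ℂ) = 56 →
        ‖(ψ : G → ℂ) x‖ ≤ 2 := by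
      intro ψ hψ hs hd
      have hsum2 : ∑ i : ZMod 19, (ψ : G → ℂ) (pw u i) = 19 * ((2 : ℕ) : ℂ) := by
        rw [← Finset.add_sum_erase _ _ (Finset.mem_univ (0 : ZMod 19)),
          Finset.sum_congr rfl fun i hi => others_val F L he hψ (Finset.ne_of_mem_erase hi),
          show pw u (0 : ZMod 19) = 1 by simp [pw], charDeg_spec', hd, hs, Finset.sum_const,
          Finset.card_erase_of_mem (Finset.mem_univ _), Finset.card_univ, ZMod.card, nsmul_eq_mul]
        norm_num
      exact_mod_cast (norm_le_fix L (IsIrr.isCharacter ψ.2) hsum2 hx hx1).1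
    rcases (by omega : (ma a = 1 ∧ ma b = 0) ∨ (ma a = 0 ∧ ma b = 1)) with ⟨v1, v2⟩ | ⟨v1, v2⟩
    · rw [v1, v2] at h
      push_cast at h
      have h4 : (a : G → ℂ) x = (-4 : ℂ) * (Y 1 : G → ℂ) x := by linear_combination -h
      have := hχ a hma s1 d1
      rw [h4, norm_mul, hnY] at this
      norm_num at this
    · rw [v1, v2] at h
      push_cast at h
      have h4 : (b : G → ℂ) x = (-4 : ℂ) * (Y 1 : G → ℂ) x := by linear_combination -h
      have := hχ b hmb s2 d2
      rw [h4, norm_mul, hnY] at this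
      norm_num at this

end Setting

end Cfsg.Agent.Block.Deg16
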