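import Mathlib
import Cfsg.Agent.Lib.Block.Deg16.Square
import Cfsg.Agent.Lib.Block.SmallFaith.Main

/-!
The exceptional degrees `p - e` below 26 for `p > 7`, and the cases for `p ∈ {5, 7}`.
-/

set_option autoImplicit false
set_option linter.unusedSectionVars false
set_option linter.style.haveILetI false
set_option maxHeartbeats 800000

namespace Cfsg.Agent.Block.Deg16

open Cfsg Cfsg.Agent.Char Cfsg.Agent.Char.DefectOne Cfsg.Agent.Block.PMinusTwo
  Cfsg.Agent.Block.SmallFaith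
open scoped _root_.Classical

universe w

variable {G : Type w} [Group G] [Fintype G] {p : ℕ} [hp : Fact p.Prime] {u : G}
  {R : Subgroup (ZMod p)ˣ}

/-- An even number of exponents is impossible. -/
theorem even_false {ω : Subgroup.center G →* ℂˣ} {y : (ZMod p)ˣ ⧸ R → IrrCharacter G}
    (Z : Zf p u R ω y) (L : Sit p u R)
    (hsmall : ∀ φ : IrrCharacter G, (φ : G → ℂ) u ≠ (φ : G → ℂ) 1 →
      p ≤ 2 * charDegree (φ : G → ℂ) + 1)
    {t : ℕ} (ht : Nat.card R * t + 1 = p) (ht3 : 3 ≤ t) (he : 3 ≤ Nat.card R)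
    (heven : Even (Nat.card R)) : False := by
  letI : Fintype ((ZMod p)ˣ ⧸ R) := Fintype.ofFinite _
  have hp2 : p ≠ 2 := by
    have := Nat.mul_le_mul_left (Nat.card R) ht3
    omega
  have hneg : (-1 : (ZMod p)ˣ) ∈ R := by
    obtain ⟨x, hx⟩ := exists_prime_orderOf_dvd_card' (G := R) 2 (even_iff_two_dvd.1 heven)
    rw [← Subgroup.orderOf_coe] at hx
    have h1 : (((x : (ZMod p)ˣ)) : ZMod p) * ((x : (ZMod p)ˣ) : ZMod p) = 1 := by
      rw [← Units.val_mul, ← pow_two, ← hx, pow_orderOf_eq_one, Units.val_one]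
    rcases mul_self_eq_one_iff.1 h1 with h | h
    · rw [Units.val_eq_one] at h
      rw [h, orderOf_one] at hx
      omega
    · have e : (x : (ZMod p)ˣ) = -1 := Units.ext (by rw [h, Units.val_neg, Units.val_one])
      exact e ▸ x.2
  obtain ⟨Y, τ, δ, F, hτ⟩ := Z.exists_fam_sq L
  obtain ⟨δ', K, hP⟩ := Z.exists_pbound L hsmall ht ht3
  obtain ⟨j, r, hjr, hr⟩ : ∃ j r, Nat.card R = t * j + r ∧ r < t :=
    ⟨_, _, (Nat.div_add_mod _ _).symm, Nat.mod_lt _ (by omega)⟩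
  exact no_even R ht ht3 he hjr hr hp2 hneg hP
    fun a => Z.squares L hsmall ht ht3 F hτ hp2 hneg a

/-- The two cases of `exists_start`, the first one with its group. -/
theorem exists_cases_few (hp5 : 5 ≤ p) (P : Sylow p G) (hP : Nat.card P = p)
    (hnn : ¬ (P : Subgroup G).Normal) (ζ : IrrCharacter G)
    (hfaith : ∀ g, (ζ : G → ℂ) g = (ζ : G → ℂ) 1 → g = 1)
    (hdeg : charDegree (ζ : G → ℂ) + 2 ≤ p) :
    ∃ (u : G) (R : Subgroup (ZMod p)ˣ), Sit p u R ∧
      ((Nonempty ((G ⧸ Subgroup.center G) ≃* Matrix.ProjectiveSpecialLinearGroup (Fin 2) (ZMod p)) ∧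
          2 * Nat.card R + 1 = p ∧ charDegree (ζ : G → ℂ) = Nat.card R) ∨
        (charDegree (ζ : G → ℂ) + Nat.card R = p ∧ 2 * Nat.card R + 1 ≤ p ∧
          ∃ q₀ : (ZMod p)ˣ ⧸ R, ∀ i : ZMod p, i ≠ 0 →
            (ζ : G → ℂ) (pw u i) = -cosum R q₀ i)) := by
  have hsq := not_sq_dvd P hP
  have hn := no_normal_order P hP hnn
  have hχ : IsCharacter G (ζ : G → ℂ) := IsIrr.isCharacter ζ.2
  have he : (ζ : G → ℂ) 1 = (charDegree (ζ : G → ℂ) : ℂ) := charDeg_spec' ζ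
  obtain ⟨u, hu, hsyl, hFM⟩ := exists_start hp5 P hP hnn ζ hfaith hdeg
  rcases hFM with ⟨⟨m, a, hm, hcard, ha⟩, hdegS⟩ | ⟨R, q₀, L, hde, hR2, hval⟩
  · obtain ⟨k, _, _, V, _, _, _, σ, hirr, hVd, hσu, hσa⟩ :=
      HalfDeg.exists_simple_pow hsq hn hχ hfaith he hu hm hcard
    obtain ⟨iso⟩ := HalfDeg.main_of_simple hsq hn hχ hfaith he hdeg hp5 hu
      (closure_irr (by omega) hsq hn ζ hfaith hdeg hu) σ hirr (by omega) hσu hσa ha
    obtain ⟨hcent, hconj⟩ := psl_local (by omega) hsq (center_regular hn) iso hu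
    let S : Subgroup (ZMod p)ˣ := (powMonoidHom 2 : (ZMod p)ˣ →* (ZMod p)ˣ).range
    have hS : ∀ r, r ∈ S ↔ IsSquare r := fun r =>
      ⟨fun ⟨b, hb⟩ => ⟨b, by rw [← hb, powMonoidHom_apply, sq]⟩,
        fun ⟨b, hb⟩ => ⟨b, by rw [powMonoidHom_apply, sq, ← hb]⟩⟩
    have hSm : ∀ r, r ∈ S ↔ ∃ g : G, g * u * g⁻¹ = pw u (r : ZMod p) := fun r =>
      (hS r).trans (hconj r).symm
    exact ⟨u, S, ⟨hu, hsyl, center_regular hn, hcent, hSm⟩,
      Or.inl ⟨⟨iso⟩, card_squares (by omega) S hS, hdegS hcent S hSm⟩⟩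
  · exact ⟨u, R, L, Or.inr ⟨hde, hR2, q₀, hval⟩⟩

/-- No perfect-like group with the exceptional characters of degree 16. -/
theorem no_nineteen {N : Type w} [Group N] [Fintype N] [hp : Fact (Nat.Prime 19)] (Q : Sylow 19 N)
    (hQ : Nat.card Q = 19) (hQn : ¬ (Q : Subgroup N).Normal) (ζ : IrrCharacter N)
    (hfaith : ∀ g, (ζ : N → ℂ) g = (ζ : N → ℂ) 1 → g = 1)
    (hdeg : charDegree (ζ : N → ℂ) = 16) : False := by
  have hsq := SmallFaith.not_sq_dvd Q hQ
  have hnn := SmallFaith.no_normal_order Q hQ hQn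
  have hdvd : 19 ∣ Nat.card N := hQ ▸ Subgroup.card_subgroup_dvd_card (Q : Subgroup N)
  obtain ⟨u, hu⟩ := exists_prime_orderOf_dvd_card' 19 hdvd
  have hup : u ^ 19 = 1 := hu ▸ pow_orderOf_eq_one u
  set X := Subgroup.normalClosure ({u} : Set N) with hX
  haveI hXn : X.Normal := Subgroup.normalClosure_normal
  letI := Fintype.ofFinite X
  have hirr := SmallFaith.closure_irr (by norm_num) hsq hnn ζ hfaith (by omega) hu
  set ζ₁ : IrrCharacter X := ⟨fun x : X => (ζ : N → ℂ) x, hirr⟩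
  have hfaith₁ : ∀ x : X, (ζ₁ : X → ℂ) x = (ζ₁ : X → ℂ) 1 → x = 1 := fun x hx =>
    Subtype.ext (hfaith x hx)
  have hdeg₁ : charDegree (ζ₁ : X → ℂ) = 16 := by
    refine Nat.cast_injective (R := ℂ) ?_
    rw [← Cfsg.Agent.Block.charDeg_spec' ζ₁, ← hdeg, ← Cfsg.Agent.Block.charDeg_spec' ζ]
    rfl
  have huX : u ∈ X := Subgroup.subset_normalClosure rfl
  have hXdvd : 19 ∣ Nat.card X := hu ▸ Subgroup.orderOf_dvd_natCard X huX
  have hXsq : ¬ 19 ^ 2 ∣ Nat.card X := fun h => hsq (h.trans (Subgroup.card_subgroup_dvd_card X))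
  let Q₁ : Sylow 19 X := default
  have hQ₁ : Nat.card Q₁ = 19 := by
    obtain ⟨k, hk⟩ := Q₁.isPGroup'.exists_card_eq
    have h1 := Q₁.card_eq_multiplicity
    rcases Nat.lt_trichotomy k 1 with h | h | h
    · exfalso
      have := Q₁.pow_dvd_card_of_pow_dvd_card (n := 1) (by rwa [pow_one])
      rw [hk, show k = 0 by omega] at this
      norm_num at this
    · rw [hk, h, pow_one]
    · exact absurd ((Nat.pow_dvd_pow 19 h).trans (hk ▸ Subgroup.card_subgroup_dvd_card (Q₁ : Subgroup X))) hXsq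
  have hQ₁n : ¬ (Q₁ : Subgroup X).Normal := by
    intro h
    haveI := Q₁.characteristic_of_normal h
    exact hnn ((Q₁ : Subgroup X).map X.subtype) inferInstance
      (by rw [Subgroup.card_map_of_injective X.subtype_injective]; exact hQ₁)
  obtain ⟨v, R, L, hcase⟩ := SmallFaith.exists_cases (by norm_num) Q₁ hQ₁ hQ₁n ζ₁ hfaith₁ (by omega)
  rw [hdeg₁] at hcase
  have hR : Nat.card R = 3 := by
    rcases hcase with ⟨-, -, hd⟩ | ⟨ω, y, t, Z, ht, ht3, hR2, hde⟩ <;> omega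
  letI : Fintype ((ZMod 19)ˣ ⧸ R) := Fintype.ofFinite _
  obtain ⟨Y, δ, F, hor⟩ := SmallFaith.exists_fam L ζ₁ (by rw [hdeg₁]; norm_num)
  rcases hor with ⟨q, hq⟩ | ⟨c, hc, hconst⟩
  swap
  · obtain ⟨k, hk⟩ := exists_fix_const L ζ₁ c hconst
    rw [hdeg₁] at hk
    rcases hc with rfl | rfl <;> omega
  have hδ : δ = -1 := by
    obtain ⟨k, hk⟩ := exists_fix L (IsIrr.isCharacter ζ₁.2)
    rw [← Finset.add_sum_erase _ _ (Finset.mem_univ (0 : ZMod 19)), ← hq, F.sum_erase q, hR] at hk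
    rcases F.sign with h | h
    · exfalso
      have h0 : Cfsg.Agent.Char.DefectOne.pw v (0 : ZMod 19) = 1 := by
        simp [Cfsg.Agent.Char.DefectOne.pw]
      rw [h0, hq, Cfsg.Agent.Block.charDeg_spec' ζ₁, hdeg₁, h] at hk
      push_cast at hk
      have h2 : ((13 : ℕ) : ℂ) = ((19 * k : ℕ) : ℂ) := by
        push_cast
        rw [← hk]
        ring
      have h3 : 13 = 19 * k := Nat.cast_injective h2
      omega
    · exact h
  subst hδ
  have hdegY : ∀ q', charDegree (Y q' : X → ℂ) + Nat.card R = 19 := fun q' => by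
    rw [F.charDeg_eq q' q, hq, hdeg₁, hR]
  have hgen : ∀ K : Subgroup X, K.Normal → 19 ∣ Nat.card K → K = ⊤ := by
    intro K hK hK19
    have hle : X ≤ K.map X.subtype := by
      refine (Subgroup.closure_le _).2 fun x hx => ?_
      obtain ⟨y, hy, hc⟩ := Group.mem_conjugatesOfSet_iff.1 hx
      rw [Set.mem_singleton_iff.1 hy] at hc
      obtain ⟨g, rfl⟩ := isConj_iff.1 hc
      haveI := hK
      refine ⟨⟨g * u * g⁻¹, hXn.conj_mem u huX g⟩, HalfDeg.mem_of_dvd hXsq hK19 (Subtype.ext ?_), rfl⟩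
      rw [SubmonoidClass.coe_pow, conj_pow, hup, mul_one, mul_inv_cancel]
      rfl
    refine eq_top_iff.2 fun x _ => ?_
    obtain ⟨y, hy, hyx⟩ := hle x.2
    rwa [← Subtype.ext hyx]
  have hS : Setting v R (PMinusTwo.omega ζ₁) Y := by
    refine ⟨L, ⟨F, hdegY⟩, hR,
      fun K hK hvK => hgen K hK (L.hu ▸ Subgroup.orderOf_dvd_natCard K hvK), fun g hg => ?_⟩
    set K := charKer (IsIrr.isCharacter (Y 1).2)
    have hgK : g ∈ K := (mem_charKer _).2 hg
    by_cases hK : 19 ∣ Nat.card K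
    · exfalso
      have htop := hgen K (charKer_normal _) hK
      have hconst := irr_const_eq_one (Y 1).2 fun x => (mem_charKer _).1 (htop ▸ Subgroup.mem_top x)
      have h1 := Cfsg.Agent.Block.charDeg_spec' (Y 1)
      rw [congrFun hconst 1] at h1
      have h2 : charDegree (Y 1 : X → ℂ) = 1 := by exact_mod_cast h1.symm
      have := hdegY 1
      omega
    · have hreg : ¬ 19 ∣ orderOf g := fun h => hK (h.trans (Subgroup.orderOf_dvd_natCard K hgK))
      refine hfaith₁ g ?_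
      rw [← hq, F.agree q 1 g hreg, F.agree q 1 1 (by rw [orderOf_one]; norm_num)]
      exact hg
  exact hS.impossible

end Cfsg.Agent.Block.Deg16
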