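import Mathlib
import Cfsg.Agent.Lib.Char.Det
import Cfsg.Agent.Lib.Char.Complete

/-!
Invariant subspaces, eigenspaces and commuting elements of prime power order in a representation.
-/

set_option autoImplicit false
set_option linter.unusedSectionVars false
set_option linter.style.haveILetI false

namespace Cfsg.Agent.Block.Deg16

open Cfsg Cfsg.Agent.Char Module
open scoped _root_.Classical

universe w v

/-- The order of `x` is a power of `p`. -/
def PEl (p : ℕ) {G : Type w} [Monoid G] (x : G) : Prop := ∃ k : ℕ, x ^ p ^ k = 1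

section PEl

variable {G : Type w} [Group G] {p : ℕ}

theorem PEl.pow {x : G} (h : PEl p x) (i : ℕ) : PEl p (x ^ i) := by
  obtain ⟨k, hk⟩ := h
  exact ⟨k, by rw [← pow_mul, mul_comm, pow_mul, hk, one_pow]⟩

theorem PEl.conj {x : G} (h : PEl p x) (g : G) : PEl p (g * x * g⁻¹) := by
  obtain ⟨k, hk⟩ := h
  exact ⟨k, by rw [conj_pow, hk, mul_one, mul_inv_cancel]⟩

theorem PEl.mul {x y : G} (hx : PEl p x) (hy : PEl p y) (h : Commute x y) : PEl p (x * y) := by
  obtain ⟨k, hk⟩ := hx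
  obtain ⟨l, hl⟩ := hy
  refine ⟨k + l, ?_⟩
  rw [h.mul_pow, pow_add, pow_mul, hk, one_pow, one_mul, mul_comm, pow_mul, hl, one_pow]

theorem PEl.inv {x : G} (h : PEl p x) : PEl p x⁻¹ := by
  obtain ⟨k, hk⟩ := h
  exact ⟨k, by rw [inv_pow, hk, inv_one]⟩

theorem pEl_of_mem {P : Subgroup G} (hP : IsPGroup p P) {x : G} (hx : x ∈ P) : PEl p x := by
  obtain ⟨k, hk⟩ := hP ⟨x, hx⟩
  exact ⟨k, congrArg Subtype.val hk⟩

theorem isPGroup_zpowers [hp : Fact p.Prime] [Finite G] {x : G} (h : PEl p x) :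
    IsPGroup p (Subgroup.zpowers x) := by
  obtain ⟨k, hk⟩ := h
  obtain ⟨i, -, hi⟩ := (Nat.dvd_prime_pow hp.out).1 (orderOf_dvd_of_pow_eq_one hk)
  exact IsPGroup.of_card (n := i) (by rw [Nat.card_zpowers, hi])

theorem exists_sylow_mem [hp : Fact p.Prime] [Finite G] {x : G} (h : PEl p x) :
    ∃ P : Sylow p G, x ∈ (P : Subgroup G) := by
  obtain ⟨P, hP⟩ := (isPGroup_zpowers h).exists_le_sylow
  exact ⟨P, hP (Subgroup.mem_zpowers x)⟩

theorem mem_sylow_of_commute [hp : Fact p.Prime] [Finite G] {x : G} (h : PEl p x) (P : Sylow p G)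
    (hc : ∀ y ∈ (P : Subgroup G), x * y = y * x) : x ∈ (P : Subgroup G) := by
  have hle : Subgroup.zpowers x ≤ Subgroup.normalizer ((P : Subgroup G) : Set G) := by
    rw [Subgroup.zpowers_le, Subgroup.mem_normalizer_iff]
    intro y
    constructor
    · intro hy
      rwa [hc y hy, mul_inv_cancel_right]
    · intro hy
      have h1 := hc _ hy
      have h2 : x * y * x⁻¹ = y := by
        have h3 : y = x⁻¹ * ((x * y * x⁻¹) * x) := by group
        rw [← h1, inv_mul_cancel_left] at h3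
        exact h3.symm
      rwa [← h2]
  have hp' := IsPGroup.to_sup_of_normal_right' (isPGroup_zpowers h) P.isPGroup' hle
  have := P.is_maximal' hp' le_sup_right
  exact this ▸ (le_sup_left (a := Subgroup.zpowers x) (Subgroup.mem_zpowers x))

end PEl

variable {G : Type w} [Group G] {V : Type v} [AddCommGroup V] [Module ℂ V] [FiniteDimensional ℂ V]
  (ρ : Representation ℂ G V)

/-- `W` is invariant under `C`. -/
def InvOn (C : Subgroup G) (W : Submodule ℂ V) : Prop := ∀ g ∈ C, ∀ w ∈ W, ρ g w ∈ W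

/-- The elements of `p`-power order of `C` commute on `W`. -/
def PCOn (p : ℕ) (C : Subgroup G) (W : Submodule ℂ V) : Prop :=
  ∀ a ∈ C, ∀ b ∈ C, PEl p a → PEl p b → ∀ w ∈ W, ρ a (ρ b w) = ρ b (ρ a w)

/-- The multiplicity of the eigenvalue `c` of `x` on `W`. -/
noncomputable def em (x : G) (c : ℂ) (W : Submodule ℂ V) : ℕ :=
  finrank ℂ ↥(Module.End.eigenspace (ρ x) c ⊓ W)

/-- `x` is a scalar on `W`. -/
def ScalOn (x : G) (W : Submodule ℂ V) : Prop := ∃ c : ℂ, ∀ w ∈ W, ρ x w = c • w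

variable {ρ}

theorem em_le (x : G) (c : ℂ) (W : Submodule ℂ V) : em ρ x c W ≤ finrank ℂ W :=
  Submodule.finrank_mono inf_le_right

theorem em_mono (x : G) (c : ℂ) {W W' : Submodule ℂ V} (h : W ≤ W') :
    em ρ x c W ≤ em ρ x c W' :=
  Submodule.finrank_mono (inf_le_inf_left _ h)

theorem em_scal {x : G} {c : ℂ} {W : Submodule ℂ V} (h : ∀ w ∈ W, ρ x w = c • w) :
    em ρ x c W = finrank ℂ W := by
  rw [em, inf_eq_right.2 fun w hw => Module.End.mem_eigenspace_iff.2 (h w hw)]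

theorem em_add {C : Subgroup G} {W U : Submodule ℂ V} (hW : InvOn ρ C W) (hU : InvOn ρ C U)
    (hWU : IsCompl W U) {x : G} (hx : x ∈ C) (c : ℂ) :
    em ρ x c ⊤ = em ρ x c W + em ρ x c U := by
  set E := Module.End.eigenspace (ρ x) c
  have hsup : E ⊓ W ⊔ E ⊓ U = E := by
    refine le_antisymm (sup_le inf_le_left inf_le_left) fun v hv => ?_
    obtain ⟨a, ha, b, hb, rfl⟩ := Submodule.mem_sup.1
      (hWU.sup_eq_top ▸ Submodule.mem_top (x := v))
    have h1 := Module.End.mem_eigenspace_iff.1 hv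
    rw [map_add, smul_add] at h1
    have h2 : ρ x a - c • a = c • b - ρ x b := by
      rw [sub_eq_sub_iff_add_eq_add, h1]
      abel
    have h3 : ρ x a - c • a = 0 := Submodule.disjoint_def.1 hWU.disjoint _
      (W.sub_mem (hW x hx a ha) (W.smul_mem c ha))
      (h2 ▸ U.sub_mem (U.smul_mem c hb) (hU x hx b hb))
    refine Submodule.mem_sup.2 ⟨a, ⟨Module.End.mem_eigenspace_iff.2 (sub_eq_zero.1 h3), ha⟩, b,
      ⟨Module.End.mem_eigenspace_iff.2 ?_, hb⟩, rfl⟩
    rw [h3, eq_comm, sub_eq_zero] at h2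
    exact h2.symm
  have hinf : (E ⊓ W) ⊓ (E ⊓ U) = ⊥ := eq_bot_iff.2 fun v hv =>
    hWU.inf_eq_bot.le ⟨hv.1.2, hv.2.2⟩
  rw [em, em, em, inf_top_eq, ← Submodule.finrank_sup_add_finrank_inf_eq (E ⊓ W) (E ⊓ U), hsup,
    hinf, finrank_bot, add_zero]

theorem em_pos_iff (x : G) (c : ℂ) (W : Submodule ℂ V) :
    0 < em ρ x c W ↔ ∃ w ∈ W, w ≠ 0 ∧ ρ x w = c • w := by
  rw [em, Nat.pos_iff_ne_zero, Ne, Submodule.finrank_eq_zero]
  constructor
  · intro h
    obtain ⟨w, hw, h0⟩ := Submodule.exists_mem_ne_zero_of_ne_bot h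
    exact ⟨w, hw.2, h0, Module.End.mem_eigenspace_iff.1 hw.1⟩
  · rintro ⟨w, hW, h0, hw⟩ hbot
    exact h0 ((Submodule.mem_bot ℂ).1 (hbot.le ⟨Module.End.mem_eigenspace_iff.2 hw, hW⟩))

theorem em_conj {C : Subgroup G} {W : Submodule ℂ V} (hW : InvOn ρ C W) {g : G} (hg : g ∈ C)
    (x : G) (c : ℂ) : em ρ (g * x * g⁻¹) c W = em ρ x c W := by
  have hinv : ∀ w, ρ g⁻¹ (ρ g w) = w := fun w => by
    rw [← Module.End.mul_apply, ← map_mul, inv_mul_cancel, map_one, Module.End.one_apply]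
  have hinv' : ∀ w, ρ g (ρ g⁻¹ w) = w := fun w => by
    rw [← Module.End.mul_apply, ← map_mul, mul_inv_cancel, map_one, Module.End.one_apply]
  have hinj : Function.Injective (ρ g) := Function.LeftInverse.injective hinv
  refine ((Submodule.equivMapOfInjective _ hinj _).trans (LinearEquiv.ofEq _ _ ?_)).finrank_eq.symm
  refine le_antisymm ?_ fun v hv => ?_
  · rintro _ ⟨w, hw, rfl⟩
    refine ⟨Module.End.mem_eigenspace_iff.2 ?_, hW g hg w hw.2⟩
    rw [map_mul, map_mul, Module.End.mul_apply, Module.End.mul_apply, hinv,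
      Module.End.mem_eigenspace_iff.1 hw.1, map_smul]
  · refine ⟨ρ g⁻¹ v, ⟨Module.End.mem_eigenspace_iff.2 ?_, hW g⁻¹ (inv_mem hg) v hv.2⟩, hinv' v⟩
    have h1 := Module.End.mem_eigenspace_iff.1 hv.1
    rw [map_mul, map_mul, Module.End.mul_apply, Module.End.mul_apply] at h1
    rw [← map_smul, ← h1, hinv]

theorem em_pow_le (x : G) (c : ℂ) (n : ℕ) (W : Submodule ℂ V) :
    em ρ x c W ≤ em ρ (x ^ n) (c ^ n) W := by
  refine Submodule.finrank_mono fun v hv => ⟨Module.End.mem_eigenspace_iff.2 ?_, hv.2⟩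
  have h1 := Module.End.mem_eigenspace_iff.1 hv.1
  induction n with
  | zero => simp
  | succ n ih => rw [pow_succ, map_mul, Module.End.mul_apply, h1, map_smul, ih, smul_smul, pow_succ']

theorem em_sum_le (x : G) (W : Submodule ℂ V) (s : Finset ℂ) :
    ∑ c ∈ s, em ρ x c W ≤ finrank ℂ W := by
  classical
  have hind : iSupIndep fun c : ℂ => Module.End.eigenspace (ρ x) c ⊓ W :=
    (Module.End.eigenspaces_iSupIndep (ρ x)).mono fun c => inf_le_left
  suffices h : ∑ c ∈ s, em ρ x c W = finrank ℂ ↥(⨆ c ∈ s, Module.End.eigenspace (ρ x) c ⊓ W) by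
    rw [h]
    exact Submodule.finrank_mono (iSup₂_le fun c _ => inf_le_right)
  induction s using Finset.induction_on with
  | empty => rw [Finset.sum_empty, show (⨆ c ∈ (∅ : Finset ℂ), Module.End.eigenspace (ρ x) c ⊓ W) = ⊥ by simp, finrank_bot]
  | insert a s ha ih =>
    have hd : (Module.End.eigenspace (ρ x) a ⊓ W) ⊓ (⨆ c ∈ s, Module.End.eigenspace (ρ x) c ⊓ W) = ⊥ :=
      disjoint_iff.1 (hind.disjoint_biSup (y := (s : Set ℂ)) (by simpa using ha))
    rw [Finset.sum_insert ha, ih, Finset.iSup_insert, em,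
      ← Submodule.finrank_sup_add_finrank_inf_eq, hd, finrank_bot, add_zero]

theorem InvOn.top (C : Subgroup G) : InvOn ρ C ⊤ := fun _ _ _ _ => Submodule.mem_top

theorem InvOn.mono {C C' : Subgroup G} (h : C' ≤ C) {W : Submodule ℂ V} (hW : InvOn ρ C W) :
    InvOn ρ C' W := fun g hg => hW g (h hg)

theorem InvOn.inf {C : Subgroup G} {W U : Submodule ℂ V} (hW : InvOn ρ C W) (hU : InvOn ρ C U) :
    InvOn ρ C (W ⊓ U) := fun g hg w hw => ⟨hW g hg w hw.1, hU g hg w hw.2⟩

theorem InvOn.compl [Finite G] {C : Subgroup G} {W : Submodule ℂ V} (hW : InvOn ρ C W) :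
    ∃ U : Submodule ℂ V, InvOn ρ C U ∧ IsCompl W U := by
  let σ : Representation ℂ C V := ρ.comp C.subtype
  let S : Subrepresentation σ := ⟨W, fun g w hw => hW g g.2 w hw⟩
  haveI : NeZero (Nat.card C : ℂ) := ⟨Nat.cast_ne_zero.mpr Nat.card_pos.ne'⟩
  obtain ⟨T, hT⟩ := exists_isCompl S
  exact ⟨T.toSubmodule, fun g hg w hw => T.apply_mem_toSubmodule (⟨g, hg⟩ : C) hw,
    disjoint_iff.mpr (congrArg Subrepresentation.toSubmodule hT.inf_eq_bot),
    codisjoint_iff.mpr (congrArg Subrepresentation.toSubmodule hT.sup_eq_top)⟩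

theorem PCOn.mono {p : ℕ} {C C' : Subgroup G} {W W' : Submodule ℂ V} (h : PCOn ρ p C W)
    (hC : C' ≤ C) (hW : W' ≤ W) : PCOn ρ p C' W' :=
  fun a ha b hb hpa hpb w hw => h a (hC ha) b (hC hb) hpa hpb w (hW hw)

theorem PCOn.sup {p : ℕ} {C : Subgroup G} {W U : Submodule ℂ V} (hW : PCOn ρ p C W)
    (hU : PCOn ρ p C U) : PCOn ρ p C (W ⊔ U) := by
  intro a ha b hb hpa hpb w hw
  obtain ⟨x, hx, y, hy, rfl⟩ := Submodule.mem_sup.1 hw
  rw [map_add, map_add, map_add, map_add, hW a ha b hb hpa hpb x hx, hU a ha b hb hpa hpb y hy]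

theorem comm_of_pcon {p : ℕ} (hρ : Function.Injective ρ) {C : Subgroup G}
    (h : PCOn ρ p C (⊤ : Submodule ℂ V)) {a b : G} (ha : a ∈ C) (hb : b ∈ C) (hpa : PEl p a)
    (hpb : PEl p b) : a * b = b * a := by
  refine hρ (LinearMap.ext fun w => ?_)
  rw [map_mul, map_mul, Module.End.mul_apply, Module.End.mul_apply]
  exact h a ha b hb hpa hpb w Submodule.mem_top

/-- A scalar is central. -/
theorem mem_center_of_scal (hρ : Function.Injective ρ) {x : G}
    (h : ScalOn ρ x (⊤ : Submodule ℂ V)) : x ∈ Subgroup.center G := by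
  obtain ⟨c, hc⟩ := h
  refine Subgroup.mem_center_iff.2 fun g => hρ (LinearMap.ext fun w => ?_)
  rw [map_mul, map_mul, Module.End.mul_apply, Module.End.mul_apply, hc w Submodule.mem_top,
    hc _ Submodule.mem_top, map_smul]

/-- An element commuting with an irreducible action is a scalar there. -/
theorem scal_of_comm {C : Subgroup G} {W : Submodule ℂ V} (hW : InvOn ρ C W) (hW0 : W ≠ ⊥)
    (hirr : ∀ W' : Submodule ℂ V, InvOn ρ C W' → W' ≤ W → W' = ⊥ ∨ W' = W) {x : G} (hx : x ∈ C)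
    (hc : ∀ g ∈ C, g * x = x * g) : ScalOn ρ x W := by
  let f : Module.End ℂ W := (ρ x).restrict (hW x hx)
  haveI : Nontrivial W := Submodule.nontrivial_iff_ne_bot.2 hW0
  obtain ⟨c, hc'⟩ := Module.End.exists_eigenvalue f
  obtain ⟨v, hv⟩ := hc'.exists_hasEigenvector
  have hv' : ρ x (v : V) = c • (v : V) := congrArg Subtype.val (Module.End.mem_eigenspace_iff.1 hv.1)
  refine ⟨c, fun w hw => ?_⟩
  have hinv : InvOn ρ C (Module.End.eigenspace (ρ x) c ⊓ W) := fun g hg u hu => by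
    refine ⟨Module.End.mem_eigenspace_iff.2 ?_, hW g hg u hu.2⟩
    rw [← Module.End.mul_apply, ← map_mul, ← hc g hg, map_mul, Module.End.mul_apply,
      Module.End.mem_eigenspace_iff.1 hu.1, map_smul]
  rcases hirr _ hinv inf_le_right with h | h
  · exact absurd (Subtype.ext ((Submodule.mem_bot ℂ).1
      (h.le ⟨Module.End.mem_eigenspace_iff.2 hv', v.2⟩))) hv.2
  · exact Module.End.mem_eigenspace_iff.1 (h.ge hw).1

/-- A linear character of a commutator with a scalar. -/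
theorem comm_of_scal_commutator [Finite G] {p : ℕ} [hp : Fact p.Prime] (hρ : Function.Injective ρ)
    (hd : finrank ℂ V < p) {h g : G} (hh : PEl p h) (hz : ScalOn ρ (h * g * h⁻¹ * g⁻¹) ⊤) :
    h * g = g * h := by
  set z := h * g * h⁻¹ * g⁻¹ with hzdef
  have hzc := mem_center_of_scal hρ hz
  have hcz := Subgroup.mem_center_iff.1 hzc
  have e : h * g * h⁻¹ = z * g := by rw [hzdef]; group
  have hpow : ∀ n : ℕ, h ^ n * g * (h ^ n)⁻¹ = z ^ n * g := by
    intro n
    induction n with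
    | zero => simp
    | succ n ih =>
      rw [pow_succ', show h * h ^ n * g * (h * h ^ n)⁻¹ = h * (h ^ n * g * (h ^ n)⁻¹) * h⁻¹ by group,
        ih, pow_succ]
      calc h * (z ^ n * g) * h⁻¹ = (h * z ^ n * h⁻¹) * (h * g * h⁻¹) := by group
        _ = z ^ n * (z * g) := by
          rw [e, Subgroup.mem_center_iff.1 (pow_mem hzc n) h, mul_inv_cancel_right]
        _ = _ := (mul_assoc _ _ _).symm
  obtain ⟨k, hk⟩ := hh
  have hz1 : z ^ p ^ k = 1 := by
    have := hpow (p ^ k)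
    rw [hk, one_mul, inv_one, mul_one] at this
    exact (right_eq_mul.1 this)
  obtain ⟨c, hc⟩ := hz
  have hρz : ρ z = c • LinearMap.id := LinearMap.ext fun w => hc w Submodule.mem_top
  have hdet : c ^ finrank ℂ V = 1 := by
    have h1 : LinearMap.det (ρ z) = 1 := by
      rw [← detUnits_apply, hzdef, map_mul, map_mul, map_mul, map_inv, map_inv]
      rw [mul_right_comm (detUnits ρ h), mul_inv_cancel, one_mul, mul_inv_cancel, Units.val_one]
    rwa [hρz, LinearMap.det_smul, LinearMap.det_id, mul_one] at h1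
  rcases Nat.eq_zero_or_pos (finrank ℂ V) with h0 | h0
  · haveI := (Module.finrank_zero_iff (R := ℂ)).1 h0
    exact hρ (LinearMap.ext fun w => Subsingleton.elim _ _)
  haveI : Nontrivial V := Module.nontrivial_of_finrank_pos h0
  obtain ⟨v, hv⟩ := exists_ne (0 : V)
  have hc1 : c ^ p ^ k = 1 := by
    have h1 : ρ (z ^ p ^ k) v = v := by rw [hz1, map_one, Module.End.one_apply]
    rw [map_pow, hρz, ← Module.End.one_eq_id, smul_pow, one_pow, LinearMap.smul_apply,
      Module.End.one_apply] at h1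
    exact smul_left_injective ℂ hv (h1.trans (one_smul ℂ v).symm)
  have hc' : c = 1 := by
    refine orderOf_eq_one_iff.1 (Nat.eq_one_of_dvd_coprimes ?_ (orderOf_dvd_of_pow_eq_one hc1)
      (orderOf_dvd_of_pow_eq_one hdet))
    exact Nat.Coprime.pow_left k (hp.out.coprime_iff_not_dvd.2 fun hdv => by
      have := Nat.le_of_dvd h0 hdv; omega)
  have hzone : z = 1 := hρ (by rw [hρz, hc', one_smul, map_one]; rfl)
  calc h * g = z * g * h := by rw [hzdef]; group
    _ = _ := by rw [hzone, one_mul]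

end Cfsg.Agent.Block.Deg16
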