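import Mathlib
import Cfsg.Agent.Lib.Block.Deg16.Lin
import Cfsg.Agent.Lib.Fus.TransitivityOdd
import Cfsg.Agent.S0205
import Cfsg.Agent.S4468
import Cfsg.Agent.S0899

/-!
A group with an invariant plane and an invariant line on which the elements of `p`-power order do not
commute has an involution inverting the plane and fixing the line.
-/

set_option autoImplicit false
set_option linter.unusedSectionVars false
set_option linter.style.haveILetI false
set_option maxHeartbeats 800000

namespace Cfsg.Agent.Block.Deg16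

open Cfsg Cfsg.Agent.Char Module
open scoped _root_.Classical

universe w v

/-- The space inverted by an involutive map of determinant one has even dimension. -/
theorem even_neg_space {V : Type v} [AddCommGroup V] [Module ℂ V] [FiniteDimensional ℂ V]
    (T : Module.End ℂ V) (hT : T * T = 1) (hdet : LinearMap.det T = 1) :
    Even (finrank ℂ (Module.End.eigenspace T (-1))) ∧
      (Module.End.eigenspace T (-1) = ⊥ → T = 1) := by
  set P : Module.End ℂ V := (2⁻¹ : ℂ) • (1 - T)
  have hPP : P * P = P := by
    simp only [P, smul_mul_smul_comm]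
    rw [show (1 - T) * (1 - T) = (2 : ℂ) • (1 - T) by
      simp only [sub_mul, mul_sub, one_mul, mul_one, hT, two_smul]; abel, smul_smul]
    norm_num
  have hproj : LinearMap.IsProj (LinearMap.range P) P := by
    refine ⟨fun x => LinearMap.mem_range_self P x, fun x hx => ?_⟩
    obtain ⟨y, rfl⟩ := hx
    exact LinearMap.congr_fun hPP y
  have hT' : T = 1 - (2 : ℂ) • P := by
    simp only [P, smul_smul]
    norm_num
  set A := LinearMap.range P
  have hA : Module.End.eigenspace T (-1) = A := by
    refine le_antisymm (fun x hx => ?_) ?_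
    · rw [Module.End.mem_eigenspace_iff] at hx
      refine ⟨x, ?_⟩
      simp only [P, LinearMap.smul_apply, LinearMap.sub_apply, Module.End.one_apply, hx,
        neg_one_smul, sub_neg_eq_add]
      rw [← two_smul ℂ x, smul_smul]
      norm_num
    · rintro _ ⟨y, rfl⟩
      have hy : P (P y) = P y := LinearMap.congr_fun hPP y
      clear_value P
      rw [Module.End.mem_eigenspace_iff, hT', LinearMap.sub_apply, Module.End.one_apply,
        LinearMap.smul_apply, hy, two_smul, neg_one_smul]
      abel
  set e := Submodule.prodEquivOfIsCompl A (LinearMap.ker P) hproj.isCompl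
  set f : (A × LinearMap.ker P) →ₗ[ℂ] (A × LinearMap.ker P) :=
    LinearMap.prodMap ((-1 : ℂ) • LinearMap.id) LinearMap.id
  have hf : (e : _ →ₗ[ℂ] V) ∘ₗ f ∘ₗ (e.symm : V →ₗ[ℂ] _) = T := by
    refine LinearMap.ext fun x => ?_
    obtain ⟨⟨a, b⟩, rfl⟩ := e.surjective x
    have ha : P (a : V) = a := hproj.map_id _ a.2
    have hb : P (b : V) = 0 := LinearMap.mem_ker.1 b.2
    rw [LinearMap.comp_apply, LinearMap.comp_apply, LinearEquiv.coe_coe, LinearEquiv.coe_coe,
      LinearEquiv.symm_apply_apply, hT']
    simp only [f, e, LinearMap.prodMap_apply, LinearMap.id_apply,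
      Submodule.coe_prodEquivOfIsCompl']
    show ((-1 : ℂ) • (a : V)) + (b : V) = ((a : V) + b) - (2 : ℂ) • P ((a : V) + b)
    rw [map_add, ha, hb, add_zero, two_smul, neg_one_smul]
    abel
  refine ⟨?_, fun hbot => ?_⟩
  · have := hdet
    rw [← hf, LinearMap.det_conj, LinearMap.det_prodMap, LinearMap.det_id, LinearMap.det_smul,
      LinearMap.det_id, mul_one, mul_one] at this
    rw [hA]
    exact (neg_one_pow_eq_one_iff_even (by norm_num)).1 this
  · rw [hT', show P = 0 from LinearMap.range_eq_bot.1 (hA.symm.trans hbot), smul_zero, sub_zero]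

variable {G : Type w} [Group G] [Finite G] {d p : ℕ} [hp : Fact p.Prime]

/-- The involution. -/
theorem exists_neg {ρ : Representation ℂ G (Fin d → ℂ)} (hρ : Function.Injective ρ)
    (hd : d + 2 ≤ p) {C : Subgroup G} {W U : Submodule ℂ (Fin d → ℂ)} (hU : InvOn ρ C U)
    (hWU : IsCompl W U) (hW : InvOn ρ C W) (hW2 : finrank ℂ W = 2) (hU1 : finrank ℂ U = 1)
    (hnc : ¬ PCOn ρ p C W) :
    ∃ τ ∈ C, (∀ w ∈ W, ρ τ w = -w) ∧ ∀ v ∈ U, ρ τ v = v := by
  have heven : 2 ∣ Nat.card (commutator C) := by
    by_contra hodd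
    haveI hK : Group.IsSolvable (commutator C) :=
      Cfsg.Agent.S0205.result (Nat.not_even_iff_odd.1 fun h => hodd (even_iff_two_dvd.1 h))
    haveI hC : Group.IsSolvable C := (Group.isSolvable_iff_subgroup_quotient (commutator C)).2
      ⟨hK, Group.isSolvable_of_comm fun a b => mul_comm (G := Abelianization C) a b⟩
    set σ : Representation ℂ C (Fin d → ℂ) := ρ.comp C.subtype
    let S : Sylow p C := default
    by_cases hn : (S : Subgroup C).Normal
    · refine hnc fun a ha b hb hpa hpb w _ => ?_
      obtain ⟨P, hP⟩ := (S.isPGroup'.map C.subtype).exists_le_sylow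
      have mem : ∀ x (hx : x ∈ C), PEl p x → x ∈ (P : Subgroup G) := by
        intro x hx hpx
        haveI : Unique (Sylow p C) := Sylow.unique_of_normal S hn
        obtain ⟨T, hT⟩ := exists_sylow_mem (x := (⟨x, hx⟩ : C)) (p := p)
          (hpx.imp fun k hk => Subtype.ext (by rw [SubmonoidClass.coe_pow, hk, OneMemClass.coe_one]))
        exact hP ⟨_, Subsingleton.elim T S ▸ hT, rfl⟩
      have hab := congrArg Subtype.val (Cfsg.Agent.S0899.linear_of_small P.isPGroup'
        (ρ.comp (P : Subgroup G).subtype) (hρ.comp (P : Subgroup G).subtype_injective)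
        (by omega) ⟨a, mem a ha hpa⟩ ⟨b, mem b hb hpb⟩)
      simp only [Subgroup.coe_mul] at hab
      rw [← Module.End.mul_apply, ← map_mul, hab, map_mul, Module.End.mul_apply]
    · have hfaith : ∀ g : C, σ.character g = σ.character 1 → g = 1 := fun g hg => by
        rw [Representation.char_one, finrank_fin_fun] at hg
        have h1 := character_eq_finrank_iff σ g
        rw [finrank_fin_fun] at h1
        exact Subtype.ext (hρ ((h1.1 hg).trans (by rw [OneMemClass.coe_one, map_one, Module.End.one_eq_id])))
      have h1 := Cfsg.Agent.Block.charDeg_spec (isCharacter_character σ)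
      rw [Representation.char_one, finrank_fin_fun] at h1
      obtain ⟨h2, -, -⟩ := Cfsg.Agent.S4468.result σ.character (isCharacter_character σ) hfaith d
        (by exact_mod_cast h1.symm) p hp.out
        (Cfsg.Agent.Fus.TransOdd.isPSolvable_of_solvable hp.out _ C rfl hC) (by omega) S hn
      omega
  obtain ⟨t, ht⟩ := exists_prime_orderOf_dvd_card' 2 heven
  set τ : G := ((t : C) : G) with hτ
  have hline : ∀ a ∈ C, ∀ v ∈ U, ∀ b ∈ C, ρ a (ρ b v) = ρ b (ρ a v) := by
    intro a ha v hv b hb
    rcases eq_or_ne v 0 with rfl | hv0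
    · simp
    have hsp := (finrank_eq_one_iff_of_nonzero' (⟨v, hv⟩ : U) (by simpa using hv0)).1 hU1
    have key : ∀ c ∈ C, ∃ r : ℂ, ρ c v = r • v := fun c hc => by
      obtain ⟨r, hr⟩ := hsp ⟨ρ c v, hU c hc v hv⟩
      exact ⟨r, (congrArg Subtype.val hr).symm⟩
    obtain ⟨r, hr⟩ := key a ha
    obtain ⟨s, hs⟩ := key b hb
    rw [hr, hs, map_smul, map_smul, hr, hs, smul_comm]
  have hfix : ∀ v ∈ U, ρ τ v = v := by
    let K : Subgroup C :=
      { carrier := {c | ∀ v ∈ U, ρ (c : G) v = v}
        one_mem' := fun v _ => by simp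
        inv_mem' := fun {a} ha v hv => by
          conv_lhs => rw [← ha v hv, ← Module.End.mul_apply, ← map_mul, Subgroup.coe_inv,
            inv_mul_cancel, map_one, Module.End.one_apply]
        mul_mem' := fun {a b} ha hb v hv => by
          rw [Subgroup.coe_mul, map_mul, Module.End.mul_apply, hb v hv, ha v hv] }
    have hle : commutator C ≤ K := by
      rw [commutator_def, Subgroup.commutator_le]
      intro a _ b _ v hv
      simp only [commutatorElement_def, Subgroup.coe_mul, Subgroup.coe_inv]
      rw [show (a : G) * b * (a : G)⁻¹ * (b : G)⁻¹ = a * b * ((a : G)⁻¹ * (b : G)⁻¹) by group,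
        map_mul, map_mul, map_mul, Module.End.mul_apply, Module.End.mul_apply, Module.End.mul_apply,
        hline _ (inv_mem a.2) v hv _ (inv_mem b.2)]
      simp only [← Module.End.mul_apply, ← map_mul]
      simp
    exact fun v hv => hle t.2 v hv
  have ht2 : τ * τ = 1 := by
    have h1 := pow_orderOf_eq_one t
    rw [ht, pow_two] at h1
    exact congrArg (fun c : commutator C => ((c : C) : G)) h1
  have hdet : LinearMap.det (ρ τ) = 1 := by
    have hle : commutator C ≤ ((detUnits ρ).comp C.subtype).ker :=
      Abelianization.commutator_subset_ker _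
    rw [← detUnits_apply, show detUnits ρ τ = 1 from MonoidHom.mem_ker.1 (hle t.2), Units.val_one]
  obtain ⟨⟨k, hk⟩, hbot⟩ := even_neg_space (ρ τ) (by rw [← map_mul, ht2, map_one]) hdet
  have hEU : em ρ τ (-1) U = 0 := by
    by_contra h
    obtain ⟨v, hv, hv0, he⟩ := (em_pos_iff τ (-1) U).1 (Nat.pos_of_ne_zero h)
    rw [hfix v hv, neg_one_smul] at he
    have h2 : (2 : ℂ) • v = 0 := by
      rw [two_smul]
      nth_rewrite 2 [he]
      exact add_neg_cancel v
    exact hv0 ((smul_eq_zero.1 h2).resolve_left two_ne_zero)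
  have hk2 : em ρ τ (-1) W = 2 := by
    have h1 : em ρ τ (-1) ⊤ = em ρ τ (-1) W + em ρ τ (-1) U :=
      em_add hW hU hWU (t : C).2 (-1 : ℂ)
    rw [hEU, add_zero, em, inf_top_eq, hk] at h1
    have h2 := em_le (ρ := ρ) τ (-1) W
    simp only [em] at h1 h2 ⊢
    rcases Nat.eq_zero_or_pos k with h0 | h0
    · exfalso
      have h3 : τ = 1 := hρ (by
        rw [hbot (Submodule.finrank_eq_zero.1 (by rw [hk]; omega)), map_one])
      have h4 : t = 1 := Subtype.ext (Subtype.ext h3)
      rw [h4, orderOf_one] at ht
      omega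
    · omega
  refine ⟨τ, (t : C).2, fun w hw => ?_, hfix⟩
  have hEW : Module.End.eigenspace (ρ τ) (-1) ⊓ W = W :=
    Submodule.eq_of_le_of_finrank_eq inf_le_right (hk2.trans hW2.symm)
  have := Module.End.mem_eigenspace_iff.1 (hEW.ge hw).1
  rw [this, neg_one_smul]

end Cfsg.Agent.Block.Deg16
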