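import Mathlib
import Cfsg.Agent.Lib.Block.Deg16.Lin
import Cfsg.Agent.Lib.Block.Deg16.Line
import Cfsg.Agent.S0899

/-!
Reducible subgroups of a linear group of degree at most `p - 2` for a prime `p ≥ 5`: the elements of
`p`-power order of the centralizers commute, unless a Sylow subgroup is cyclic of order `p` modulo
the centre.
-/

set_option autoImplicit false
set_option linter.unusedSectionVars false
set_option linter.style.haveILetI false
set_option maxHeartbeats 800000

namespace Cfsg.Agent.Block.Deg16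

open Cfsg Cfsg.Agent.Char Module
open scoped _root_.Classical

universe w v

variable {G : Type w} [Group G]

section Defs

variable {V : Type v} [AddCommGroup V] [Module ℂ V] [FiniteDimensional ℂ V]

/-- `C` acts irreducibly on `W`. -/
structure Irr (ρ : Representation ℂ G V) (C : Subgroup G) (W : Submodule ℂ V) : Prop where
  inv : InvOn ρ C W
  ne : W ≠ ⊥
  min : ∀ W' : Submodule ℂ V, InvOn ρ C W' → W' ≤ W → W' = ⊥ ∨ W' = W

/-- What is known about an irreducible part on which the `p`-elements do not commute. -/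
structure Spec (ρ : Representation ℂ G V) (p : ℕ) (C : Subgroup G) (W : Submodule ℂ V) : Prop where
  big : p ≤ 2 * finrank ℂ W + 1
  mult : ∀ x ∈ C, PEl p x → ScalOn ρ x W ∨ ∀ c, em ρ x c W ≤ 1
  lines : ∀ x ∈ C, PEl p x → ¬ ScalOn ρ x W →
    ∃ n ∈ C, ∃ Cs : Finset ℂ, (p - 1) / 2 ≤ Cs.card ∧
      (∀ w ∈ W, ρ ((n * x * n⁻¹ * x⁻¹) ^ p) w = w) ∧
      (∀ w ∈ W, ρ (n * x * n⁻¹) (ρ x w) = ρ x (ρ (n * x * n⁻¹) w)) ∧
      ∀ c ∈ Cs, c ≠ 1 ∧ 0 < em ρ (n * x * n⁻¹ * x⁻¹) c W
  cyc : ∀ a ∈ C, ∀ b ∈ C, PEl p a → PEl p b → a * b = b * a → ¬ ScalOn ρ a W →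
    ∃ i : ℕ, ScalOn ρ (b * a ^ i) W
  cent : ∀ a ∈ C, ∀ g ∈ C, PEl p a → g * a = a * g → ¬ ScalOn ρ a W → ScalOn ρ (g ^ p) W

theorem exists_min {ρ : Representation ℂ G V} [Finite G] {p : ℕ} {C : Subgroup G} {V₀ : Submodule ℂ V}
    (hV : InvOn ρ C V₀) (h : ¬ PCOn ρ p C V₀) :
    ∃ W : Submodule ℂ V, W ≤ V₀ ∧ Irr ρ C W ∧ ¬ PCOn ρ p C W ∧
      ∀ W' : Submodule ℂ V, W' ≤ V₀ → InvOn ρ C W' → ¬ PCOn ρ p C W' →
        finrank ℂ W ≤ finrank ℂ W' := by
  have hex : ∃ n, ∃ W : Submodule ℂ V, W ≤ V₀ ∧ InvOn ρ C W ∧ ¬ PCOn ρ p C W ∧ finrank ℂ W = n :=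
    ⟨_, V₀, le_rfl, hV, h, rfl⟩
  obtain ⟨W, hle, hW, hnc, hdim⟩ := Nat.find_spec hex
  have hmin : ∀ W' : Submodule ℂ V, W' ≤ V₀ → InvOn ρ C W' → ¬ PCOn ρ p C W' →
      finrank ℂ W ≤ finrank ℂ W' := fun W' h1 h2 h3 => by
    rw [hdim]
    exact Nat.find_min' hex ⟨W', h1, h2, h3, rfl⟩
  refine ⟨W, hle, ⟨hW, fun e => hnc ?_, fun W' hW' hle' => ?_⟩, hnc, hmin⟩
  · intro a _ b _ _ _ w hw
    rw [e, Submodule.mem_bot] at hw
    simp [hw]
  by_contra hcon
  push Not at hcon
  obtain ⟨hne, hne'⟩ := hcon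
  obtain ⟨U, hU, hc⟩ := hW'.compl
  have hpc : ∀ X : Submodule ℂ V, InvOn ρ C X → X < W → PCOn ρ p C X := fun X hX hlt => by
    by_contra hn
    exact absurd (hmin X (hlt.le.trans hle) hX hn) (not_le.2 (Submodule.finrank_lt_finrank_of_lt hlt))
  have hlt : U ⊓ W < W := lt_of_le_of_ne inf_le_right fun e => hne (eq_bot_iff.2 fun w hw =>
    hc.inf_eq_bot.le ⟨hw, (inf_eq_right.1 e) (hle' hw)⟩)
  refine hnc ?_
  have h2 := (hpc W' hW' (lt_of_le_of_ne hle' hne')).sup (hpc _ (hU.inf hW) hlt)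
  rwa [← sup_inf_assoc_of_le U hle', hc.sup_eq_top, top_inf_eq] at h2

end Defs

variable {d p : ℕ}

/-- A Sylow subgroup is cyclic of prime order modulo the centre. -/
def Cyc (P : Subgroup G) : Prop :=
  ∀ x ∈ P, x ∉ Subgroup.center G → ∀ y ∈ P, ∃ i : ℕ, y * x ^ i ∈ Subgroup.center G

theorem Cyc.conj {P : Subgroup G} (h : Cyc P) (g : G) :
    Cyc (P.map (MulAut.conj g).toMonoidHom) := by
  rintro _ ⟨x, hx, rfl⟩ hxc _ ⟨y, hy, rfl⟩
  obtain ⟨i, hi⟩ := h x hx (fun hxz => hxc ((inferInstance : (Subgroup.center G).Normal).conj_mem x hxz g))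
    y hy
  refine ⟨i, ?_⟩
  rw [← map_pow, ← map_mul]
  exact (inferInstance : (Subgroup.center G).Normal).conj_mem _ hi g

/-- The ambient linear group. -/
structure Amb (ρ : Representation ℂ G (Fin d → ℂ)) (p : ℕ) : Prop where
  inj : Function.Injective ρ
  small : d + 2 ≤ p
  five : 5 ≤ p
  irr : Irr ρ ⊤ ⊤
  nc : ¬ PCOn ρ p ⊤ ⊤
  spec : ∀ (C : Subgroup G) (W : Submodule ℂ (Fin d → ℂ)), Irr ρ C W → finrank ℂ W < d →
    ¬ PCOn ρ p C W → Spec ρ p C W

theorem pow_eq_self_of_mod {p n : ℕ} {H : Type v} [Group H] {x : H} (hx : x ^ p = 1)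
    (hn : (n : ZMod p) = 1) : x ^ n = x := by
  conv_rhs => rw [← pow_one x]
  exact pow_eq_pow_iff_modEq.2 (Nat.ModEq.of_dvd (orderOf_dvd_of_pow_eq_one hx)
    ((ZMod.natCast_eq_natCast_iff _ _ _).1 (by rw [hn, Nat.cast_one])))

namespace Amb

variable [Finite G] [hp : Fact p.Prime] {ρ : Representation ℂ G (Fin d → ℂ)} (A : Amb ρ p)
include A

theorem two_le : 2 ≤ d := by
  by_contra h
  refine A.nc ?_
  intro a _ b _ _ _ w _
  rcases Nat.eq_zero_or_pos d with rfl | h0
  · exact Subsingleton.elim _ _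
  obtain rfl : d = 1 := by omega
  have key : ∀ (T : Module.End ℂ (Fin 1 → ℂ)) (v : Fin 1 → ℂ), T v = (T 1 0) • v := fun T v => by
    have hv : v = v 0 • (1 : Fin 1 → ℂ) := by
      funext i
      fin_cases i
      simp
    funext i
    fin_cases i
    conv_lhs => rw [hv, map_smul]
    simp [mul_comm]
  rw [key (ρ a) (ρ b w), key (ρ b) (ρ a w), key (ρ a) w, key (ρ b) w, smul_smul, smul_smul, mul_comm]

/-- A reducible subgroup: the elements of `p`-power order commute, or there is one special part. -/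
theorem dich {C : Subgroup G} (hred : ¬ Irr ρ C ⊤) :
    (∀ a ∈ C, ∀ b ∈ C, PEl p a → PEl p b → a * b = b * a) ∨
      ∃ W U : Submodule ℂ (Fin d → ℂ), Irr ρ C W ∧ InvOn ρ C U ∧ IsCompl W U ∧ U ≠ ⊥ ∧
        PCOn ρ p C U ∧ ¬ PCOn ρ p C W ∧ Spec ρ p C W ∧
        finrank ℂ W + finrank ℂ U = d := by
  by_cases h : PCOn ρ p C (⊤ : Submodule ℂ (Fin d → ℂ))
  · exact Or.inl fun a ha b hb hpa hpb => comm_of_pcon A.inj h ha hb hpa hpb
  right
  obtain ⟨W, -, hW, hnc, hmin⟩ := exists_min (InvOn.top C) h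
  have hWtop : W ≠ ⊤ := fun e => hred (e ▸ hW)
  have hlt : finrank ℂ W < d := by
    have := Submodule.finrank_lt hWtop
    rwa [finrank_fin_fun] at this
  have hS := A.spec C W hW hlt hnc
  obtain ⟨U, hU, hc⟩ := hW.inv.compl
  have hsum : finrank ℂ W + finrank ℂ U = d := by
    rw [Submodule.finrank_add_eq_of_isCompl hc, finrank_fin_fun]
  refine ⟨W, U, hW, hU, hc, fun e => hWtop ?_, ?_, hnc, hS, hsum⟩
  · rw [← hc.sup_eq_top, e, sup_bot_eq]
  · by_contra hUnc
    have := hmin U le_top hU hUnc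
    have := hS.big
    have := A.small
    have := A.five
    omega

theorem sylow_abelian (P : Sylow p G) :
    ∀ a ∈ (P : Subgroup G), ∀ b ∈ (P : Subgroup G), a * b = b * a := fun a ha b hb =>
  congrArg Subtype.val (Cfsg.Agent.S0899.linear_of_small P.isPGroup'
    (ρ.comp (P : Subgroup G).subtype) (A.inj.comp (P : Subgroup G).subtype_injective)
    (by have := A.small; have := A.five; omega) ⟨a, ha⟩ ⟨b, hb⟩)

theorem center_scal {z : G} (hz : z ∈ Subgroup.center G) : ScalOn ρ z ⊤ :=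
  scal_of_comm (InvOn.top ⊤) A.irr.ne A.irr.min (Subgroup.mem_top z)
    fun g _ => Subgroup.mem_center_iff.1 hz g

theorem center_of_irr {C : Subgroup G} (h : Irr ρ C ⊤) {x : G} (hx : x ∈ C)
    (hc : ∀ g ∈ C, g * x = x * g) : x ∈ Subgroup.center G :=
  mem_center_of_scal A.inj (scal_of_comm (InvOn.top C) h.ne h.min hx hc)

theorem red_centralizer {g : G} (hg : g ∉ Subgroup.center G) :
    ¬ Irr ρ (Subgroup.centralizer ({g} : Set G)) ⊤ := fun h =>
  hg (A.center_of_irr h (Subgroup.mem_centralizer_singleton_iff.2 rfl) fun _ hy =>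
    Subgroup.mem_centralizer_singleton_iff.1 hy)

/-- A normal subgroup with all the elements of `p`-power order is irreducible. -/
theorem irr_of_normal (N : Subgroup G) [hN : N.Normal] (hall : ∀ x, PEl p x → x ∈ N) : Irr ρ N ⊤ := by
  by_contra hred
  rcases A.dich hred with hc | ⟨W, U, hW, hU, hWU, hU0, hUpc, hWnc, hS, hsum⟩
  · refine A.nc fun a _ b _ hpa hpb w _ => ?_
    rw [← Module.End.mul_apply, ← map_mul, hc a (hall a hpa) b (hall b hpb) hpa hpb, map_mul,
      Module.End.mul_apply]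
  have hinvW : InvOn ρ ⊤ W := by
    intro g _ w hw
    have hii : ∀ v, ρ g⁻¹ (ρ g v) = v := fun v => by
      rw [← Module.End.mul_apply, ← map_mul, inv_mul_cancel, map_one, Module.End.one_apply]
    set W' := W.map (ρ g) with hW'
    have hinv' : InvOn ρ N W' := by
      rintro n hn _ ⟨v, hv, rfl⟩
      refine ⟨ρ (g⁻¹ * n * g) v, hW.inv _ (by simpa using hN.conj_mem n hn g⁻¹) v hv, ?_⟩
      rw [← Module.End.mul_apply, ← map_mul, ← Module.End.mul_apply (ρ n), ← map_mul,
        ← mul_assoc, mul_inv_cancel_left]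
    have hdim : finrank ℂ W' = finrank ℂ W :=
      (Submodule.equivMapOfInjective _ (Function.LeftInverse.injective hii) W).finrank_eq.symm
    by_cases heq : W' = W
    · exact heq ▸ ⟨w, hw, rfl⟩
    exfalso
    have hinter : W' ⊓ W = ⊥ := by
      rcases hW.min _ (hinv'.inf hW.inv) inf_le_right with h | h
      · exact h
      · exact absurd (Submodule.eq_of_le_of_finrank_eq (inf_eq_right.1 h) hdim.symm).symm heq
    refine hWnc fun a ha b hb hpa hpb v hv => ?_
    have ha' : g * a * g⁻¹ ∈ N := hN.conj_mem a ha g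
    have hb' : g * b * g⁻¹ ∈ N := hN.conj_mem b hb g
    set a' := g * a * g⁻¹
    set b' := g * b * g⁻¹
    obtain ⟨y, hy, z, hz, e⟩ := Submodule.mem_sup.1
      (hWU.sup_eq_top ▸ Submodule.mem_top (x := ρ g v))
    have hzc := hUpc a' ha' b' hb' (hpa.conj g) (hpb.conj g) z hz
    have hgv : ρ g v ∈ W' := ⟨v, hv, rfl⟩
    have hdiff : ρ a' (ρ b' (ρ g v)) - ρ b' (ρ a' (ρ g v)) ∈ W' ⊓ W := by
      refine ⟨W'.sub_mem (hinv' a' ha' _ (hinv' b' hb' _ hgv)) (hinv' b' hb' _ (hinv' a' ha' _ hgv)),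
        ?_⟩
      rw [← e, map_add, map_add, map_add, map_add, hzc, add_sub_add_right_eq_sub]
      exact W.sub_mem (hW.inv a' ha' _ (hW.inv b' hb' _ hy)) (hW.inv b' hb' _ (hW.inv a' ha' _ hy))
    rw [hinter, Submodule.mem_bot, sub_eq_zero] at hdiff
    have conv : ∀ c : G, ∀ v', ρ (g * c * g⁻¹) (ρ g v') = ρ g (ρ c v') := fun c v' => by
      rw [← Module.End.mul_apply, ← map_mul, inv_mul_cancel_right, map_mul, Module.End.mul_apply]
    simp only [a', b', conv] at hdiff
    exact Function.LeftInverse.injective hii hdiff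
  rcases A.irr.min W hinvW le_top with h | h
  · exact hW.ne h
  · exact hU0 (eq_bot_iff.2 fun v hv => hWU.inf_eq_bot.le ⟨h ▸ Submodule.mem_top, hv⟩)

/-- A normal abelian subgroup of `p`-elements is central. -/
theorem normal_abelian_central (B : Subgroup G) [hB : B.Normal] (hab : ∀ a ∈ B, ∀ b ∈ B, a * b = b * a)
    (hel : ∀ a ∈ B, PEl p a) : B ≤ Subgroup.center G := by
  have hBp : IsPGroup p B := fun b => by
    obtain ⟨k, hk⟩ := hel b b.2
    exact ⟨k, Subtype.ext (by rwa [SubmonoidClass.coe_pow])⟩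
  have hall : ∀ x, PEl p x → x ∈ Subgroup.centralizer (B : Set G) := fun x hx => by
    obtain ⟨P, hxP⟩ := exists_sylow_mem hx
    refine Subgroup.mem_centralizer_iff.2 fun b hb => ?_
    exact A.sylow_abelian P b (hBp.le_sylow_of_normal P hb) x hxP
  have hirr := A.irr_of_normal (Subgroup.centralizer (B : Set G)) hall
  intro b hb
  exact A.center_of_irr hirr (Subgroup.mem_centralizer_iff.2 fun c hc => hab c hc b hb)
    fun g hg => (Subgroup.mem_centralizer_iff.1 hg b hb).symm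

/-- An element of `p`-power order with an eigenvalue of large multiplicity is central, unless some
part has all its eigenvalues simple. -/
theorem central_of_mult {x : G} (hx : PEl p x) (c : ℂ) (hge : (p - 1) / 2 ≤ em ρ x c ⊤)
    (hkey : ∀ (C : Subgroup G) (W U : Submodule ℂ (Fin d → ℂ)), x ∈ C → Irr ρ C W → InvOn ρ C U →
      IsCompl W U → ¬ PCOn ρ p C W → Spec ρ p C W → finrank ℂ W + finrank ℂ U = d →
      (∀ a, em ρ x a W ≤ 1) → False) :
    x ∈ Subgroup.center G := by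
  have hodd : p % 2 = 1 := hp.out.eq_two_or_odd.resolve_left (by have := A.five; omega)
  have hcom : ∀ g, x * (g * x * g⁻¹) = (g * x * g⁻¹) * x := by
    intro g
    set y := g * x * g⁻¹ with hy
    set C := Subgroup.closure ({x, y} : Set G)
    have hyem : (p - 1) / 2 ≤ em ρ y c ⊤ := by
      rw [hy, em_conj (InvOn.top (⊤ : Subgroup G)) (Subgroup.mem_top g)]
      exact hge
    have hxC : x ∈ C := Subgroup.subset_closure (by simp)
    have hyC : y ∈ C := Subgroup.subset_closure (by simp)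
    have hpy : PEl p y := hx.conj g
    have hred : ¬ Irr ρ C ⊤ := by
      intro hirr
      set Ex := Module.End.eigenspace (ρ x) c ⊓ (⊤ : Submodule ℂ (Fin d → ℂ))
      set Ey := Module.End.eigenspace (ρ y) c ⊓ (⊤ : Submodule ℂ (Fin d → ℂ))
      have hne : Ex ⊓ Ey ≠ ⊥ := by
        intro e
        have h1 := Submodule.finrank_sup_add_finrank_inf_eq Ex Ey
        rw [e, finrank_bot, add_zero] at h1
        have h2 : finrank ℂ ↥(Ex ⊔ Ey) ≤ d := (Submodule.finrank_le _).trans_eq (finrank_fin_fun ℂ)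
        have h3 : (p - 1) / 2 ≤ finrank ℂ Ex := hge
        have h4 : (p - 1) / 2 ≤ finrank ℂ Ey := hyem
        have := A.small
        have := A.five
        omega
      obtain ⟨v, hv, hv0⟩ := Submodule.exists_mem_ne_zero_of_ne_bot hne
      set S : Subgroup G :=
        { carrier := {h | ρ h v ∈ Submodule.span ℂ ({v} : Set (Fin d → ℂ)) ∧
              ρ h⁻¹ v ∈ Submodule.span ℂ ({v} : Set (Fin d → ℂ))}
          one_mem' := by simp [Submodule.mem_span_singleton_self]
          inv_mem' := fun {a} ha => ⟨ha.2, by rw [inv_inv]; exact ha.1⟩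
          mul_mem' := by
            intro a b ha hb
            obtain ⟨r, hr⟩ := Submodule.mem_span_singleton.1 hb.1
            obtain ⟨s, hs⟩ := Submodule.mem_span_singleton.1 ha.2
            refine ⟨?_, ?_⟩
            · rw [map_mul, Module.End.mul_apply, ← hr, map_smul]
              exact Submodule.smul_mem _ _ ha.1
            · rw [mul_inv_rev, map_mul, Module.End.mul_apply, ← hs, map_smul]
              exact Submodule.smul_mem _ _ hb.2 }
      have hmem : ∀ z : G, ρ z v = c • v → z ∈ S := by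
        intro z hz
        have hii : ρ z⁻¹ (ρ z v) = v := by
          rw [← Module.End.mul_apply, ← map_mul, inv_mul_cancel, map_one, Module.End.one_apply]
        have hc0 : c ≠ 0 := by
          intro h0
          rw [hz, h0, zero_smul, map_zero] at hii
          exact hv0 hii.symm
        refine ⟨hz ▸ Submodule.smul_mem _ _ (Submodule.mem_span_singleton_self v), ?_⟩
        rw [hz, map_smul] at hii
        rw [show ρ z⁻¹ v = c⁻¹ • v by conv_rhs => rw [← hii, smul_smul, inv_mul_cancel₀ hc0, one_smul]]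
        exact Submodule.smul_mem _ _ (Submodule.mem_span_singleton_self v)
      have hCS : C ≤ S := (Subgroup.closure_le S).2 fun z hz => by
        rcases hz with rfl | rfl
        · exact hmem _ (Module.End.mem_eigenspace_iff.1 hv.1.1)
        · exact hmem _ (Module.End.mem_eigenspace_iff.1 hv.2.1)
      have hline : InvOn ρ C (Submodule.span ℂ ({v} : Set (Fin d → ℂ))) := by
        intro z hz u hu
        obtain ⟨r, rfl⟩ := Submodule.mem_span_singleton.1 hu
        rw [map_smul]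
        exact Submodule.smul_mem _ _ (hCS hz).1
      rcases hirr.min _ hline le_top with h | h
      · exact hv0 ((Submodule.span_singleton_eq_bot).1 h)
      · have h1 := congrArg (fun X : Submodule ℂ (Fin d → ℂ) => finrank ℂ X) h
        simp only [finrank_span_singleton hv0, finrank_top, finrank_fin_fun] at h1
        have := A.two_le
        omega
    rcases A.dich hred with hc | ⟨W, U, hW, hU, hWU, hU0, hUpc, hWnc, hS, hsum⟩
    · exact hc x hxC y hyC hx hpy
    exfalso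
    rcases hS.mult x hxC hx with ⟨r, hr⟩ | hm
    · refine hWnc fun a ha b hb _ _ w hw => ?_
      have hxy : ∀ u ∈ W, ρ x (ρ y u) = ρ y (ρ x u) := fun u hu => by
        rw [hr u hu, hr _ (hW.inv y hyC u hu), map_smul]
      set S₂ : Subgroup G :=
        { carrier := {h | h ∈ C ∧ ∀ u ∈ W, ρ h (ρ y u) = ρ y (ρ h u)}
          one_mem' := ⟨one_mem C, fun u _ => by simp⟩
          inv_mem' := fun {a} ha => ⟨inv_mem ha.1, fun u hu => by
            have h1 := ha.2 (ρ a⁻¹ u) (hW.inv _ (inv_mem ha.1) u hu)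
            rw [← Module.End.mul_apply (ρ a) (ρ a⁻¹), ← map_mul, mul_inv_cancel, map_one,
              Module.End.one_apply] at h1
            rw [← h1, ← Module.End.mul_apply (ρ a⁻¹) (ρ a), ← map_mul, inv_mul_cancel, map_one,
              Module.End.one_apply]⟩
          mul_mem' := fun {a b} ha hb => ⟨mul_mem ha.1 hb.1, fun u hu => by
            rw [map_mul, Module.End.mul_apply, Module.End.mul_apply, hb.2 u hu,
              ha.2 _ (hW.inv b hb.1 u hu)]⟩ }
      have hCS₂ : C ≤ S₂ := (Subgroup.closure_le S₂).2 fun z hz => by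
        rcases hz with rfl | rfl
        · exact ⟨hxC, hxy⟩
        · exact ⟨hyC, fun _ _ => rfl⟩
      set S₃ : Subgroup G :=
        { carrier := {h | h ∈ C ∧ ∀ u ∈ W, ρ h (ρ a u) = ρ a (ρ h u)}
          one_mem' := ⟨one_mem C, fun u _ => by simp⟩
          inv_mem' := fun {e} he => ⟨inv_mem he.1, fun u hu => by
            have h1 := he.2 (ρ e⁻¹ u) (hW.inv _ (inv_mem he.1) u hu)
            rw [← Module.End.mul_apply (ρ e) (ρ e⁻¹), ← map_mul, mul_inv_cancel, map_one,
              Module.End.one_apply] at h1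
            rw [← h1, ← Module.End.mul_apply (ρ e⁻¹) (ρ e), ← map_mul, inv_mul_cancel, map_one,
              Module.End.one_apply]⟩
          mul_mem' := fun {e f} he hf => ⟨mul_mem he.1 hf.1, fun u hu => by
            rw [map_mul, Module.End.mul_apply, Module.End.mul_apply, hf.2 u hu,
              he.2 _ (hW.inv f hf.1 u hu)]⟩ }
      have hCS₃ : C ≤ S₃ := (Subgroup.closure_le S₃).2 fun z hz => by
        rcases hz with rfl | rfl
        · exact ⟨hxC, fun u hu => by rw [hr u hu, hr _ (hW.inv a ha u hu), map_smul]⟩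
        · exact ⟨hyC, fun u hu => ((hCS₂ ha).2 u hu).symm⟩
      exact ((hCS₃ hb).2 w hw).symm
    · exact hkey C W U hxC hW hU hWU hWnc hS hsum hm
  have hconj : ∀ a ∈ Group.conjugatesOfSet ({x} : Set G), ∀ b ∈ Group.conjugatesOfSet ({x} : Set G),
      a * b = b * a := by
    intro a ha b hb
    obtain ⟨x1, hx1, hca⟩ := Group.mem_conjugatesOfSet_iff.1 ha
    obtain ⟨x2, hx2, hcb⟩ := Group.mem_conjugatesOfSet_iff.1 hb
    rw [Set.mem_singleton_iff.1 hx1] at hca
    rw [Set.mem_singleton_iff.1 hx2] at hcb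
    obtain ⟨g, rfl⟩ := isConj_iff.1 hca
    obtain ⟨h, rfl⟩ := isConj_iff.1 hcb
    have h1 := congrArg (fun z => g * z * g⁻¹) (hcom (g⁻¹ * h))
    simp only [mul_inv_rev, inv_inv, mul_assoc, mul_inv_cancel_left, mul_inv_cancel, mul_one] at h1 ⊢
    exact h1
  set B := Subgroup.normalClosure ({x} : Set G)
  haveI : B.Normal := Subgroup.normalClosure_normal
  have hab : ∀ a ∈ B, ∀ b ∈ B, a * b = b * a := by
    have h1 : B ≤ Subgroup.centralizer (Group.conjugatesOfSet ({x} : Set G)) :=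
      (Subgroup.closure_le _).2 fun a ha => Subgroup.mem_centralizer_iff.2 fun b hb => hconj b hb a ha
    intro a ha b hb
    have h2 : B ≤ Subgroup.centralizer ({a} : Set G) := (Subgroup.closure_le _).2 fun c hc =>
      Subgroup.mem_centralizer_singleton_iff.2 (Subgroup.mem_centralizer_iff.1 (h1 ha) c hc)
    exact (Subgroup.mem_centralizer_singleton_iff.1 (h2 hb)).symm
  have hel : ∀ a ∈ B, PEl p a := by
    intro a ha
    change a ∈ Subgroup.closure (Group.conjugatesOfSet ({x} : Set G)) at ha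
    induction ha using Subgroup.closure_induction with
    | mem a ha =>
      obtain ⟨y, hy, hca⟩ := Group.mem_conjugatesOfSet_iff.1 ha
      rw [Set.mem_singleton_iff.1 hy] at hca
      obtain ⟨g, rfl⟩ := isConj_iff.1 hca
      exact hx.conj g
    | one => exact ⟨0, one_pow _⟩
    | mul a b ha hb iha ihb => exact iha.mul ihb (hab a ha b hb)
    | inv a _ iha => exact iha.inv
  exact A.normal_abelian_central B hab hel (Subgroup.subset_normalClosure rfl)

theorem fix_pow {u : G} {v : Fin d → ℂ} (h : ρ u v = v) (k : ℕ) : ρ (u ^ k) v = v := by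
  induction k with
  | zero => rw [pow_zero, map_one, Module.End.one_apply]
  | succ k ih => rw [pow_succ, map_mul, Module.End.mul_apply, h, ih]

theorem eq_of_split {W U : Submodule ℂ (Fin d → ℂ)} (hWU : IsCompl W U) {a b : G}
    (hW : ∀ w ∈ W, ρ a w = ρ b w) (hU : ∀ v ∈ U, ρ a v = ρ b v) : a = b := by
  refine A.inj (LinearMap.ext fun x => ?_)
  obtain ⟨w, hw, v, hv, rfl⟩ := Submodule.mem_sup.1 (hWU.sup_eq_top ▸ Submodule.mem_top (x := x))
  rw [map_add, map_add, hW w hw, hU v hv]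

/-- An element of `p`-power order with two eigenvalues, one of large multiplicity, is central. -/
theorem central_of_two {s : G} (hs : PEl p s) {W U : Submodule ℂ (Fin d → ℂ)} (hWU : IsCompl W U)
    {μ c : ℂ} (hW : ∀ w ∈ W, ρ s w = μ • w) (hU : ∀ v ∈ U, ρ s v = c • v)
    (hw : (p - 1) / 2 ≤ finrank ℂ W)
    (hτ : p = 5 → ∃ τ : G, (∀ w ∈ W, ρ τ w = -w) ∧ ∀ v ∈ U, ρ τ v = v) :
    s ∈ Subgroup.center G := by
  have hfive := A.five
  have hsplit : ∀ x, ∃ a ∈ W, ∃ b ∈ U, x = a + b := fun x => by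
    obtain ⟨a, ha, b, hb, e⟩ := Submodule.mem_sup.1 (hWU.sup_eq_top ▸ Submodule.mem_top (x := x))
    exact ⟨a, ha, b, hb, e.symm⟩
  rcases eq_or_ne μ c with rfl | hne
  · refine mem_center_of_scal A.inj ⟨μ, fun x _ => ?_⟩
    obtain ⟨a, ha, b, hb, rfl⟩ := hsplit x
    rw [map_add, hW a ha, hU b hb, smul_add]
  by_cases hU0 : U = ⊥
  · refine mem_center_of_scal A.inj ⟨μ, fun x _ => ?_⟩
    obtain ⟨a, ha, b, hb, rfl⟩ := hsplit x
    rw [hU0, Submodule.mem_bot] at hb
    rw [hb, add_zero, hW a ha]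
  have hge : (p - 1) / 2 ≤ em ρ s μ ⊤ :=
    hw.trans ((em_scal hW).ge.trans (em_mono s μ le_top))
  refine A.central_of_mult hs μ hge fun C W' U' hsC hW' hU' hWU' hnc hS hsum hm => ?_
  have hpart : ∀ x ∈ W', ∃ a ∈ W, ∃ b ∈ U, x = a + b ∧ a ∈ W' ∧ b ∈ W' := by
    intro x hx
    obtain ⟨a, ha, b, hb, rfl⟩ := hsplit x
    have h1 : ρ s (a + b) - c • (a + b) = (μ - c) • a := by
      rw [map_add, hW a ha, hU b hb, smul_add, sub_smul]
      abel
    have h2 : a ∈ W' := by
      have h3 := W'.smul_mem (μ - c)⁻¹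
        (W'.sub_mem (hW'.inv s hsC _ hx) (W'.smul_mem c hx))
      rwa [h1, smul_smul, inv_mul_cancel₀ (sub_ne_zero.2 hne), one_smul] at h3
    exact ⟨a, ha, b, hb, rfl, h2, (W'.add_mem_iff_right h2).1 hx⟩
  have hdim : finrank ℂ W' ≤ em ρ s μ W' + em ρ s c W' := by
    have hle : W' ≤ (Module.End.eigenspace (ρ s) μ ⊓ W') ⊔ (Module.End.eigenspace (ρ s) c ⊓ W') := by
      intro x hx
      obtain ⟨a, ha, b, hb, rfl, ha', hb'⟩ := hpart x hx
      exact Submodule.add_mem_sup ⟨Module.End.mem_eigenspace_iff.2 (hW a ha), ha'⟩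
        ⟨Module.End.mem_eigenspace_iff.2 (hU b hb), hb'⟩
    refine (Submodule.finrank_mono hle).trans ?_
    rw [em, em, ← Submodule.finrank_sup_add_finrank_inf_eq]
    exact Nat.le_add_right _ _
  have hbig := hS.big
  have hμ1 := hm μ
  have hc1 := hm c
  obtain ⟨τ, hτW, hτU⟩ := hτ (by omega)
  have hd3 : 3 ≤ d := by
    have h1 := Submodule.finrank_add_eq_of_isCompl hWU
    rw [finrank_fin_fun] at h1
    have h2 : finrank ℂ U ≠ 0 := fun e => hU0 (Submodule.finrank_eq_zero.1 e)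
    omega
  have hτ2 : τ * τ = 1 := by
    refine A.eq_of_split hWU (fun w hw => ?_) fun v hv => ?_
    · rw [map_mul, Module.End.mul_apply, hτW w hw, map_neg, hτW w hw, neg_neg, map_one,
        Module.End.one_apply]
    · rw [map_mul, Module.End.mul_apply, hτU v hv, hτU v hv, map_one, Module.End.one_apply]
  have hτs : τ * s = s * τ := by
    refine A.eq_of_split hWU (fun w hw => ?_) fun v hv => ?_
    · rw [map_mul, map_mul, Module.End.mul_apply, Module.End.mul_apply, hW w hw, map_smul, hτW w hw,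
        map_neg, hW w hw, smul_neg]
    · rw [map_mul, map_mul, Module.End.mul_apply, Module.End.mul_apply, hU v hv, map_smul, hτU v hv,
        hU v hv]
  let S : Subgroup G :=
    { carrier := {g | ∀ x ∈ W', ρ g x ∈ W' ∧ ρ g⁻¹ x ∈ W'}
      one_mem' := fun x hx => by simp [hx]
      inv_mem' := fun {g} hg x hx => ⟨(hg x hx).2, by rw [inv_inv]; exact (hg x hx).1⟩
      mul_mem' := fun {a b} ha hb x hx => ⟨by
          rw [map_mul, Module.End.mul_apply]
          exact (ha _ (hb x hx).1).1, by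
          rw [mul_inv_rev, map_mul, Module.End.mul_apply]
          exact (hb _ (ha x hx).2).2⟩ }
  have hτS : τ ∈ S := by
    intro x hx
    rw [inv_eq_of_mul_eq_one_right hτ2, and_self]
    obtain ⟨a, ha, b, hb, rfl, ha', hb'⟩ := hpart x hx
    rw [map_add, hτW a ha, hτU b hb]
    exact W'.add_mem (W'.neg_mem ha') hb'
  set C₂ := C ⊔ Subgroup.zpowers τ
  have hC₂S : C₂ ≤ S := sup_le
    (fun g hg x hx => ⟨hW'.inv g hg x hx, hW'.inv _ (inv_mem hg) x hx⟩) (Subgroup.zpowers_le.2 hτS)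
  have hirr₂ : Irr ρ C₂ W' := ⟨fun g hg x hx => (hC₂S hg x hx).1, hW'.ne,
    fun X hX hle => hW'.min X (hX.mono le_sup_left) hle⟩
  have hS₂ := A.spec C₂ W' hirr₂ (by omega) fun h => hnc (h.mono le_sup_left le_rfl)
  have hns : ¬ ScalOn ρ s W' := by
    rintro ⟨r, hr⟩
    have h1 := hm r
    rw [em_scal hr] at h1
    omega
  obtain ⟨κ, hκ⟩ := hS₂.cent s (le_sup_left (b := Subgroup.zpowers τ) hsC) τ
    (le_sup_right (a := C) (Subgroup.mem_zpowers τ)) hs hτs hns
  have hτp : τ ^ p = τ := by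
    rw [show p = 2 * 2 + 1 by omega, pow_succ, pow_mul, show τ ^ 2 = 1 by rw [pow_two, hτ2], one_pow,
      one_mul]
  rw [hτp] at hκ
  obtain ⟨a, haW', ha0, hae⟩ := (em_pos_iff (ρ := ρ) s μ W').1 (by omega)
  obtain ⟨b, hbW', hb0, hbe⟩ := (em_pos_iff (ρ := ρ) s c W').1 (by omega)
  have haW : a ∈ W := by
    obtain ⟨a₁, ha₁, b₁, hb₁, rfl, -, -⟩ := hpart a haW'
    rw [map_add, hW a₁ ha₁, hU b₁ hb₁, smul_add, add_right_inj] at hae
    rw [show b₁ = 0 by
      by_contra h
      exact hne (smul_left_injective ℂ h hae).symm, add_zero]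
    exact ha₁
  have hbU : b ∈ U := by
    obtain ⟨a₁, ha₁, b₁, hb₁, rfl, -, -⟩ := hpart b hbW'
    rw [map_add, hW a₁ ha₁, hU b₁ hb₁, smul_add, add_left_inj] at hbe
    rw [show a₁ = 0 by
      by_contra h
      exact hne (smul_left_injective ℂ h hbe), zero_add]
    exact hb₁
  have e1 : κ = 1 := by
    have h1 := hκ b hbW'
    rw [hτU b hbU] at h1
    exact smul_left_injective ℂ hb0 (h1.symm.trans (one_smul ℂ b).symm)
  have e2 := hκ a haW'
  rw [hτW a haW, e1, one_smul, neg_eq_iff_add_eq_zero, ← two_smul ℂ] at e2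
  exact ha0 ((smul_eq_zero.1 e2).resolve_left two_ne_zero)

/-- A noncentral element of `p`-power order has no eigenvalue of large multiplicity. -/
theorem mult_lt {x : G} (hx : PEl p x) (hxc : x ∉ Subgroup.center G) (c : ℂ) :
    em ρ x c ⊤ < (p - 1) / 2 := by
  by_contra hge
  push Not at hge
  refine hxc (A.central_of_mult hx c hge fun C W U hxC hW hU hWU hnc hS hsum hm => ?_)
  have hsmall := A.small
  have hfive := A.five
  have hodd : p % 2 = 1 := hp.out.eq_two_or_odd.resolve_left (by omega)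
  have hbig := hS.big
  have h1 := em_add hW.inv hU hWU hxC c
  have h2 := hm c
  have h3 := em_le (ρ := ρ) x c U
  have hUc : ∀ v ∈ U, ρ x v = c • v := fun v hv => Module.End.mem_eigenspace_iff.1
    ((Submodule.eq_of_le_of_finrank_eq (S₁ := Module.End.eigenspace (ρ x) c ⊓ U) inf_le_right
      (show em ρ x c U = finrank ℂ U by omega)).ge hv).1
  have hns : ¬ ScalOn ρ x W := by
    rintro ⟨r, hr⟩
    have h := hm r
    rw [em_scal hr] at h
    omega
  obtain ⟨n, hn, Cs, hCs, hpow, hcomm, hlines⟩ := hS.lines x hxC hx hns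
  set u' := n * x * n⁻¹ * x⁻¹ with hu'
  have hu'C : u' ∈ C := mul_mem (mul_mem (mul_mem hn hxC) (inv_mem hn)) (inv_mem hxC)
  have hcancel : ∀ (g : G) (v : Fin d → ℂ), ρ g (ρ g⁻¹ v) = v := fun g v => by
    rw [← Module.End.mul_apply, ← map_mul, mul_inv_cancel, map_one, Module.End.one_apply]
  have hu'U : ∀ v ∈ U, ρ u' v = v := by
    intro v hv
    have hv' : ρ x⁻¹ v ∈ U := hU _ (inv_mem hxC) v hv
    rw [hu', map_mul, map_mul, map_mul, Module.End.mul_apply, Module.End.mul_apply,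
      Module.End.mul_apply, hUc _ (hU _ (inv_mem hn) _ hv'), map_smul, hcancel, ← hUc _ hv',
      hcancel]
  have hu'p : u' ^ p = 1 := A.eq_of_split hWU
    (fun w hw => by rw [hpow w hw, map_one, Module.End.one_apply])
    fun v hv => by rw [A.fix_pow (hu'U v hv), map_one, Module.End.one_apply]
  have hpu' : PEl p u' := ⟨1, by rwa [pow_one]⟩
  have hcom : x * u' = u' * x := by
    refine A.eq_of_split hWU (fun w hw => ?_) fun v hv => ?_
    · have e1 : ρ (x * u') w = ρ (n * x * n⁻¹) w := by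
        rw [hu', map_mul, map_mul (ρ) (n * x * n⁻¹), Module.End.mul_apply, Module.End.mul_apply,
          ← hcomm _ (hW.inv _ (inv_mem hxC) w hw), hcancel]
      rw [e1, hu', inv_mul_cancel_right]
    · rw [map_mul ρ x u', map_mul ρ u' x, Module.End.mul_apply, Module.End.mul_apply, hu'U v hv, hUc v hv,
        map_smul, hu'U v hv]
  have hnu' : ¬ ScalOn ρ u' W := by
    rintro ⟨r, hr⟩
    have hsub : Cs ⊆ {r} := fun e he => by
      obtain ⟨w, hw, hw0, hwe⟩ := (em_pos_iff u' e W).1 (hlines e he).2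
      rw [hr w hw] at hwe
      exact Finset.mem_singleton.2 (smul_left_injective ℂ hw0 hwe).symm
    have := Finset.card_le_card hsub
    rw [Finset.card_singleton] at this
    omega
  obtain ⟨i, μ, hμ⟩ := hS.cyc u' hu'C x hxC hpu' hx hcom.symm hnu'
  set s := x * u' ^ i with hs
  have hsU : ∀ v ∈ U, ρ s v = c • v := fun v hv => by
    rw [hs, map_mul, Module.End.mul_apply, A.fix_pow (hu'U v hv), hUc v hv]
  have hsc : s ∈ Subgroup.center G := A.central_of_two (hx.mul (hpu'.pow i)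
    ((show Commute x u' from hcom).pow_right i)) hWU hμ hsU (by omega) fun hp5 => by
      obtain ⟨τ, -, hτ⟩ := exists_neg A.inj hsmall hU hWU hW.inv (by omega) (by omega) hnc
      exact ⟨τ, hτ⟩
  obtain ⟨κ, hκ⟩ := A.center_scal hsc
  obtain ⟨v, hv, hv0⟩ := Submodule.exists_mem_ne_zero_of_ne_bot (p := U) fun e => by
    rw [e] at hsum h1 h3
    rw [finrank_bot] at hsum h3
    omega
  have hκc : κ = c :=
    smul_left_injective ℂ hv0 ((hκ v Submodule.mem_top).symm.trans (hsU v hv))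
  obtain ⟨w, hw, hw0, hwe⟩ := (em_pos_iff (ρ := ρ) x c W).1 (by omega)
  have hfix : ρ (u' ^ i) w = w := by
    have h := hκ w Submodule.mem_top
    rw [hs, ((show Commute x u' from hcom).pow_right i).eq, map_mul, Module.End.mul_apply, hwe,
      map_smul, hκc] at h
    refine smul_right_injective (Fin d → ℂ) (fun hc0 : c = 0 => hw0 ?_) h
    rw [hc0, zero_smul] at hwe
    have h' := hcancel x⁻¹ w
    rw [inv_inv, hwe, map_zero] at h'
    exact h'.symm
  by_cases hpi : p ∣ i
  · refine hxc ?_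
    obtain ⟨k, rfl⟩ := hpi
    rwa [hs, pow_mul, hu'p, one_pow, mul_one] at hsc
  obtain ⟨k, hk⟩ : ∃ k : ℕ, ((i * k : ℕ) : ZMod p) = 1 := by
    refine ⟨((i : ZMod p)⁻¹).val, ?_⟩
    rw [Nat.cast_mul, ZMod.natCast_zmod_val]
    exact mul_inv_cancel₀ fun e => hpi ((ZMod.natCast_eq_zero_iff _ _).1 e)
  have hfix1 : ρ u' w = w := by
    have h := A.fix_pow hfix k
    rwa [← pow_mul, pow_eq_self_of_mod hu'p hk] at h
  have h5 := em_sum_le (ρ := ρ) u' W (insert 1 Cs)
  rw [Finset.sum_insert fun h => (hlines 1 h).1 rfl] at h5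
  have h6 : Cs.card • 1 ≤ ∑ e ∈ Cs, em ρ u' e W :=
    Finset.card_nsmul_le_sum _ _ _ fun e he => (hlines e he).2
  rw [smul_eq_mul, mul_one] at h6
  have h7 : 0 < em ρ u' 1 W := (em_pos_iff u' 1 W).2 ⟨w, hw, hw0, by rw [one_smul]; exact hfix1⟩
  omega

/-- The elements of `p`-power order commuting with a noncentral one commute. -/
theorem cent_comm {h : G} (hh : PEl p h) (hc : h ∉ Subgroup.center G) {a b : G}
    (ha : a * h = h * a) (hb : b * h = h * b) (hpa : PEl p a) (hpb : PEl p b) : a * b = b * a := by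
  have ha' := Subgroup.mem_centralizer_singleton_iff.2 ha
  have hb' := Subgroup.mem_centralizer_singleton_iff.2 hb
  rcases A.dich (A.red_centralizer hc) with hcc | ⟨W, U, hW, hU, hWU, hU0, hUpc, hWnc, hS, hsum⟩
  · exact hcc a ha' b hb' hpa hpb
  exfalso
  obtain ⟨c, hsc⟩ := scal_of_comm hW.inv hW.ne hW.min (Subgroup.mem_centralizer_singleton_iff.2 rfl)
    fun g hg => Subgroup.mem_centralizer_singleton_iff.1 hg
  have h1 := A.mult_lt hh hc c
  have h2 := em_mono (ρ := ρ) h c (le_top : W ≤ ⊤)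
  rw [em_scal hsc] at h2
  have := hS.big
  omega

/-- Commuting noncentral elements of `p`-power order lie in the same Sylow subgroup. -/
theorem sylow_eq {P Q : Sylow p G} {a b : G} (ha : a ∈ (P : Subgroup G)) (hb : b ∈ (Q : Subgroup G))
    (hac : a ∉ Subgroup.center G) (hbc : b ∉ Subgroup.center G) (hab : a * b = b * a) : P = Q := by
  have hpa := pEl_of_mem P.isPGroup' ha
  have hpb := pEl_of_mem Q.isPGroup' hb
  have hbP : b ∈ (P : Subgroup G) := mem_sylow_of_commute hpb P fun y hy =>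
    A.cent_comm hpa hac hab.symm (A.sylow_abelian P y hy a ha) hpb (pEl_of_mem P.isPGroup' hy)
  refine Sylow.ext (le_antisymm (fun y hy => ?_) fun y hy => ?_)
  · exact mem_sylow_of_commute (pEl_of_mem P.isPGroup' hy) Q fun z hz =>
      A.cent_comm hpb hbc (A.sylow_abelian P y hy b hbP) (A.sylow_abelian Q z hz b hb)
        (pEl_of_mem P.isPGroup' hy) (pEl_of_mem Q.isPGroup' hz)
  · exact mem_sylow_of_commute (pEl_of_mem Q.isPGroup' hy) P fun z hz =>
      A.cent_comm hpb hbc (A.sylow_abelian Q y hy b hb) (A.sylow_abelian P z hz b hbP)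
        (pEl_of_mem Q.isPGroup' hy) (pEl_of_mem P.isPGroup' hz)

theorem eq_one_of_fixed {z : G} (hz : z ∈ Subgroup.center G) {v : Fin d → ℂ} (hv : v ≠ 0)
    (hfix : ρ z v = v) : z = 1 := by
  obtain ⟨c, hc⟩ := A.center_scal hz
  rw [hc v Submodule.mem_top] at hfix
  have hc1 : c = 1 := smul_left_injective ℂ hv (hfix.trans (one_smul ℂ v).symm)
  refine A.inj (LinearMap.ext fun w => ?_)
  rw [hc w Submodule.mem_top, hc1, one_smul, map_one, Module.End.one_apply]

/-- A centralizer with noncommuting elements of `p`-power order gives the conclusion. -/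
theorem cyc_of_noncomm {g : G} (hg : g ∉ Subgroup.center G) {h₁ h₂ : G}
    (hc₁ : h₁ * g = g * h₁) (hc₂ : h₂ * g = g * h₂) (hp₁ : PEl p h₁) (hp₂ : PEl p h₂)
    (hne : h₁ * h₂ ≠ h₂ * h₁) (P : Sylow p G) : Cyc (P : Subgroup G) := by
  have hsmall := A.small
  have hlarge := A.five
  set C := Subgroup.centralizer ({g} : Set G)
  have h₁C : h₁ ∈ C := Subgroup.mem_centralizer_singleton_iff.2 hc₁
  have h₂C : h₂ ∈ C := Subgroup.mem_centralizer_singleton_iff.2 hc₂
  rcases A.dich (A.red_centralizer hg) with hcc | ⟨W, U, hW, hU, hWU, hU0, hUpc, hWnc, hS, hsum⟩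
  · exact absurd (hcc h₁ h₁C h₂ h₂C hp₁ hp₂) hne
  let K : Subgroup G :=
    { carrier := {k | k ∈ C ∧ ∀ v ∈ U, ρ k v = v}
      one_mem' := ⟨one_mem C, fun v _ => by simp⟩
      inv_mem' := fun {a} ha => ⟨inv_mem ha.1, fun v hv => by
        conv_lhs => rw [← ha.2 v hv, ← Module.End.mul_apply, ← map_mul, inv_mul_cancel, map_one,
          Module.End.one_apply]⟩
      mul_mem' := fun {a b} ha hb => ⟨mul_mem ha.1 hb.1, fun v hv => by
        rw [map_mul, Module.End.mul_apply, hb.2 v hv, ha.2 v hv]⟩ }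
  have hKconj : ∀ c ∈ C, ∀ k ∈ K, c * k * c⁻¹ ∈ K := fun c hc k hk =>
    ⟨mul_mem (mul_mem hc hk.1) (inv_mem hc), fun v hv => by
      rw [map_mul, map_mul, Module.End.mul_apply, Module.End.mul_apply,
        hk.2 _ (hU c⁻¹ (inv_mem hc) v hv), ← Module.End.mul_apply, ← map_mul, mul_inv_cancel,
        map_one, Module.End.one_apply]⟩
  set k₀ := h₁ * h₂ * h₁⁻¹ * h₂⁻¹ with hk₀
  have hk₀K : k₀ ∈ K := ⟨mul_mem (mul_mem (mul_mem h₁C h₂C) (inv_mem h₁C)) (inv_mem h₂C),
    fun v hv => by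
      have hu := hU (h₁⁻¹ * h₂⁻¹) (mul_mem (inv_mem h₁C) (inv_mem h₂C)) v hv
      rw [show k₀ = h₁ * h₂ * (h₁⁻¹ * h₂⁻¹) by rw [hk₀]; group, map_mul, map_mul,
        Module.End.mul_apply, Module.End.mul_apply, hUpc h₁ h₁C h₂ h₂C hp₁ hp₂ _ hu,
        ← Module.End.mul_apply (ρ h₁), ← map_mul, mul_inv_cancel_left, ← Module.End.mul_apply,
        ← map_mul, mul_inv_cancel, map_one, Module.End.one_apply]⟩
  have hpK : p ∣ Nat.card K := by
    by_contra hpK
    refine hne ?_
    obtain ⟨i, hi⟩ := hp₁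
    obtain ⟨j, -, hj⟩ := (Nat.dvd_prime_pow hp.out).1 (orderOf_dvd_of_pow_eq_one hi)
    have hck := Cfsg.Agent.S0899.centralizes ρ A.inj (by omega) h₁ ⟨j, hj⟩ _ K rfl
      (fun k hk => hKconj h₁ h₁C k hk) hpK k₀ hk₀K
    have hpow : ∀ n : ℕ, h₁ ^ n * h₂ * (h₁ ^ n)⁻¹ = k₀ ^ n * h₂ := by
      intro n
      induction n with
      | zero => simp
      | succ n ih =>
        rw [pow_succ', show h₁ * h₁ ^ n * h₂ * (h₁ * h₁ ^ n)⁻¹ =
          h₁ * (h₁ ^ n * h₂ * (h₁ ^ n)⁻¹) * h₁⁻¹ by group, ih, pow_succ]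
        calc h₁ * (k₀ ^ n * h₂) * h₁⁻¹ = h₁ * k₀ ^ n * h₁⁻¹ * (h₁ * h₂ * h₁⁻¹) := by group
          _ = k₀ ^ n * (k₀ * h₂) := by
            rw [(show Commute h₁ k₀ from hck).pow_right n |>.eq, mul_inv_cancel_right,
              show h₁ * h₂ * h₁⁻¹ = k₀ * h₂ by rw [hk₀]; group]
          _ = _ := (mul_assoc _ _ _).symm
    have h1 := hpow (p ^ i)
    rw [hi, one_mul, inv_one, mul_one] at h1
    have h2 : k₀ = 1 := by
      refine orderOf_eq_one_iff.1 (Nat.eq_one_of_dvd_coprimes ?_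
        (orderOf_dvd_of_pow_eq_one (right_eq_mul.1 h1)) (Subgroup.orderOf_dvd_natCard K hk₀K))
      exact Nat.Coprime.pow_left i (hp.out.coprime_iff_not_dvd.2 hpK)
    calc h₁ * h₂ = k₀ * (h₂ * h₁) := by rw [hk₀]; group
      _ = _ := by rw [h2, one_mul]
  obtain ⟨⟨u, huK⟩, hu⟩ := exists_prime_orderOf_dvd_card' p hpK
  have hupow : u ^ p = 1 := by
    have := pow_orderOf_eq_one (⟨u, huK⟩ : K)
    rw [hu] at this
    exact congrArg Subtype.val this
  have hpu : PEl p u := ⟨1, by rwa [pow_one]⟩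
  have hUv : ∃ v ∈ U, v ≠ (0 : Fin d → ℂ) := Submodule.exists_mem_ne_zero_of_ne_bot hU0
  obtain ⟨v₀, hv₀, hv₀0⟩ := hUv
  have hu1 : u ≠ 1 := fun e => by
    subst e
    rw [← Subgroup.orderOf_coe, orderOf_one] at hu
    exact hp.out.ne_one hu.symm
  have hsc : ¬ ScalOn ρ u W := by
    rintro ⟨c, hc⟩
    have h2 := em_mono (ρ := ρ) u c (le_top : W ≤ ⊤)
    rw [em_scal hc] at h2
    have hb := hS.big
    by_cases huc : u ∈ Subgroup.center G
    · exact hu1 (A.eq_one_of_fixed huc hv₀0 (huK.2 v₀ hv₀))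
    · have h1 := A.mult_lt hpu huc c
      omega
  obtain ⟨n, hn, Cs, hCs, hpow', -, hlines⟩ := hS.lines u huK.1 hpu hsc
  set u' := n * u * n⁻¹ * u⁻¹
  have hu'K : u' ∈ K := mul_mem (hKconj n hn u huK) (inv_mem huK)
  have hu'p : u' ^ p = 1 := by
    refine A.inj (LinearMap.ext fun v => ?_)
    obtain ⟨a, ha, b, hb, rfl⟩ := Submodule.mem_sup.1
      (hWU.sup_eq_top ▸ Submodule.mem_top (x := v))
    rw [map_one, Module.End.one_apply, map_add, hpow' a ha, (K.pow_mem hu'K p).2 b hb]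
  have hpu' : PEl p u' := ⟨1, by rwa [pow_one]⟩
  have hu'c : u' ∉ Subgroup.center G := by
    intro hz
    obtain ⟨c₀, hc₀⟩ : ∃ c, c ∈ Cs := by
      refine Finset.card_pos.1 ?_
      omega
    obtain ⟨hc1, hpos⟩ := hlines c₀ hc₀
    have h1 := A.eq_one_of_fixed hz hv₀0 (hu'K.2 v₀ hv₀)
    obtain ⟨w, -, hw0, hw⟩ := (em_pos_iff u' c₀ W).1 hpos
    rw [h1, map_one, Module.End.one_apply] at hw
    exact hc1 (smul_left_injective ℂ hw0 (hw.symm.trans (one_smul ℂ w).symm))
  have hnsu' : ¬ ScalOn ρ u' W := by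
    rintro ⟨c, hc⟩
    have h2 := em_mono (ρ := ρ) u' c (le_top : W ≤ ⊤)
    rw [em_scal hc] at h2
    have h1 := A.mult_lt hpu' hu'c c
    have := hS.big
    omega
  obtain ⟨Q, hu'Q⟩ := exists_sylow_mem hpu'
  have hgu' : g * u' = u' * g := (Subgroup.mem_centralizer_singleton_iff.1 hu'K.1).symm
  have hgQ : g • Q = Q := by
    refine A.sylow_eq (a := g * u' * g⁻¹) (b := u') ⟨u', hu'Q, rfl⟩ hu'Q (fun h => hu'c ?_) hu'c ?_
    · rwa [hgu', mul_inv_cancel_right] at h
    · rw [hgu', mul_inv_cancel_right]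
  have hQC : ∀ y ∈ (Q : Subgroup G), y ∈ C := by
    intro y hy
    set k := g * y * g⁻¹ * y⁻¹ with hk
    have hkQ : k ∈ (Q : Subgroup G) := by
      refine mul_mem ?_ (inv_mem hy)
      rw [← hgQ]
      exact ⟨y, hy, rfl⟩
    suffices hk1 : k = 1 by
      refine Subgroup.mem_centralizer_singleton_iff.2 ?_
      calc y * g = k⁻¹ * (g * y) := by rw [hk]; group
        _ = g * y := by rw [hk1, inv_one, one_mul]
    have hyu : y * u' = u' * y := A.sylow_abelian Q y hy u' hu'Q
    have hex : ∀ c ∈ Cs, ∃ v : Fin d → ℂ, v ≠ 0 ∧ ρ u' v = c • v ∧ ρ k v = v := by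
      intro c hc
      obtain ⟨hc1, hpos⟩ := hlines c hc
      have hUc : em ρ u' c U = 0 := by
        by_contra hne0
        obtain ⟨v, hv, hv0, hcv⟩ := (em_pos_iff u' c U).1 (Nat.pos_of_ne_zero hne0)
        rw [hu'K.2 v hv] at hcv
        exact hc1 (smul_left_injective ℂ hv0 (hcv.symm.trans (one_smul ℂ v).symm))
      have hone : em ρ u' c ⊤ = 1 := by
        rw [em_add hW.inv hU hWU hu'K.1 c, hUc, add_zero]
        rcases hS.mult u' hu'K.1 hpu' with h | h
        · exact absurd h hnsu'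
        · have := h c
          omega
      rw [em, inf_top_eq] at hone
      obtain ⟨⟨v, hvE⟩, hv0, hspan⟩ := finrank_eq_one_iff'.1 hone
      have hv0' : v ≠ 0 := fun e => hv0 (Subtype.ext e)
      refine ⟨v, hv0', Module.End.mem_eigenspace_iff.1 hvE, ?_⟩
      have hline : ∀ z : G, z * u' = u' * z → ∃ r : ℂ, ρ z v = r • v := fun z hz => by
        obtain ⟨r, hr⟩ := hspan ⟨ρ z v, Module.End.mem_eigenspace_iff.2 (by
          rw [← Module.End.mul_apply, ← map_mul, ← hz, map_mul, Module.End.mul_apply,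
            Module.End.mem_eigenspace_iff.1 hvE, map_smul])⟩
        exact ⟨r, (congrArg Subtype.val hr).symm⟩
      obtain ⟨r, hr⟩ := hline g hgu'
      obtain ⟨s, hs⟩ := hline y hyu
      have hcomm2 : ρ (g * y) v = ρ (y * g) v := by
        rw [map_mul, map_mul, Module.End.mul_apply, Module.End.mul_apply, hr, hs, map_smul, map_smul,
          hr, hs, smul_comm]
      have e : k = g * y * (y * g)⁻¹ := by rw [hk]; group
      have hr0 : ∀ z : G, ρ z⁻¹ (ρ z v) = v := fun z => by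
        rw [← Module.End.mul_apply, ← map_mul, inv_mul_cancel, map_one, Module.End.one_apply]
      obtain ⟨q, hq⟩ := hline (y * g)⁻¹ (Commute.inv_left (show Commute (y * g) u' from
        Commute.mul_left hyu hgu')).eq
      have hvv := hr0 (y * g)
      obtain ⟨s', hs'⟩ := hline (y * g) (Commute.mul_left hyu hgu')
      rw [hs', map_smul, hq] at hvv
      rw [e, map_mul, Module.End.mul_apply, hq, map_smul, hcomm2, hs', smul_comm]
      exact hvv
    choose vec hvec0 hvecE hveck using hex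
    have hli : LinearIndependent ℂ fun c : Cs => vec c.1 c.2 :=
      Module.End.eigenvectors_linearIndependent' (ρ u') (fun c : Cs => (c : ℂ))
        Subtype.val_injective _ fun c => ⟨Module.End.mem_eigenspace_iff.2 (hvecE c.1 c.2), hvec0 c.1 c.2⟩
    have hle : Cs.card ≤ em ρ k 1 ⊤ := by
      rw [em, inf_top_eq, ← Fintype.card_coe, ← finrank_span_eq_card hli]
      refine Submodule.finrank_mono (Submodule.span_le.2 ?_)
      rintro _ ⟨c, rfl⟩
      exact Module.End.mem_eigenspace_iff.2 (by rw [one_smul]; exact hveck c.1 c.2)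
    have hkc : k ∈ Subgroup.center G := by
      by_contra hkc
      have := A.mult_lt (pEl_of_mem Q.isPGroup' hkQ) hkc 1
      omega
    obtain ⟨c₀, hc₀⟩ : ∃ c, c ∈ Cs := by
      refine Finset.card_pos.1 ?_
      omega
    exact A.eq_one_of_fixed hkc (hvec0 c₀ hc₀) (hveck c₀ hc₀)
  have hQ : ∀ y ∈ (Q : Subgroup G), ∃ i : ℕ, y * u' ^ i ∈ Subgroup.center G := by
    intro y hy
    obtain ⟨i, c, hc⟩ := hS.cyc u' hu'K.1 y (hQC y hy) hpu' (pEl_of_mem Q.isPGroup' hy)
      (A.sylow_abelian Q u' hu'Q y hy) hnsu'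
    refine ⟨i, by_contra fun hnc' => ?_⟩
    have hel := pEl_of_mem Q.isPGroup' (mul_mem hy (pow_mem hu'Q i))
    have h2 := em_mono (ρ := ρ) (y * u' ^ i) c (le_top : W ≤ ⊤)
    rw [em_scal hc] at h2
    have := A.mult_lt hel hnc' c
    have := hS.big
    omega
  have hcycQ : Cyc (Q : Subgroup G) := by
    intro x hx hxc y hy
    obtain ⟨i, hi⟩ := hQ x hx
    obtain ⟨j, hj⟩ := hQ y hy
    have hui : ∀ m : ℕ, p ∣ m → u' ^ m = 1 := fun m ⟨q, hq⟩ => by rw [hq, pow_mul, hu'p, one_pow]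
    have hndi : ¬ p ∣ i := fun hd => hxc (by rwa [hui i hd, mul_one] at hi)
    have hcx : Commute x u' := A.sylow_abelian Q x hx u' hu'Q
    obtain ⟨k', hk'⟩ : ∃ k' : ℕ, ((i * k' : ℕ) : ZMod p) = -(j : ZMod p) := by
      refine ⟨(-(j : ZMod p) * (i : ZMod p)⁻¹).val, ?_⟩
      have hi0 : (i : ZMod p) ≠ 0 := fun e => hndi ((ZMod.natCast_eq_zero_iff _ _).1 e)
      rw [Nat.cast_mul, ZMod.natCast_zmod_val]
      field_simp
    have h0 : u' ^ (j + i * k') = 1 := by
      refine hui _ ((ZMod.natCast_eq_zero_iff _ _).1 ?_)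
      rw [Nat.cast_add, hk', add_neg_cancel]
    have hzk' := (Subgroup.center G).mul_mem hj ((Subgroup.center G).pow_mem hi k')
    have hkey' : y * u' ^ j * (x * u' ^ i) ^ k' = y * x ^ k' := by
      rw [(hcx.pow_right i).mul_pow, ← pow_mul, mul_assoc y, ← mul_assoc (u' ^ j),
        ((hcx.pow_pow k' j).symm).eq, mul_assoc (x ^ k'), ← pow_add, h0, mul_one]
    exact ⟨k', hkey' ▸ hzk'⟩
  obtain ⟨a, ha⟩ := MulAction.exists_smul_eq G Q P
  rw [← ha]
  exact hcycQ.conj a

end Amb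

end Cfsg.Agent.Block.Deg16
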