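import Mathlib
import Cfsg.Agent.Lib.Block.Deg16.Local
import Cfsg.Agent.Lib.Block.Deg16.Counts
import Cfsg.Agent.Lib.Char.Quotient
import Cfsg.Agent.S0898

/-!
A Sylow subgroup of a linear group of degree at most `p - 2` for a prime `p ≥ 5` is cyclic of order `p`
modulo the centre: the count of Feit and Thompson on the square of the character.
-/

set_option autoImplicit false
set_option linter.unusedSectionVars false
set_option linter.style.haveILetI false
set_option maxHeartbeats 800000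

namespace Cfsg.Agent.Block.Deg16

open Cfsg Cfsg.Agent.Char Cfsg.Agent.Block.PMinusTwo Module
open scoped _root_.Classical ComplexConjugate

universe w

variable {G : Type w} [Group G] {d p : ℕ}

theorem irreducible_res {ρ : Representation ℂ G (Fin d → ℂ)} {C : Subgroup G} (h : Irr ρ C ⊤) :
    Representation.IsIrreducible (ρ.comp C.subtype : Representation ℂ C (Fin d → ℂ)) := by
  haveI : Nontrivial (Subrepresentation (ρ.comp C.subtype : Representation ℂ C (Fin d → ℂ))) :=
    ⟨⊥, ⊤, fun e => h.ne (congrArg Subrepresentation.toSubmodule e).symm⟩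
  refine ⟨fun S => ?_⟩
  rcases h.min S.toSubmodule (fun g hg w hw => S.apply_mem_toSubmodule (⟨g, hg⟩ : C) hw) le_top
    with e | e
  · exact Or.inl (Subrepresentation.toSubmodule_injective e)
  · exact Or.inr (Subrepresentation.toSubmodule_injective e)

theorem isIrr_character_res [Finite G] {ρ : Representation ℂ G (Fin d → ℂ)} {C : Subgroup G}
    (h : Irr ρ C ⊤) : IsIrrCharacter C (fun x : C => ρ.character x) := by
  haveI := irreducible_res h
  exact isIrrCharacter_character (ρ.comp C.subtype : Representation ℂ C (Fin d → ℂ))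

namespace Amb

variable [Finite G] [hp : Fact p.Prime] {ρ : Representation ℂ G (Fin d → ℂ)} (A : Amb ρ p)
include A

theorem isIrr_character : IsIrrCharacter G ρ.character :=
  IsIrr.comp_mulEquiv (Subgroup.topEquiv (G := G)).symm (isIrr_character_res A.irr)

theorem comm_of_quot {x g : G} (hx : PEl p x)
    (h : ((x * g : G) : G ⧸ Subgroup.center G) = ((g * x : G) : G ⧸ Subgroup.center G)) :
    x * g = g * x := by
  refine comm_of_scal_commutator A.inj ?_ hx (A.center_scal ?_)
  · rw [finrank_fin_fun]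
    have := A.small
    have := A.five
    omega
  · have h1 := QuotientGroup.eq.1 h.symm
    have h2 := (inferInstance : (Subgroup.center G).Normal).conj_mem _ h1 (g * x)
    convert h2 using 1
    group

theorem card_H {P : Sylow p G} (hP : ¬ Cyc (P : Subgroup G)) :
    p ^ 2 ≤ Nat.card ((P : Subgroup G).map (QuotientGroup.mk' (Subgroup.center G))) := by
  set Z := Subgroup.center G
  set H := (P : Subgroup G).map (QuotientGroup.mk' Z)
  obtain ⟨k, hk⟩ := (P.isPGroup'.map (QuotientGroup.mk' Z)).exists_card_eq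
  rcases Nat.lt_or_ge k 2 with hlt | hge
  · exfalso
    refine hP fun x hx hxc y hy => ?_
    have hxH : (x : G ⧸ Z) ∈ H := ⟨x, hx, rfl⟩
    have hx1 : (x : G ⧸ Z) ≠ 1 := fun e => hxc ((QuotientGroup.eq_one_iff x).1 e)
    have hxp : (x : G ⧸ Z) ^ p = 1 := by
      have h1 : orderOf (x : G ⧸ Z) ∣ p ^ k := hk ▸ H.orderOf_dvd_natCard hxH
      exact orderOf_dvd_iff_pow_eq_one.1
        (h1.trans ((Nat.pow_dvd_pow p (show k ≤ 1 by omega)).trans (pow_one p).dvd))
    have hord := orderOf_eq_prime hxp hx1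
    have hk1 : k = 1 := by
      rcases Nat.eq_zero_or_pos k with rfl | h0
      · have h1 : orderOf (x : G ⧸ Z) ∣ p ^ 0 := hk ▸ H.orderOf_dvd_natCard hxH
        rw [hord, pow_zero, Nat.dvd_one] at h1
        exact absurd h1 hp.out.ne_one
      · omega
    have hz : Subgroup.zpowers (x : G ⧸ Z) = H := by
      refine Subgroup.eq_of_le_of_card_ge (Subgroup.zpowers_le.2 hxH) ?_
      rw [Nat.card_zpowers, hord, hk, hk1, pow_one]
    have hy' : (y : G ⧸ Z) ∈ Subgroup.zpowers (x : G ⧸ Z) := hz ▸ ⟨y, hy, rfl⟩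
    obtain ⟨j, hj⟩ := mem_powers_iff_mem_zpowers.2 hy'
    refine ⟨(p - 1) * j, (QuotientGroup.eq_one_iff _).1 ?_⟩
    rw [QuotientGroup.mk_mul, QuotientGroup.mk_pow, ← hj]
    change (x : G ⧸ Z) ^ j * _ = 1
    rw [← pow_add, show j + (p - 1) * j = p * j by
      obtain ⟨q, hq⟩ := Nat.exists_eq_add_of_le hp.out.one_le
      rw [hq, Nat.add_sub_cancel_left]; ring, pow_mul, hxp, one_pow]
  · rw [hk]
    exact Nat.pow_le_pow_right hp.out.pos hge

/-- A Sylow subgroup is cyclic of order `p` modulo the centre. -/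
theorem cyc (P : Sylow p G) : Cyc (P : Subgroup G) := by
  have hlarge := A.five
  have hsmall := A.small
  have hd2 := A.two_le
  by_cases hcase : ∃ g ∉ Subgroup.center G, ∃ h₁ h₂ : G, h₁ * g = g * h₁ ∧ h₂ * g = g * h₂ ∧
      PEl p h₁ ∧ PEl p h₂ ∧ h₁ * h₂ ≠ h₂ * h₁
  · obtain ⟨g, hg, h₁, h₂, e₁, e₂, hp₁, hp₂, hne⟩ := hcase
    exact A.cyc_of_noncomm hg e₁ e₂ hp₁ hp₂ hne P
  push Not at hcase
  by_contra hP
  haveI : Fact (Nat.Prime 19) := ⟨by norm_num⟩
  letI := Fintype.ofFinite G
  set Z := Subgroup.center G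
  letI := Fintype.ofFinite (G ⧸ Z)
  set H := (P : Subgroup G).map (QuotientGroup.mk' Z) with hHdef
  letI := Fintype.ofFinite H
  letI := Fintype.ofFinite (P : Subgroup G)
  have hHcard := A.card_H hP
  have hHab : ∀ a ∈ H, ∀ b ∈ H, a * b = b * a := by
    rintro _ ⟨a, ha, rfl⟩ _ ⟨b, hb, rfl⟩
    rw [← map_mul, ← map_mul, A.sylow_abelian P a ha b hb]
  have hHZ : H ⊓ Subgroup.center (G ⧸ Z) = ⊥ := by
    refine eq_bot_iff.2 fun q hq => ?_
    obtain ⟨⟨x, hx, rfl⟩, hqc⟩ := hq
    refine (QuotientGroup.eq_one_iff x).2 (Subgroup.mem_center_iff.2 fun g => ?_)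
    refine (A.comm_of_quot (pEl_of_mem P.isPGroup' hx) ?_).symm
    rw [QuotientGroup.mk_mul, QuotientGroup.mk_mul]
    exact (Subgroup.mem_center_iff.1 hqc (g : G ⧸ Z)).symm
  have hone : ∀ q : G ⧸ Z, q ∉ Subgroup.center (G ⧸ Z) → ∀ a b : G ⧸ Z,
      Subgroup.centralizer ({q} : Set (G ⧸ Z)) ⊓ H.map (MulAut.conj a).toMonoidHom ≠ ⊥ →
      Subgroup.centralizer ({q} : Set (G ⧸ Z)) ⊓ H.map (MulAut.conj b).toMonoidHom ≠ ⊥ →
      H.map (MulAut.conj a).toMonoidHom = H.map (MulAut.conj b).toMonoidHom := by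
    intro q hq a b
    obtain ⟨g, rfl⟩ := QuotientGroup.mk'_surjective Z q
    obtain ⟨a, rfl⟩ := QuotientGroup.mk'_surjective Z a
    obtain ⟨b, rfl⟩ := QuotientGroup.mk'_surjective Z b
    intro hA hB
    have hgZ : g ∉ Z := fun h => hq (by
      rw [show QuotientGroup.mk' Z g = 1 from (QuotientGroup.eq_one_iff g).2 h]
      exact one_mem _)
    have lift : ∀ c : G, Subgroup.centralizer ({QuotientGroup.mk' Z g} : Set (G ⧸ Z)) ⊓
        H.map (MulAut.conj (QuotientGroup.mk' Z c)).toMonoidHom ≠ ⊥ →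
        ∃ x ∈ ((c • P : Sylow p G) : Subgroup G), x ∉ Z ∧ PEl p x ∧ x * g = g * x := by
      intro c hc
      obtain ⟨y, hy, hy1⟩ := (Subgroup.bot_or_exists_ne_one _).resolve_left hc
      obtain ⟨hyc, y', ⟨x, hx, rfl⟩, rfl⟩ := hy
      have he : (MulAut.conj (QuotientGroup.mk' Z c)).toMonoidHom (QuotientGroup.mk' Z x) =
          QuotientGroup.mk' Z (c * x * c⁻¹) := by
        rw [MulEquiv.coe_toMonoidHom, MulAut.conj_apply, map_mul, map_mul, map_inv]
      rw [he] at hyc hy1
      refine ⟨c * x * c⁻¹, ⟨x, hx, rfl⟩, fun h => hy1 ((QuotientGroup.eq_one_iff _).2 h),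
        (pEl_of_mem P.isPGroup' hx).conj c, A.comm_of_quot ((pEl_of_mem P.isPGroup' hx).conj c) ?_⟩
      rw [QuotientGroup.mk_mul (N := Z) (c * x * c⁻¹) g, QuotientGroup.mk_mul (N := Z) g]
      exact Subgroup.mem_centralizer_singleton_iff.1 hyc
    obtain ⟨x, hxP, hxZ, hxp, hxg⟩ := lift a hA
    obtain ⟨y, hyP, hyZ, hyp, hyg⟩ := lift b hB
    have hPQ := A.sylow_eq hxP hyP hxZ hyZ (hcase g hgZ x y hxg hyg hxp hyp)
    have hmap : ∀ c : G, H.map (MulAut.conj (QuotientGroup.mk' Z c)).toMonoidHom =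
        ((c • P : Sylow p G) : Subgroup G).map (QuotientGroup.mk' Z) := by
      intro c
      change _ = Subgroup.map (QuotientGroup.mk' Z)
        ((P : Subgroup G).map (MulAut.conj c).toMonoidHom)
      rw [hHdef, Subgroup.map_map, Subgroup.map_map]
      refine congrArg (fun f => Subgroup.map f (P : Subgroup G)) (MonoidHom.ext fun z => ?_)
      simp
    rw [hmap, hmap, hPQ]
  -- the square of the character
  set χ : IrrCharacter G := ⟨ρ.character, A.isIrr_character⟩
  have hn : (χ : G → ℂ) 1 = (d : ℂ) := by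
    change ρ.character 1 = _
    rw [Representation.char_one, finrank_fin_fun]
  set Φ : G → ℂ := (χ : G → ℂ) * fun g => conj ((χ : G → ℂ) g) with hΦdef
  have hΦ : IsCharacter G Φ := IsChar.mul (IsIrr.isCharacter χ.2) (IsChar.conj (IsIrr.isCharacter χ.2))
  obtain ⟨a, ha, hdec⟩ := IsChar.exists_decomp_inner hΦ
  choose dd hd0 hd using fun ψ : IrrCharacter G => IsIrr.one_eq_pos ψ.2
  choose cc hcc using fun ψ : IrrCharacter G => IsChar.classInner_nat
    (IsChar.res (IsIrr.isCharacter ψ.2) (P : Subgroup G)) Cfsg.Agent.Char.IsChar.one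
  let one : IrrCharacter G := ⟨fun _ => 1, isIrr_one⟩
  have hτ : ∀ (z : Subgroup.center G) (g : G),
      Φ ((z : G) * g) = (((1 : Subgroup.center G →* ℂˣ) z : ℂˣ) : ℂ) * Φ g := by
    intro z g
    simp only [hΦdef, Pi.mul_apply, omega_spec, map_mul, MonoidHom.one_apply, Units.val_one, one_mul]
    linear_combination (χ : G → ℂ) g * conj ((χ : G → ℂ) g) * omega_conj_mul χ z
  set X := Subgroup.normalClosure ((P : Subgroup G) : Set G)
  haveI : X.Normal := Subgroup.normalClosure_normal
  letI := Fintype.ofFinite X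
  have hXall : ∀ x, PEl p x → x ∈ X := by
    intro x hx
    obtain ⟨Q, hQ⟩ := exists_sylow_mem hx
    obtain ⟨c, rfl⟩ := MulAction.exists_smul_eq G P Q
    obtain ⟨y, hy, rfl⟩ := hQ
    exact (inferInstance : X.Normal).conj_mem y (Subgroup.subset_normalClosure hy) c
  have hXirr : IsIrrCharacter X (fun x : X => (χ : G → ℂ) x) :=
    isIrr_character_res (A.irr_of_normal X hXall)
  choose cX hcX using fun ψ : IrrCharacter G => IsChar.classInner_nat
    (IsChar.res (IsIrr.isCharacter ψ.2) X) Cfsg.Agent.Char.IsChar.one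
  have hsum_res : ∀ (K : Subgroup G) [Fintype K] (c : IrrCharacter G → ℕ),
      (∀ ψ : IrrCharacter G, classInner (fun x : K => (ψ : G → ℂ) x) (fun _ => 1) = (c ψ : ℂ)) →
      ((∑ ψ, a ψ * c ψ : ℕ) : ℂ) =
        classInner (fun x : K => (χ : G → ℂ) x) (fun x : K => (χ : G → ℂ) x) := by
    intro K _ c hc
    push_cast
    simp only [← hc, classInner]
    simp only [Finset.mul_sum]
    rw [Finset.sum_comm]
    refine Finset.sum_congr rfl fun h _ => ?_
    have := congrFun hdec (h : G)
    rw [sum_irr_apply] at this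
    simp only [hΦdef, Pi.mul_apply] at this
    rw [this, Finset.mul_sum]
    exact Finset.sum_congr rfl fun ψ _ => by simp; ring
  have hX1 : ∑ ψ, a ψ * cX ψ = 1 := by
    have h1 := hsum_res X cX hcX
    rw [classInner_self_irr hXirr] at h1
    exact_mod_cast h1
  have ha1 : a one = 1 := by
    refine Nat.cast_injective (R := ℂ) ?_
    rw [← ha, Nat.cast_one, ← classInner_self_irr χ.2]
    simp [classInner, one, hΦdef]
  have hd1 : dd one = 1 := by
    refine Nat.cast_injective (R := ℂ) ?_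
    rw [← hd, Nat.cast_one]
  have hc1 : cc one = 1 := by
    refine Nat.cast_injective (R := ℂ) ?_
    rw [← hcc, Nat.cast_one]
    exact classInner_self_irr isIrr_one
  have hcX1 : cX one = 1 := by
    refine Nat.cast_injective (R := ℂ) ?_
    rw [← hcX, Nat.cast_one]
    exact classInner_self_irr isIrr_one
  have hX0 : ∀ ψ, ψ ≠ one → a ψ * cX ψ = 0 := by
    rw [← Finset.add_sum_erase _ _ (Finset.mem_univ one), ha1, hcX1] at hX1
    intro ψ hψ
    have h1 := Finset.single_le_sum (f := fun φ => a φ * cX φ) (fun φ _ => Nat.zero_le _)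
      (Finset.mem_erase.2 ⟨hψ, Finset.mem_univ ψ⟩)
    omega
  have hkey : ∀ ψ, ψ ≠ one → p * (a ψ * cc ψ) ≤ a ψ * dd ψ := by
    intro ψ hψ
    rcases Nat.eq_zero_or_pos (a ψ) with h0 | h0
    · simp [h0]
    rw [mul_left_comm]
    refine Nat.mul_le_mul_left _ ?_
    have hω : omega ψ = 1 := omega_of_inner hτ ψ (by rw [ha]; exact_mod_cast h0.ne')
    obtain ⟨φ, hφ, hφψ⟩ := IsIrr.exists_factor_quotient ψ.2 Z fun z hz => by
      have := omega_spec ψ ⟨z, hz⟩ 1
      rw [mul_one, hω, MonoidHom.one_apply, Units.val_one, one_mul] at this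
      exact this
    have hcH : classInner (fun h : H => φ h) (fun _ => 1) = (cc ψ : ℂ) := by
      have hs := MonoidHom.subgroupMap_surjective (QuotientGroup.mk' Z) (P : Subgroup G)
      rw [← hcc, ← classInner_comp_surjective _ hs (fun h : H => φ h) (fun _ => 1)]
      congr 1
      funext x
      exact hφψ x
    have hker : ∃ h ∈ H, φ h ≠ φ 1 := by
      by_contra hno
      push Not at hno
      have hle : X ≤ charKer (IsIrr.isCharacter ψ.2) := by
        haveI := charKer_normal (IsIrr.isCharacter ψ.2)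
        refine Subgroup.normalClosure_le_normal fun x hx => (mem_charKer _).2 ?_
        rw [← hφψ x, ← hφψ 1, QuotientGroup.mk_one]
        exact hno _ ⟨x, hx, rfl⟩
      have hcd : cX ψ = dd ψ := by
        refine Nat.cast_injective (R := ℂ) ?_
        have hval : ∀ x : X, (ψ : G → ℂ) x = (dd ψ : ℂ) := fun x => by
          rw [(mem_charKer _).1 (hle x.2), hd]
        rw [← hcX, classInner]
        simp only [hval, map_one, mul_one, Finset.sum_const, Finset.card_univ, nsmul_eq_mul,
          ← Nat.card_eq_fintype_card]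
        rw [inv_mul_cancel_left₀ (Nat.cast_ne_zero.2 Nat.card_pos.ne')]
      have := hX0 ψ hψ
      rw [hcd] at this
      rcases mul_eq_zero.1 this with h | h
      · omega
      · exact (hd0 ψ).ne' h
    have hφ1 : φ 1 = (dd ψ : ℂ) := by
      rw [← QuotientGroup.mk_one, hφψ, hd]
    have h1 := Cfsg.Agent.S0898.first_ineq H hHab hHZ hone ⟨φ, hφ⟩ hφ1 hcH hker
    by_contra hge
    push Not at hge
    have h2 := Nat.pow_le_pow_left hge.le 2
    have h3 := Nat.mul_le_mul_right (cc ψ ^ 2) hHcard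
    nlinarith
  have hres : d ≤ ∑ ψ, a ψ * cc ψ := by
    obtain ⟨m, hm, hmdec⟩ := IsChar.exists_decomp_inner
      (IsChar.res (IsIrr.isCharacter χ.2) (P : Subgroup G))
    have e2 : classInner (fun h : (P : Subgroup G) => (χ : G → ℂ) h)
        (fun h : (P : Subgroup G) => (χ : G → ℂ) h) = ((∑ ψ, m ψ * m ψ : ℕ) : ℂ) := by
      rw [hmdec, classInner_sum_sum]
      push_cast
      exact Finset.sum_congr rfl fun ψ _ => by simp
    have e3 := Nat.cast_injective ((hsum_res _ cc hcc).trans e2)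
    have h4 := congrFun hmdec 1
    rw [sum_irr_apply] at h4
    simp only [Subgroup.coe_one, hn] at h4
    have e4 : d = ∑ ψ, m ψ := by
      have : (d : ℂ) = ((∑ ψ, m ψ : ℕ) : ℂ) := by
        rw [h4]
        push_cast
        exact Finset.sum_congr rfl fun ψ _ => by
          rw [IsIrr.one_of_comm (fun x y => Subtype.ext (A.sylow_abelian P x x.2 y y.2)) ψ.2, mul_one]
      exact_mod_cast this
    rw [e3, e4]
    exact Finset.sum_le_sum fun ψ _ => Nat.le_mul_self _
  have h1 := congrFun hdec 1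
  rw [sum_irr_apply] at h1
  simp only [hΦdef, Pi.mul_apply, hn, Complex.conj_natCast] at h1
  simp only [hd] at h1
  have hsum : d * d = ∑ ψ, a ψ * dd ψ := by exact_mod_cast h1
  rw [← Finset.add_sum_erase _ _ (Finset.mem_univ one), ha1, hd1] at hsum
  rw [← Finset.add_sum_erase _ _ (Finset.mem_univ one), ha1, hc1] at hres
  have hS := Finset.sum_le_sum (s := Finset.univ.erase one)
    fun ψ hψ => hkey ψ (Finset.mem_erase.1 hψ).1
  rw [← Finset.mul_sum] at hS
  have hS' := Nat.mul_le_mul_right (∑ ψ ∈ Finset.univ.erase one, a ψ * cc ψ) hsmall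
  nlinarith

end Amb

end Cfsg.Agent.Block.Deg16
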