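import Mathlib
import Cfsg.Agent.Lib.Block.Deg16.Count
import Cfsg.Agent.Lib.Block.SmallFaith.Main
import Cfsg.Agent.Lib.Block.SmallFaith.Odd

/-!
The normal subgroup where the determinant has order prime to `p`: it has a Sylow subgroup of
order `p` that is not normal, it is irreducible and covers the group modulo the centre.
-/

set_option autoImplicit false
set_option linter.unusedSectionVars false
set_option linter.style.haveILetI false
set_option maxHeartbeats 800000

namespace Cfsg.Agent.Block.Deg16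

open Cfsg Cfsg.Agent.Char Module
open scoped _root_.Classical

universe w v

variable {G : Type w} [Group G]

/-- A part of `g` of `p`-power order with the same image in groups of exponent `p ^ a`. -/
theorem exists_pel_part [Finite G] (p : ℕ) [hp : Fact p.Prime] (a : ℕ) (g : G) :
    ∃ n : ℕ, PEl p (g ^ n) ∧ (n : ZMod (p ^ a)) = 1 := by
  set m := ordCompl[p] (Nat.card G)
  have hm : Nat.Coprime m (p ^ a) := ((Nat.coprime_ordCompl hp.out Nat.card_pos.ne').symm).pow_right a
  obtain ⟨s, hs⟩ : ∃ s : ℕ, (m : ZMod (p ^ a)) * s = 1 := by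
    haveI : NeZero (p ^ a) := ⟨pow_ne_zero _ hp.out.ne_zero⟩
    refine ⟨((m : ZMod (p ^ a))⁻¹).val, ?_⟩
    rw [ZMod.natCast_zmod_val, ZMod.coe_mul_inv_eq_one m hm]
  refine ⟨m * s, ⟨(Nat.card G).factorization p, ?_⟩, by rw [Nat.cast_mul, hs]⟩
  rw [← pow_mul, mul_comm m s, mul_assoc, mul_comm m, Nat.ordProj_mul_ordCompl_eq_self, pow_mul',
    pow_card_eq_one', one_pow]

theorem pow_eq_self_of_cast {p a n : ℕ} {H : Type v} [Group H] {x : H} (hx : x ^ p ^ a = 1)
    (hn : (n : ZMod (p ^ a)) = 1) : x ^ n = x := by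
  conv_rhs => rw [← pow_one x]
  refine pow_eq_pow_iff_modEq.2 (Nat.ModEq.of_dvd (orderOf_dvd_of_pow_eq_one hx) ?_)
  exact (ZMod.natCast_eq_natCast_iff _ _ _).1 (by rw [hn, Nat.cast_one])

/-- An element of `p`-power order lifts to one. -/
theorem exists_pel_lift [Finite G] {p : ℕ} [hp : Fact p.Prime] {H : Type v} [Group H] (φ : G →* H)
    (hφ : Function.Surjective φ) {y : H} (hy : PEl p y) : ∃ x : G, PEl p x ∧ φ x = y := by
  obtain ⟨c, rfl⟩ := hφ y
  obtain ⟨k, hk⟩ := hy
  obtain ⟨n, hn, hcast⟩ := exists_pel_part p k c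
  exact ⟨c ^ n, hn, by rw [map_pow, pow_eq_self_of_cast hk hcast]⟩

/-- An element of `p`-power order centralizing its commutator with `g` in a `p'`-subgroup commutes
with `g`. -/
theorem comm_of_centralized [Finite G] {p : ℕ} [hp : Fact p.Prime] {h g : G} (hh : PEl p h)
    {K : Subgroup G} (hK : h * g * h⁻¹ * g⁻¹ ∈ K) (hpK : ¬ p ∣ Nat.card K)
    (hc : h * (h * g * h⁻¹ * g⁻¹) = h * g * h⁻¹ * g⁻¹ * h) : h * g = g * h := by
  set k₀ := h * g * h⁻¹ * g⁻¹ with hk₀
  have hpow : ∀ n : ℕ, h ^ n * g * (h ^ n)⁻¹ = k₀ ^ n * g := by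
    intro n
    induction n with
    | zero => simp
    | succ n ih =>
      rw [pow_succ', show h * h ^ n * g * (h * h ^ n)⁻¹ =
        h * (h ^ n * g * (h ^ n)⁻¹) * h⁻¹ by group, ih, pow_succ]
      calc h * (k₀ ^ n * g) * h⁻¹ = h * k₀ ^ n * h⁻¹ * (h * g * h⁻¹) := by group
        _ = k₀ ^ n * (k₀ * g) := by
          rw [(show Commute h k₀ from hc).pow_right n |>.eq, mul_inv_cancel_right,
            show h * g * h⁻¹ = k₀ * g by rw [hk₀]; group]
        _ = _ := (mul_assoc _ _ _).symm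
  obtain ⟨i, hi⟩ := hh
  have h1 := hpow (p ^ i)
  rw [hi, one_mul, inv_one, mul_one] at h1
  have h2 : k₀ = 1 := by
    refine orderOf_eq_one_iff.1 (Nat.eq_one_of_dvd_coprimes ?_
      (orderOf_dvd_of_pow_eq_one (right_eq_mul.1 h1)) (Subgroup.orderOf_dvd_natCard K hK))
    exact Nat.Coprime.pow_left i (hp.out.coprime_iff_not_dvd.2 hpK)
  calc h * g = k₀ * (g * h) := by rw [hk₀]; group
    _ = _ := by rw [h2, one_mul]

variable {d p : ℕ}

theorem charDegree_res [Finite G] {ρ : Representation ℂ G (Fin d → ℂ)} (N : Subgroup G) :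
    charDegree (fun x : N => ρ.character x) = d := by
  have h1 : IsCharacter N (fun x : N => ρ.character x) :=
    isCharacter_character (ρ.comp N.subtype : Representation ℂ N (Fin d → ℂ))
  have h2 := Cfsg.Agent.Block.charDeg_spec h1
  rw [OneMemClass.coe_one, Representation.char_one, finrank_fin_fun] at h2
  exact_mod_cast h2.symm

theorem faithful_res [Finite G] {ρ : Representation ℂ G (Fin d → ℂ)} (hρ : Function.Injective ρ)
    (N : Subgroup G) (x : N) (hx : ρ.character x = ρ.character ((1 : N) : G)) : x = 1 := by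
  rw [OneMemClass.coe_one, Representation.char_one, character_eq_finrank_iff] at hx
  exact Subtype.ext (hρ (by rw [hx, OneMemClass.coe_one, map_one, Module.End.one_eq_id]))

namespace Amb

variable [Finite G] [hp : Fact p.Prime] {ρ : Representation ℂ G (Fin d → ℂ)} (A : Amb ρ p)
include A

theorem d_lt : d + 2 ≤ p := A.small

theorem exists_core : ∃ N : Subgroup G, N.Normal ∧ Irr ρ N ⊤ ∧
    (∀ g : G, ∃ z ∈ Subgroup.center G, ∃ n ∈ N, g = z * n) ∧
    ∀ Q : Sylow p N, Nat.card Q = p ∧ ¬ (Q : Subgroup N).Normal := by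
  have hd := A.d_lt
  have hd2 := A.two_le
  set a := (Nat.card G).factorization p
  set m := ordCompl[p] (Nat.card G) with hmdef
  have ham : p ^ a * m = Nat.card G := Nat.ordProj_mul_ordCompl_eq_self _ _
  set δ : G →* ℂˣ := (powMonoidHom m).comp (detUnits ρ) with hδ
  set N := δ.ker with hN
  have hδa : ∀ g, δ g ^ p ^ a = 1 := fun g => by
    rw [hδ, MonoidHom.comp_apply, powMonoidHom_apply, ← pow_mul, mul_comm, ham, ← map_pow,
      pow_card_eq_one', map_one]
  have hcen : ∀ z ∈ Subgroup.center G, PEl p z → z ∈ N → z = 1 := by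
    intro z hz hpz hzN
    obtain ⟨c, hc⟩ := A.center_scal hz
    have hρz : ρ z = c • LinearMap.id := LinearMap.ext fun w => hc w Submodule.mem_top
    obtain ⟨k, hk⟩ := hpz
    haveI : Nontrivial (Fin d → ℂ) := by
      haveI : Nonempty (Fin d) := ⟨⟨0, by omega⟩⟩
      infer_instance
    obtain ⟨v, hv⟩ := exists_ne (0 : Fin d → ℂ)
    have hc1 : c ^ p ^ k = 1 := by
      have h1 : ρ (z ^ p ^ k) v = v := by rw [hk, map_one, Module.End.one_apply]
      rw [map_pow, hρz, ← Module.End.one_eq_id, smul_pow, one_pow, LinearMap.smul_apply,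
        Module.End.one_apply] at h1
      exact smul_left_injective ℂ hv (h1.trans (one_smul ℂ v).symm)
    have hdet : c ^ (d * m) = 1 := by
      have h1 : ((δ z : ℂˣ) : ℂ) = 1 := by rw [MonoidHom.mem_ker.1 hzN, Units.val_one]
      rw [hδ, MonoidHom.comp_apply, powMonoidHom_apply, Units.val_pow_eq_pow_val, detUnits_apply,
        hρz, LinearMap.det_smul, LinearMap.det_id, mul_one, finrank_fin_fun, ← pow_mul] at h1
      exact h1
    have hc' : c = 1 := by
      refine orderOf_eq_one_iff.1 (Nat.eq_one_of_dvd_coprimes ?_ (orderOf_dvd_of_pow_eq_one hc1)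
        (orderOf_dvd_of_pow_eq_one hdet))
      refine (Nat.Coprime.mul_right (hp.out.coprime_iff_not_dvd.2 fun hdv => ?_)
        (Nat.coprime_ordCompl hp.out Nat.card_pos.ne')).pow_left k
      have := Nat.le_of_dvd (by omega) hdv
      omega
    refine A.inj ?_
    rw [hρz, hc', one_smul, map_one, Module.End.one_eq_id]
  have hpN : p ∣ Nat.card N := by
    by_contra hpN
    have hN' : ∀ h g : G, h * g * h⁻¹ * g⁻¹ ∈ N := fun h g => by
      rw [hN, MonoidHom.mem_ker, map_mul, map_mul, map_mul, map_inv, map_inv,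
        mul_right_comm (δ h), mul_inv_cancel, one_mul, mul_inv_cancel]
    have hcentral : ∀ h : G, PEl p h → ∀ g : G, h * g = g * h := fun h hh g => by
      obtain ⟨i, hi⟩ := hh
      obtain ⟨j, -, hj⟩ := (Nat.dvd_prime_pow hp.out).1 (orderOf_dvd_of_pow_eq_one hi)
      refine comm_of_centralized (p := p) (h := h) (g := g) ⟨i, hi⟩ (hN' h g) hpN ?_
      exact Cfsg.Agent.S0899.centralizes ρ A.inj (by omega) h ⟨j, hj⟩ _ N rfl
        (fun k hk => (inferInstance : N.Normal).conj_mem k hk h) hpN _ (hN' h g)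
    refine A.nc fun x _ y _ hx _ w _ => ?_
    rw [← Module.End.mul_apply, ← map_mul, hcentral x hx y, map_mul, Module.End.mul_apply]
  have hQcard : ∀ Q : Sylow p N, Nat.card Q = p := by
    intro Q
    obtain ⟨P, hP⟩ := (Q.isPGroup'.map N.subtype).exists_le_sylow
    obtain ⟨x, hxQ, hx1⟩ : ∃ x ∈ (Q : Subgroup N), x ≠ 1 := by
      by_contra hcon
      push Not at hcon
      have hbot : (Q : Subgroup N) = ⊥ := (Subgroup.eq_bot_iff_forall _).2 hcon
      have h1 := Q.not_dvd_index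
      rw [hbot, Subgroup.index_bot] at h1
      exact h1 hpN
    have hpel : ∀ y ∈ (Q : Subgroup N), PEl p (y : G) := fun y hy =>
      pEl_of_mem P.isPGroup' (hP ⟨y, hy, rfl⟩)
    have hcz : ∀ y ∈ (Q : Subgroup N), (y : G) ∈ Subgroup.center G → y = 1 := fun y hy hyz =>
      Subtype.ext (hcen _ hyz (hpel y hy) y.2)
    have hxz : (x : G) ∉ Subgroup.center G := fun h => hx1 (hcz x hxQ h)
    have hxp : x ^ p = 1 := by
      by_contra hne
      have hxpQ := (Q : Subgroup N).pow_mem hxQ p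
      obtain ⟨i, hi⟩ := A.cyc P ((x ^ p : N) : G) (hP ⟨_, hxpQ, rfl⟩)
        (fun h => hne (hcz _ hxpQ h)) x (hP ⟨x, hxQ, rfl⟩)
      rw [← SubmonoidClass.coe_pow, ← Subgroup.coe_mul] at hi
      have h1 := hcz _ (mul_mem hxQ (pow_mem hxpQ i)) hi
      rw [← pow_mul, ← pow_succ'] at h1
      obtain ⟨k, hk⟩ := hpel x hxQ
      rw [← SubmonoidClass.coe_pow, OneMemClass.coe_eq_one] at hk
      refine hx1 (orderOf_eq_one_iff.1 (Nat.eq_one_of_dvd_coprimes ?_
        (orderOf_dvd_of_pow_eq_one hk) (orderOf_dvd_of_pow_eq_one h1)))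
      refine (hp.out.coprime_iff_not_dvd.2 fun hdv => ?_).pow_left k
      exact hp.out.not_dvd_one ((Nat.dvd_add_right (dvd_mul_right p i)).1 hdv)
    have hQz : (Q : Subgroup N) = Subgroup.zpowers x := by
      refine le_antisymm (fun y hy => ?_) (Subgroup.zpowers_le.2 hxQ)
      obtain ⟨i, hi⟩ := A.cyc P (x : G) (hP ⟨x, hxQ, rfl⟩) hxz y (hP ⟨y, hy, rfl⟩)
      rw [← SubmonoidClass.coe_pow, ← Subgroup.coe_mul] at hi
      have h1 := hcz _ (mul_mem hy (pow_mem hxQ i)) hi
      rw [eq_inv_of_mul_eq_one_left h1]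
      exact inv_mem (Subgroup.npow_mem_zpowers x i)
    rw [hQz, Nat.card_zpowers, orderOf_eq_prime hxp hx1]
  have hcover : ∀ g : G, ∃ z ∈ Subgroup.center G, ∃ n ∈ N, g = z * n := by
    obtain ⟨⟨x, hxN⟩, hx⟩ := exists_prime_orderOf_dvd_card' p hpN
    rw [Subgroup.orderOf_mk] at hx
    have hxz : x ∉ Subgroup.center G := fun h => by
      rw [hcen x h ⟨1, by rw [pow_one, ← hx, pow_orderOf_eq_one]⟩ hxN, orderOf_one] at hx
      exact hp.out.ne_one hx.symm
    obtain ⟨P₀, hP₀⟩ := exists_sylow_mem (p := p) (x := x) ⟨1, by rw [pow_one, ← hx, pow_orderOf_eq_one]⟩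
    intro g
    obtain ⟨n, hn, hcast⟩ := exists_pel_part p a g
    obtain ⟨P, hP⟩ := exists_sylow_mem hn
    obtain ⟨c, rfl⟩ := MulAction.exists_smul_eq G P₀ P
    obtain ⟨i, hi⟩ := A.cyc (c • P₀) (c * x * c⁻¹) ⟨x, hP₀, rfl⟩
      (fun h => hxz (by simpa [mul_assoc] using
        (inferInstance : (Subgroup.center G).Normal).conj_mem _ h c⁻¹)) (g ^ n) hP
    refine ⟨_, hi, (g ^ n * (c * x * c⁻¹) ^ i)⁻¹ * g, ?_, (mul_inv_cancel_left _ _).symm⟩
    have hc : δ (c * x * c⁻¹) = 1 :=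
      MonoidHom.mem_ker.1 ((inferInstance : N.Normal).conj_mem x hxN c)
    rw [hN, MonoidHom.mem_ker, map_mul, map_inv, map_mul, map_pow, map_pow, hc, one_pow, mul_one,
      pow_eq_self_of_cast (hδa g) hcast, inv_mul_cancel]
  refine ⟨N, inferInstance, ⟨InvOn.top N, A.irr.ne, fun W' hW' _ => ?_⟩, hcover, fun Q => ⟨hQcard Q, ?_⟩⟩
  · refine A.irr.min W' (fun g _ w hw => ?_) le_top
    obtain ⟨z, hz, n, hn, rfl⟩ := hcover g
    obtain ⟨c, hc⟩ := A.center_scal hz
    rw [map_mul, Module.End.mul_apply, hc _ Submodule.mem_top]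
    exact W'.smul_mem c (hW' n hn w hw)
  · intro hQn
    set B := (Q : Subgroup N).map N.subtype with hB
    haveI : B.Normal := ⟨by
      rintro _ ⟨y, hy, rfl⟩ g
      obtain ⟨z, hz, n, hn, rfl⟩ := hcover g
      refine ⟨⟨n, hn⟩ * y * ⟨n, hn⟩⁻¹, hQn.conj_mem y hy _, ?_⟩
      have hz' := Subgroup.mem_center_iff.1 hz (n * (y : G) * n⁻¹)
      show n * (y : G) * n⁻¹ = z * n * (y : G) * (z * n)⁻¹
      rw [mul_inv_rev, show z * n * (y : G) * (n⁻¹ * z⁻¹) = z * (n * (y : G) * n⁻¹) * z⁻¹ by group,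
        ← hz', mul_inv_cancel_right]⟩
    obtain ⟨P, hP⟩ := (Q.isPGroup'.map N.subtype).exists_le_sylow
    have hle := A.normal_abelian_central B
      (fun x hx y hy => A.sylow_abelian P x (hP hx) y (hP hy))
      (fun x hx => pEl_of_mem P.isPGroup' (hP hx))
    have hbot : (Q : Subgroup N) = ⊥ := (Subgroup.eq_bot_iff_forall _).2 fun y hy =>
      Subtype.ext (hcen _ (hle ⟨y, hy, rfl⟩) (pEl_of_mem P.isPGroup' (hP ⟨y, hy, rfl⟩)) y.2)
    have := hQcard Q
    rw [hbot, Subgroup.card_bot] at this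
    exact hp.out.ne_one this.symm

end Amb

end Cfsg.Agent.Block.Deg16
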