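import Mathlib
import Cfsg.Agent.Lib.Block.Deg16.Core
import Cfsg.Agent.Lib.Block.Deg16.Cases

/-!
An irreducible part of dimension at most `p - 3` and at most 25 on which the elements of `p`-power
order do not commute: its dimension is at least `(p - 1) / 2` and a noncentral element of order `p` has every
eigenvalue at most once, by induction on the dimension.
-/

set_option autoImplicit false
set_option linter.unusedSectionVars false
set_option linter.style.haveILetI false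
set_option maxHeartbeats 800000

namespace Cfsg.Agent.Block.Deg16

open Cfsg Cfsg.Agent.Char Cfsg.Agent.Char.DefectOne Cfsg.Agent.Block.PMinusTwo Module
open scoped _root_.Classical

universe w v

section Eig

variable {G : Type w} [Group G] {V : Type v} [AddCommGroup V] [Module ℂ V] [FiniteDimensional ℂ V]
  {ρ : Representation ℂ G V}

theorem rep_inv_apply (ρ : Representation ℂ G V) (g : G) (v : V) : ρ g⁻¹ (ρ g v) = v := by
  rw [← Module.End.mul_apply, ← map_mul, inv_mul_cancel, map_one, Module.End.one_apply]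

theorem em_smul {z : G} {μ : ℂ} (hμ : μ ≠ 0) (hz : ∀ v, ρ z v = μ • v) (y : G) (a : ℂ) :
    em ρ (z * y) a ⊤ = em ρ y (a / μ) ⊤ := by
  have h : Module.End.eigenspace (ρ (z * y)) a = Module.End.eigenspace (ρ y) (a / μ) := by
    ext v
    rw [Module.End.mem_eigenspace_iff, Module.End.mem_eigenspace_iff, map_mul, Module.End.mul_apply,
      hz]
    constructor
    · intro h
      rw [div_eq_inv_mul, mul_smul, ← h, smul_smul, inv_mul_cancel₀ hμ, one_smul]
    · intro h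
      rw [h, smul_smul, mul_div_cancel₀ a hμ]
  rw [em, em, h]

theorem scal_ne_zero [Nontrivial V] {z : G} {μ : ℂ} (hz : ∀ v, ρ z v = μ • v) : μ ≠ 0 := by
  intro h
  obtain ⟨v, hv⟩ := exists_ne (0 : V)
  have h1 := rep_inv_apply ρ z v
  rw [hz, h, zero_smul, map_zero] at h1
  exact hv h1.symm

theorem pow_eq_one_of_em {y : G} {n : ℕ} (hy : y ^ n = 1) {c : ℂ} (h : 0 < em ρ y c ⊤) :
    c ^ n = 1 := by
  obtain ⟨v, -, hv, e⟩ := (em_pos_iff (y ^ n) (c ^ n) ⊤).1 (lt_of_lt_of_le h (em_pow_le y c n ⊤))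
  rw [hy, map_one, Module.End.one_apply] at e
  exact smul_left_injective ℂ hv (e.symm.trans (one_smul ℂ v).symm)

/-- A nontrivial element of finite order has an eigenvalue different from one. -/
theorem exists_eig_ne {y : G} {n : ℕ} (hn : n ≠ 0) (hy : y ^ n = 1) (hne : ρ y ≠ 1) :
    ∃ c : ℂ, c ≠ 1 ∧ 0 < em ρ y c ⊤ := by
  set T := ρ y
  set W := LinearMap.range (T - 1)
  have hW : ∀ w ∈ W, T w ∈ W := by
    rintro _ ⟨v, rfl⟩
    exact ⟨T v, by simp⟩
  haveI : Nontrivial W := Submodule.nontrivial_iff_ne_bot.2 fun e =>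
    hne (sub_eq_zero.1 (LinearMap.range_eq_bot.1 e))
  obtain ⟨c, hc⟩ := Module.End.exists_eigenvalue (T.restrict hW)
  obtain ⟨⟨w, hwW⟩, hw⟩ := hc.exists_hasEigenvector
  have hw' : T w = c • w := congrArg Subtype.val (Module.End.mem_eigenspace_iff.1 hw.1)
  have hw0 : w ≠ 0 := fun e => hw.2 (Subtype.ext e)
  refine ⟨c, ?_, (em_pos_iff y c ⊤).2 ⟨w, Submodule.mem_top, hw0, hw'⟩⟩
  rintro rfl
  obtain ⟨v, hv⟩ := hwW
  rw [LinearMap.sub_apply, Module.End.one_apply, sub_eq_iff_eq_add] at hv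
  have hpow : ∀ k : ℕ, (T ^ k) v = v + k • w := by
    intro k
    induction k with
    | zero => simp
    | succ k ih =>
      rw [pow_succ', Module.End.mul_apply, ih, map_add, map_nsmul, hv, hw', one_smul, succ_nsmul]
      abel
  have h1 := hpow n
  rw [show T ^ n = 1 by rw [← map_pow, hy, map_one], Module.End.one_apply, left_eq_add,
    ← Nat.cast_smul_eq_nsmul ℂ] at h1
  exact hw0 ((smul_eq_zero.1 h1).resolve_left (Nat.cast_ne_zero.2 hn))

end Eig

variable {G : Type w} [Group G] {d p : ℕ}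

/-- The irreducible faithful case. -/
theorem spec_faith [Finite G] [hp : Fact p.Prime] {ρ : Representation ℂ G (Fin d → ℂ)}
    (A : Amb ρ p) (hd : d + 3 ≤ p) (hd' : d ≤ 25) : Spec ρ p ⊤ ⊤ := by
  have hlarge := A.five
  have hd2 := A.two_le
  haveI : Nonempty (Fin d) := ⟨⟨0, by omega⟩⟩
  obtain ⟨N, hNn, hNirr, hcov, hsyl⟩ := A.exists_core
  let Q : Sylow p N := default
  obtain ⟨hQ, hQn⟩ := hsyl Q
  letI := Fintype.ofFinite N
  set ζ : IrrCharacter N := ⟨fun x : N => ρ.character x, isIrr_character_res hNirr⟩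
  have hfaith : ∀ x : N, (ζ : N → ℂ) x = (ζ : N → ℂ) 1 → x = 1 := fun x hx =>
    faithful_res A.inj N x hx
  have hdeg : charDegree (ζ : N → ℂ) = d := charDegree_res N
  obtain ⟨u, R, L, hR, hrd⟩ : ∃ (u : N) (R : Subgroup (ZMod p)ˣ), SmallFaith.Sit p u R ∧
      2 * Nat.card R + 1 = p ∧ (2 * d + 1 = p ∨ 2 * d = p + 1) := by
    rcases Nat.lt_or_ge 7 p with h7 | h7
    · obtain ⟨u, R, L, hcase⟩ := SmallFaith.exists_cases h7 Q hQ hQn ζ hfaith (by omega)
      rw [hdeg] at hcase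
      rcases hcase with ⟨-, hR, hrd⟩ | ⟨ω, y, t, Z, ht, ht3, hR2, hde⟩
      · exact ⟨u, R, L, hR, hrd⟩
      exfalso
      have hb := Z.e_add_three_le L (fun φ hφ => SmallFaith.two_mul_degree_ge (by omega)
        (SmallFaith.not_sq_dvd Q hQ) (SmallFaith.no_normal_order Q hQ hQn) (IsIrr.isCharacter ζ.2)
        hfaith (Cfsg.Agent.Block.charDeg_spec' ζ) (by omega) φ L.hu hφ) ht ht3 (by omega) hR2
      have he3 : 3 ≤ Nat.card R := by omega
      have he4 : Nat.card R ≤ 4 := by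
        by_contra h
        have := Nat.mul_le_mul_left (Nat.card R) hb
        nlinarith
      rcases (show Nat.card R = 3 ∨ Nat.card R = 4 by omega) with h | h <;>
        rw [h] at ht hde hb
      · obtain ⟨rfl, rfl⟩ : t = 6 ∧ p = 19 := by
          have h8 : t ≤ 9 := by omega
          interval_cases t <;> first
            | omega
            | (exfalso; revert hp; subst ht; intro hp; exact absurd hp.out (by norm_num))
        exact no_nineteen Q hQ hQn ζ hfaith (by omega)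
      · exact even_false Z L (fun φ hφ => SmallFaith.two_mul_degree_ge (by omega)
          (SmallFaith.not_sq_dvd Q hQ) (SmallFaith.no_normal_order Q hQ hQn) (IsIrr.isCharacter ζ.2)
          hfaith (Cfsg.Agent.Block.charDeg_spec' ζ) (by omega) φ L.hu hφ) (by rw [h]; exact ht) ht3
          (by omega) (by rw [h]; decide)
    · obtain ⟨u, R, L, hcase⟩ := exists_cases_few A.five Q hQ hQn ζ hfaith (by omega)
      rw [hdeg] at hcase
      have hp67 : p ≠ 6 := fun h => absurd (h ▸ hp.out) (by norm_num)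
      rcases hcase with ⟨-, hR, he⟩ | ⟨hde, hR2, -⟩
      · exact ⟨u, R, L, hR, by omega⟩
      · exact ⟨u, R, L, by omega, by omega⟩
  set f := Nat.card R with hf
  letI := Fintype.ofFinite R
  have hpw : ∀ (i : ZMod p) (k : ℕ), pw u i ^ k = pw u (i * (k : ZMod p)) :=
    fun i k => pw_pow L.cardP (Subgroup.mem_zpowers u) L.u_ne i k
  have hnc : ∀ j : ZMod p, j ≠ 0 → ((pw u j : N) : G) ∉ Subgroup.center G := by
    intro j hj hz
    refine L.zreg ?_
    rw [← L.orderOf_pw hj]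
    refine Subgroup.orderOf_dvd_natCard _ (Subgroup.mem_center_iff.2 fun g => Subtype.ext ?_)
    exact Subgroup.mem_center_iff.1 hz g
  have hy1 : ∀ j : ZMod p, ((pw u j : N) : G) ^ p = 1 := fun j => by
    rw [← SubmonoidClass.coe_pow, L.pw_pow_p, OneMemClass.coe_one]
  have horb : ∀ j : ZMod p, j ≠ 0 → ∀ c : ℂ, c ≠ 1 → 0 < em ρ ((pw u j : N) : G) c ⊤ →
      ∃ Cs : Finset ℂ, Cs.card = f ∧ ∀ e ∈ Cs, e ≠ 1 ∧
        em ρ ((pw u j : N) : G) c ⊤ ≤ em ρ ((pw u j : N) : G) e ⊤ := by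
    intro j hj c hc hpos
    have hcp := pow_eq_one_of_em (hy1 j) hpos
    have hord : orderOf c = p := orderOf_eq_prime hcp hc
    refine ⟨(Finset.univ : Finset R).image fun r : R => c ^ (((r : (ZMod p)ˣ) : ZMod p)).val, ?_, ?_⟩
    · rw [Finset.card_image_of_injective, Finset.card_univ, hf, Nat.card_eq_fintype_card]
      intro r r' h
      refine Subtype.ext (Units.ext (ZMod.val_injective p ?_))
      exact pow_injOn_Iio_orderOf (by rw [Set.mem_Iio, hord]; exact ZMod.val_lt _)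
        (by rw [Set.mem_Iio, hord]; exact ZMod.val_lt _) h
    · intro e he
      obtain ⟨r, -, rfl⟩ := Finset.mem_image.1 he
      refine ⟨fun h1 => ?_, ?_⟩
      · have h2 : p ∣ (((r : (ZMod p)ˣ) : ZMod p)).val :=
          (dvd_of_eq hord.symm).trans (orderOf_dvd_of_pow_eq_one h1)
        have h3 := Nat.eq_zero_of_dvd_of_lt h2 (ZMod.val_lt _)
        exact (r : (ZMod p)ˣ).ne_zero ((ZMod.val_eq_zero _).1 h3)
      · obtain ⟨g, hg⟩ := (L.mem_R _).1 r.2
        have hconj := congrArg (Subtype.val) (L.conj_pw' hg j)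
        rw [mul_comm (((r : (ZMod p)ˣ) : ZMod p)) j, ← ZMod.natCast_zmod_val (((r : (ZMod p)ˣ) : ZMod p)),
          ← hpw, SubmonoidClass.coe_pow, Subgroup.coe_mul, Subgroup.coe_mul, Subgroup.coe_inv] at hconj
        refine (em_pow_le _ c (((r : (ZMod p)ˣ) : ZMod p)).val ⊤).trans ?_
        rw [← hconj, em_conj (InvOn.top (⊤ : Subgroup G)) (Subgroup.mem_top _)]
  have heig : ∀ j : ZMod p, j ≠ 0 → ∃ c : ℂ, c ≠ 1 ∧ 0 < em ρ ((pw u j : N) : G) c ⊤ := by
    intro j hj
    refine exists_eig_ne hp.out.ne_zero (hy1 j) fun h => hnc j hj ?_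
    rw [show ((pw u j : N) : G) = 1 from A.inj (by rw [h, map_one])]
    exact one_mem _
  have hdle : ∀ (y : G) (s : Finset ℂ), ∑ c ∈ s, em ρ y c ⊤ ≤ d := fun y s => by
    have := em_sum_le (ρ := ρ) y ⊤ s
    rwa [finrank_top, finrank_fin_fun] at this
  have hone : ∀ j : ZMod p, j ≠ 0 → ∀ c : ℂ, em ρ ((pw u j : N) : G) c ⊤ ≤ 1 := by
    intro j hj c
    by_contra hgt
    push Not at hgt
    rcases eq_or_ne c 1 with rfl | hc
    · obtain ⟨c', hc', hpos⟩ := heig j hj
      obtain ⟨Cs, hCs, hCs'⟩ := horb j hj c' hc' hpos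
      have h1 := hdle ((pw u j : N) : G) (insert 1 Cs)
      rw [Finset.sum_insert fun h => (hCs' 1 h).1 rfl] at h1
      have h2 : Cs.card • 1 ≤ ∑ e ∈ Cs, em ρ ((pw u j : N) : G) e ⊤ :=
        Finset.card_nsmul_le_sum _ _ _ fun e he => hpos.trans_le (hCs' e he).2
      rw [smul_eq_mul, mul_one, hCs] at h2
      omega
    · obtain ⟨Cs, hCs, hCs'⟩ := horb j hj c hc (by omega)
      have h1 := hdle ((pw u j : N) : G) Cs
      have h2 : Cs.card • 2 ≤ ∑ e ∈ Cs, em ρ ((pw u j : N) : G) e ⊤ :=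
        Finset.card_nsmul_le_sum _ _ _ fun e he => le_trans hgt (hCs' e he).2
      rw [smul_eq_mul, hCs] at h2
      omega
  have hdec : ∀ x : G, PEl p x → x ∉ Subgroup.center G → ∃ (g z : G) (j : ZMod p),
      z ∈ Subgroup.center G ∧ j ≠ 0 ∧ x = z * (g * ((pw u j : N) : G) * g⁻¹) := by
    intro x hx hxz
    have hu : PEl p ((u : N) : G) := ⟨1, by rw [pow_one, ← L.pw_one', hy1]⟩
    have huz : ((u : N) : G) ∉ Subgroup.center G := L.pw_one' ▸ hnc 1 one_ne_zero
    obtain ⟨P₀, hP₀⟩ := exists_sylow_mem hu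
    obtain ⟨P, hP⟩ := exists_sylow_mem hx
    obtain ⟨c, rfl⟩ := MulAction.exists_smul_eq G P₀ P
    obtain ⟨i, hi⟩ := A.cyc (c • P₀) (c * (u : G) * c⁻¹) ⟨u, hP₀, rfl⟩
      (fun h => huz (by simpa [mul_assoc] using
        (inferInstance : (Subgroup.center G).Normal).conj_mem _ h c⁻¹)) x hP
    have hpi : pw u (i : ZMod p) = u ^ i :=
      pw_natCast L.cardP (Subgroup.mem_zpowers u) L.u_ne i
    have hinv : ((pw u (-(i : ZMod p)) : N) : G) = ((u : G) ^ i)⁻¹ := by
      rw [← SubmonoidClass.coe_pow, ← hpi, ← Subgroup.coe_inv]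
      refine congrArg Subtype.val (eq_inv_of_mul_eq_one_left ?_)
      rw [L.pw_add, neg_add_cancel, pw, ZMod.val_zero, pow_zero]
    have hx' : x = x * (c * (u : G) * c⁻¹) ^ i * (c * ((pw u (-(i : ZMod p)) : N) : G) * c⁻¹) := by
      rw [hinv, conj_pow]
      group
    refine ⟨c, _, -(i : ZMod p), hi, fun h0 => hxz ?_, hx'⟩
    rw [hx', h0, pw, ZMod.val_zero, pow_zero, OneMemClass.coe_one, mul_one, mul_inv_cancel, mul_one]
    exact hi
  have hsc : ∀ x : G, x ∈ Subgroup.center G → ScalOn ρ x (⊤ : Submodule ℂ (Fin d → ℂ)) :=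
    fun x hx => A.center_scal hx
  refine ⟨?_, ?_, ?_, ?_, ?_⟩
  · rw [finrank_top, finrank_fin_fun]
    omega
  · intro x _ hx
    by_cases hxz : x ∈ Subgroup.center G
    · exact Or.inl (hsc x hxz)
    obtain ⟨g, z, j, hz, hj, rfl⟩ := hdec x hx hxz
    obtain ⟨μ, hμ⟩ := hsc z hz
    refine Or.inr fun c => ?_
    rw [em_smul (scal_ne_zero fun v => hμ v Submodule.mem_top) (fun v => hμ v Submodule.mem_top),
      em_conj (InvOn.top (⊤ : Subgroup G)) (Subgroup.mem_top g)]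
    exact hone j hj _
  · intro x _ hx hns
    obtain ⟨g, z, j, hz, hj, rfl⟩ := hdec x hx fun h => hns (hsc x h)
    obtain ⟨r, hr⟩ : ∃ r : R, r ≠ 1 := by
      haveI : Nontrivial R := Fintype.one_lt_card_iff_nontrivial.1 (by
        rw [← Nat.card_eq_fintype_card]
        omega)
      exact exists_ne 1
    obtain ⟨g₀, hg₀⟩ := (L.mem_R _).1 r.2
    set j' := (((r : (ZMod p)ˣ) : ZMod p) - 1) * j with hj'
    have hj'0 : j' ≠ 0 := mul_ne_zero (sub_ne_zero.2 fun h =>
      hr (Subtype.ext (Units.ext (by rw [h]; rfl)))) hj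
    have hcom : g₀ * pw u j * g₀⁻¹ * (pw u j)⁻¹ = pw u j' := by
      rw [L.conj_pw' hg₀, mul_inv_eq_iff_eq_mul, L.pw_add, hj']
      ring_nf
    have hn : g * (g₀ : G) * g⁻¹ * (z * (g * ((pw u j : N) : G) * g⁻¹)) * (g * (g₀ : G) * g⁻¹)⁻¹ *
        (z * (g * ((pw u j : N) : G) * g⁻¹))⁻¹ = g * ((pw u j' : N) : G) * g⁻¹ := by
      rw [← congrArg Subtype.val hcom, Subgroup.coe_mul, Subgroup.coe_mul, Subgroup.coe_mul,
        Subgroup.coe_inv, Subgroup.coe_inv]
      have hzc := Subgroup.mem_center_iff.1 hz (g * (g₀ : G) * g⁻¹)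
      rw [← mul_assoc (g * (g₀ : G) * g⁻¹) z, hzc]
      simp only [mul_assoc]
      rw [← Subgroup.mem_center_iff.1 hz]
      group
    obtain ⟨c, hc, hpos⟩ := heig j' hj'0
    obtain ⟨Cs, hCs, hCs'⟩ := horb j' hj'0 c hc hpos
    refine ⟨g * (g₀ : G) * g⁻¹, Subgroup.mem_top _, Cs, by omega, fun w _ => ?_, fun w _ => ?_,
      fun e he => ?_⟩
    · rw [hn, conj_pow, hy1, mul_one, mul_inv_cancel, map_one, Module.End.one_apply]
    · set x := z * (g * ((pw u j : N) : G) * g⁻¹) with hx'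
      have hc1 : Commute (g * ((pw u j' : N) : G) * g⁻¹) x := by
        refine Commute.mul_right (Subgroup.mem_center_iff.1 hz _) ?_
        show _ = _
        simp only [mul_assoc, inv_mul_cancel_left]
        rw [← mul_assoc ((pw u j' : N) : G), ← Subgroup.coe_mul, L.pw_add,
          ← mul_assoc ((pw u j : N) : G), ← Subgroup.coe_mul, L.pw_add, add_comm]
      rw [← Module.End.mul_apply, ← map_mul, ← Module.End.mul_apply (ρ x), ← map_mul]
      have e : g * (g₀ : G) * g⁻¹ * x * (g * (g₀ : G) * g⁻¹)⁻¹ =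
          g * ((pw u j' : N) : G) * g⁻¹ * x := by
        rw [← hn, inv_mul_cancel_right]
      rw [e]
      exact congrArg (fun k => ρ k w) (hc1.mul_left (Commute.refl x)).eq
    · rw [hn, em_conj (InvOn.top (⊤ : Subgroup G)) (Subgroup.mem_top g)]
      exact ⟨(hCs' e he).1, hpos.trans_le (hCs' e he).2⟩
  · intro a _ b _ ha hb hab hns
    have haz : a ∉ Subgroup.center G := fun h => hns (hsc a h)
    obtain ⟨P, hP⟩ := exists_sylow_mem ha
    by_cases hbz : b ∈ Subgroup.center G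
    · exact ⟨0, hsc _ (by rwa [pow_zero, mul_one])⟩
    obtain ⟨P', hP'⟩ := exists_sylow_mem hb
    obtain rfl := A.sylow_eq hP hP' haz hbz hab
    obtain ⟨i, hi⟩ := A.cyc P a hP haz b hP'
    exact ⟨i, hsc _ hi⟩
  · intro a _ x _ ha hxa hns
    obtain ⟨g, z, j, hz, hj, rfl⟩ := hdec a ha fun h => hns (hsc a h)
    obtain ⟨z₁, hz₁, n, hn, hzn⟩ := hcov (g⁻¹ * x * g)
    have h1 : Commute x (g * ((pw u j : N) : G) * g⁻¹) := by
      have h2 := (show Commute x (z * (g * ((pw u j : N) : G) * g⁻¹)) from hxa)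
      have h3 := (show Commute x z⁻¹ from Subgroup.mem_center_iff.1 (inv_mem hz) x).mul_right h2
      rwa [inv_mul_cancel_left] at h3
    have h2 : Commute (g⁻¹ * x * g) ((pw u j : N) : G) := by
      show _ = _
      have := congrArg (fun k => g⁻¹ * k * g) h1.eq
      simpa [mul_assoc] using this
    have h3 : Commute n ((pw u j : N) : G) := by
      have h4 := (show Commute z₁⁻¹ ((pw u j : N) : G) from
        (Subgroup.mem_center_iff.1 (inv_mem hz₁) _).symm).mul_left (hzn ▸ h2)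
      rwa [inv_mul_cancel_left] at h4
    have h5 : (⟨n, hn⟩ : N) * u = u * ⟨n, hn⟩ := by
      have h6 : Commute (⟨n, hn⟩ : N) (pw u j ^ (j⁻¹).val) :=
        Commute.pow_right (show (⟨n, hn⟩ : N) * pw u j = pw u j * ⟨n, hn⟩ from Subtype.ext h3.eq) _
      rw [hpw, ZMod.natCast_zmod_val, mul_inv_cancel₀ hj, L.pw_one'] at h6
      exact h6
    obtain ⟨i, z₂, hz₂, hn₂⟩ := L.cent _ h5
    have hz₂G : (z₂ : G) ∈ Subgroup.center G := Subgroup.mem_center_iff.2 fun k => by
      obtain ⟨z₃, hz₃, m, hm, rfl⟩ := hcov k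
      have h6 : m * (z₂ : G) = (z₂ : G) * m :=
        congrArg Subtype.val (Subgroup.mem_center_iff.1 hz₂ ⟨m, hm⟩)
      rw [mul_assoc, h6, ← mul_assoc, ← Subgroup.mem_center_iff.1 hz₃ (z₂ : G), mul_assoc]
    have hu1 : ((u : N) : G) ^ p = 1 := L.pw_one' ▸ hy1 1
    have hnG : n = ((u : N) : G) ^ i * (z₂ : G) := by
      rw [← SubmonoidClass.coe_pow, ← Subgroup.coe_mul, ← hn₂]
    have hnp : n ^ p = (z₂ : G) ^ p := by
      rw [hnG, (show Commute (((u : N) : G) ^ i) (z₂ : G) from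
        Subgroup.mem_center_iff.1 hz₂G _).mul_pow, ← pow_mul, mul_comm i, pow_mul, hu1, one_pow,
        one_mul]
    have hxp : x ^ p = g * (z₁ ^ p * (z₂ : G) ^ p) * g⁻¹ := by
      rw [← hnp, ← (show Commute z₁ n from (Subgroup.mem_center_iff.1 hz₁ n).symm).mul_pow, ← hzn,
        ← conj_pow]
      group
    refine hsc _ ?_
    rw [hxp]
    exact (inferInstance : (Subgroup.center G).Normal).conj_mem _
      (mul_mem (pow_mem hz₁ p) (pow_mem hz₂G p)) g

section Transfer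

variable {V : Type v} [AddCommGroup V] [Module ℂ V] [FiniteDimensional ℂ V]
  (ρ : Representation ℂ G V) (C : Subgroup G) {W : Submodule ℂ V}

/-- The action on an invariant part, in coordinates. -/
noncomputable def restrictRep (hW : InvOn ρ C W) :
    Representation ℂ C (Fin (finrank ℂ W) → ℂ) where
  toFun c := (Module.finBasis ℂ W).equivFun.conj ((ρ c).restrict (hW c c.2))
  map_one' := by
    refine LinearMap.ext fun v => ?_
    obtain ⟨v, rfl⟩ := (Module.finBasis ℂ W).equivFun.surjective v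
    rw [LinearEquiv.conj_apply_apply, LinearEquiv.symm_apply_apply, Module.End.one_apply]
    refine congrArg _ (Subtype.ext ?_)
    simp [LinearMap.restrict_apply]
  map_mul' a b := by
    refine LinearMap.ext fun v => ?_
    simp only [Module.End.mul_apply, LinearEquiv.conj_apply_apply, LinearEquiv.symm_apply_apply]
    refine congrArg _ (Subtype.ext ?_)
    simp [LinearMap.restrict_apply]

theorem restrictRep_spec (hW : InvOn ρ C W) (c : C) (v : W) :
    restrictRep ρ C hW c ((Module.finBasis ℂ W).equivFun v) =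
      (Module.finBasis ℂ W).equivFun ⟨ρ c v, hW c c.2 v v.2⟩ := by
  change (Module.finBasis ℂ W).equivFun.conj ((ρ c).restrict (hW c c.2)) _ = _
  rw [LinearEquiv.conj_apply_apply, LinearEquiv.symm_apply_apply]
  rfl

end Transfer

/-- Every part of dimension at most `p - 3` and at most 25. -/
theorem spec_all (p : ℕ) [hp : Fact p.Prime] (h5 : 5 ≤ p) : ∀ (r : ℕ), r + 3 ≤ p → r ≤ 25 →
    ∀ {G : Type w} [Group G] [Finite G] {d : ℕ} (ρ : Representation ℂ G (Fin d → ℂ))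
      (C : Subgroup G) (W : Submodule ℂ (Fin d → ℂ)), finrank ℂ W = r → Irr ρ C W →
      ¬ PCOn ρ p C W → Spec ρ p C W := by
  intro r
  induction r using Nat.strong_induction_on with
  | _ r ih =>
  intro hr hr' G _ _ d ρ C W hWr hirr hnc
  obtain ⟨K, hKn, σ, hinj, e, hmk⟩ : ∃ (K : Subgroup C) (_ : K.Normal)
      (σ : Representation ℂ (C ⧸ K) (Fin (finrank ℂ W) → ℂ)), Function.Injective σ ∧
      ∃ e : W ≃ₗ[ℂ] (Fin (finrank ℂ W) → ℂ), ∀ (c : C) (v : W),
        σ (c : C ⧸ K) (e v) = e ⟨ρ c v, hirr.inv c c.2 v v.2⟩ := by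
    let σ₁ := restrictRep ρ C hirr.inv
    let K := MonoidHom.ker (σ₁ : C →* Module.End ℂ (Fin (finrank ℂ W) → ℂ))
    let σ : Representation ℂ (C ⧸ K) (Fin (finrank ℂ W) → ℂ) := QuotientGroup.lift K σ₁ le_rfl
    refine ⟨K, inferInstance, σ, (injective_iff_map_eq_one σ).2 fun q hq => ?_,
      (Module.finBasis ℂ W).equivFun, fun c v => restrictRep_spec ρ C hirr.inv c v⟩
    obtain ⟨c, rfl⟩ := QuotientGroup.mk_surjective q
    exact (QuotientGroup.eq_one_iff c).2 (MonoidHom.mem_ker.2 hq)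
  have hval : ∀ (c : C) (v : W) (a : ℂ), σ (c : C ⧸ K) (e v) = a • e v ↔
      ρ c (v : Fin d → ℂ) = a • (v : Fin d → ℂ) := fun c v a => by
    rw [hmk, ← map_smul, e.injective.eq_iff, Subtype.ext_iff, SetLike.val_smul]
  have hscal : ∀ c : C, ScalOn σ (c : C ⧸ K) ⊤ ↔ ScalOn ρ (c : G) W := by
    intro c
    refine ⟨fun ⟨a, ha⟩ => ⟨a, fun v hv => (hval c ⟨v, hv⟩ a).1 (ha _ Submodule.mem_top)⟩,
      fun ⟨a, ha⟩ => ⟨a, fun x _ => ?_⟩⟩
    obtain ⟨v, rfl⟩ := e.surjective x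
    exact (hval c v a).2 (ha v v.2)
  have hem : ∀ (c : C) (a : ℂ), em σ (c : C ⧸ K) a ⊤ = em ρ (c : G) a W := by
    intro c a
    set f : (Fin (finrank ℂ W) → ℂ) →ₗ[ℂ] (Fin d → ℂ) := W.subtype ∘ₗ e.symm.toLinearMap
    have hf : Function.Injective f := Subtype.val_injective.comp e.symm.injective
    rw [em, em, inf_top_eq]
    refine ((Submodule.equivMapOfInjective f hf _).trans (LinearEquiv.ofEq _ _ ?_)).finrank_eq
    ext x
    constructor
    · rintro ⟨y, hy, rfl⟩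
      obtain ⟨v, rfl⟩ := e.surjective y
      have h1 := (hval c v a).1 (Module.End.mem_eigenspace_iff.1 hy)
      simp only [f, LinearMap.coe_comp, Function.comp_apply, LinearEquiv.coe_coe,
        LinearEquiv.symm_apply_apply, Submodule.coe_subtype]
      exact ⟨Module.End.mem_eigenspace_iff.2 h1, v.2⟩
    · rintro ⟨hx, hxW⟩
      refine ⟨e ⟨x, hxW⟩, Module.End.mem_eigenspace_iff.2
        ((hval c ⟨x, hxW⟩ a).2 (Module.End.mem_eigenspace_iff.1 hx)), ?_⟩
      simp [f]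
  have hfix : ∀ c : C, (∀ w ∈ W, ρ (c : G) w = w) ↔
      ∀ x ∈ (⊤ : Submodule ℂ (Fin (finrank ℂ W) → ℂ)), σ (c : C ⧸ K) x = x := by
    intro c
    refine ⟨fun h x _ => ?_, fun h v hv => ?_⟩
    · obtain ⟨v, rfl⟩ := e.surjective x
      simpa using (hval c v 1).2 (by rw [one_smul]; exact h v v.2)
    · have h1 := h (e ⟨v, hv⟩) Submodule.mem_top
      simpa using (hval c ⟨v, hv⟩ 1).1 (by rw [one_smul]; exact h1)
  have hpel : ∀ c : C, PEl p (c : G) → PEl p (c : C ⧸ K) := fun c ⟨k, hk⟩ => ⟨k, by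
    rw [← QuotientGroup.mk_pow, show c ^ p ^ k = 1 from Subtype.ext (by rw [SubmonoidClass.coe_pow, hk]; rfl),
      QuotientGroup.mk_one]⟩
  have hlift : ∀ q : C ⧸ K, PEl p q → ∃ c : C, PEl p (c : G) ∧ (c : C ⧸ K) = q := fun q hq => by
    obtain ⟨c, ⟨k, hk⟩, hc⟩ := exists_pel_lift (QuotientGroup.mk' K) (QuotientGroup.mk'_surjective K) hq
    exact ⟨c, ⟨k, by rw [← SubmonoidClass.coe_pow, hk, OneMemClass.coe_one]⟩, hc⟩
  have hne : (⊤ : Submodule ℂ (Fin (finrank ℂ W) → ℂ)) ≠ ⊥ := by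
    obtain ⟨v, hv, hv0⟩ := Submodule.exists_mem_ne_zero_of_ne_bot hirr.ne
    intro h
    have h1 : e ⟨v, hv⟩ = 0 := (Submodule.mem_bot ℂ).1 (h ▸ Submodule.mem_top)
    exact hv0 (congrArg Subtype.val (e.map_eq_zero_iff.1 h1))
  have hA : Amb σ p := by
    refine ⟨hinj, by omega, h5, ⟨InvOn.top ⊤, hne, fun W' hW' _ => ?_⟩, fun h => hnc ?_, ?_⟩
    · set f : (Fin (finrank ℂ W) → ℂ) →ₗ[ℂ] (Fin d → ℂ) := W.subtype ∘ₗ e.symm.toLinearMap
      have hf : Function.Injective f := Subtype.val_injective.comp e.symm.injective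
      have hle : W'.map f ≤ W := by
        rintro _ ⟨x, -, rfl⟩
        exact (e.symm x).2
      have hinv : InvOn ρ C (W'.map f) := by
        rintro c hc _ ⟨x, hx, rfl⟩
        refine ⟨σ ((⟨c, hc⟩ : C) : C ⧸ K) x, hW' _ (Subgroup.mem_top _) x hx, ?_⟩
        obtain ⟨v, rfl⟩ := e.surjective x
        simp only [hmk, f, LinearMap.coe_comp, Function.comp_apply, LinearEquiv.coe_coe,
          LinearEquiv.symm_apply_apply, Submodule.coe_subtype]
      rcases hirr.min _ hinv hle with h | h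
      · exact Or.inl ((Submodule.map_injective_of_injective hf) (by rw [h, Submodule.map_bot]))
      · refine Or.inr (eq_top_iff.2 fun x _ => ?_)
        obtain ⟨y, hy, hyx⟩ := h.ge (e.symm x).2
        exact hf (hyx.trans (by rfl)) ▸ hy
    · intro a ha b hb hpa hpb v hv
      have h1 := h _ (Subgroup.mem_top _) _ (Subgroup.mem_top _) (hpel ⟨a, ha⟩ hpa)
        (hpel ⟨b, hb⟩ hpb) (e ⟨v, hv⟩) Submodule.mem_top
      rw [hmk, hmk, hmk, hmk] at h1
      exact congrArg Subtype.val (e.injective h1)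
    · intro C' W' hW' hlt hnc'
      exact ih _ (hWr ▸ hlt) (by omega) (by omega) σ C' W' rfl hW' hnc'
  have hS := spec_faith hA (by omega) (by omega)
  refine ⟨?_, ?_, ?_, ?_, ?_⟩
  · have := hS.big
    rwa [finrank_top, finrank_fin_fun] at this
  · intro x hx hpx
    rcases hS.mult ((⟨x, hx⟩ : C) : C ⧸ K) (Subgroup.mem_top _) (hpel ⟨x, hx⟩ hpx) with h | h
    · exact Or.inl ((hscal ⟨x, hx⟩).1 h)
    · exact Or.inr fun a => (hem ⟨x, hx⟩ a).symm.le.trans (h a)
  · intro x hx hpx hns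
    obtain ⟨q, -, Cs, hCs, hpow, hcomm, hlines⟩ := hS.lines _ (Subgroup.mem_top _)
      (hpel ⟨x, hx⟩ hpx) fun h => hns ((hscal ⟨x, hx⟩).1 h)
    obtain ⟨n, rfl⟩ := QuotientGroup.mk_surjective q
    obtain ⟨c, hc⟩ : ∃ c : C, c = n * ⟨x, hx⟩ * n⁻¹ * ⟨x, hx⟩⁻¹ := ⟨_, rfl⟩
    have hcQ : (n : C ⧸ K) * ((⟨x, hx⟩ : C) : C ⧸ K) * (n : C ⧸ K)⁻¹ * ((⟨x, hx⟩ : C) : C ⧸ K)⁻¹ =
        (c : C ⧸ K) := by
      rw [hc, QuotientGroup.mk_mul, QuotientGroup.mk_mul, QuotientGroup.mk_mul,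
        QuotientGroup.mk_inv, QuotientGroup.mk_inv]
    have hcG : (n : G) * x * (n : G)⁻¹ * x⁻¹ = (c : G) := by
      rw [hc, Subgroup.coe_mul, Subgroup.coe_mul, Subgroup.coe_mul, Subgroup.coe_inv,
        Subgroup.coe_inv]
    rw [hcQ, ← QuotientGroup.mk_pow] at hpow
    refine ⟨n, n.2, Cs, hCs, ?_, fun w hw => ?_, fun a ha => ⟨(hlines a ha).1, ?_⟩⟩
    · rw [hcG, ← SubmonoidClass.coe_pow]
      exact (hfix (c ^ p)).2 hpow
    · have hcn : (n : C ⧸ K) * ((⟨x, hx⟩ : C) : C ⧸ K) * (n : C ⧸ K)⁻¹ =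
          ((n * ⟨x, hx⟩ * n⁻¹ : C) : C ⧸ K) := by
        rw [QuotientGroup.mk_mul, QuotientGroup.mk_mul, QuotientGroup.mk_inv]
      have h1 := hcomm (e ⟨w, hw⟩) Submodule.mem_top
      rw [hcn, hmk, hmk, hmk, hmk] at h1
      exact congrArg Subtype.val (e.injective h1)
    · have h1 := (hlines a ha).2
      rw [hcQ, hem c a] at h1
      rw [hcG]
      exact h1
  · intro a ha b hb hpa hpb hab hns
    obtain ⟨i, hi⟩ := hS.cyc _ (Subgroup.mem_top _) _ (Subgroup.mem_top _) (hpel ⟨a, ha⟩ hpa)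
      (hpel ⟨b, hb⟩ hpb) (by rw [← QuotientGroup.mk_mul, ← QuotientGroup.mk_mul]; exact congrArg _ (Subtype.ext hab))
      fun h => hns ((hscal ⟨a, ha⟩).1 h)
    rw [← QuotientGroup.mk_pow, ← QuotientGroup.mk_mul] at hi
    exact ⟨i, (hscal _).1 hi⟩
  · intro a ha g hg hpa hga hns
    have hi := hS.cent _ (Subgroup.mem_top _) ((⟨g, hg⟩ : C) : C ⧸ K) (Subgroup.mem_top _)
      (hpel ⟨a, ha⟩ hpa) (by rw [← QuotientGroup.mk_mul, ← QuotientGroup.mk_mul]; exact congrArg _ (Subtype.ext hga))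
      fun h => hns ((hscal ⟨a, ha⟩).1 h)
    rw [← QuotientGroup.mk_pow] at hi
    exact (hscal _).1 hi

end Cfsg.Agent.Block.Deg16
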