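import Mathlib
import Cfsg.Agent.Lib.Block.Deg16.Small
import Cfsg.Agent.Lib.Block.Deg16.Square

/-!
Degree sixteen: the elements of `p`-power order commute, or the group is `PSL(2, 31)` modulo its
centre, `p ≥ 19`.
-/

set_option autoImplicit false
set_option linter.unusedSectionVars false
set_option linter.style.haveILetI false
set_option maxHeartbeats 800000

namespace Cfsg.Agent.Block.Deg16

open Cfsg Cfsg.Agent.Char Module
open scoped _root_.Classical

universe w

/-- Degree sixteen. -/
theorem main {G : Type w} [Group G] [Finite G] (p : ℕ) [hp : Fact p.Prime] (h19 : 19 ≤ p)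
    (ρ : Representation ℂ G (Fin 16 → ℂ)) (hρ : Function.Injective ρ) (hirr : Irr ρ ⊤ ⊤)
    (P : Sylow p G) :
    (P : Subgroup G).Normal ∨ (p = 31 ∧
      Nonempty (G ⧸ Subgroup.center G ≃* Matrix.ProjectiveSpecialLinearGroup (Fin 2) (ZMod 31))) := by
  by_cases hpc : PCOn ρ p ⊤ (⊤ : Submodule ℂ (Fin 16 → ℂ))
  · refine Or.inl ⟨fun x hx g => ?_⟩
    have hpx := pEl_of_mem P.isPGroup' hx
    exact mem_sylow_of_commute (hpx.conj g) P fun y hy =>
      comm_of_pcon hρ hpc (Subgroup.mem_top _) (Subgroup.mem_top _) (hpx.conj g)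
        (pEl_of_mem P.isPGroup' hy)
  right
  have A : Amb ρ p := ⟨hρ, by omega, by omega, hirr, hpc,
    fun C W hW hlt hnc => spec_all p (by omega) _ (by omega) (by omega) ρ C W rfl hW hnc⟩
  obtain ⟨N, hNn, hNirr, hcov, hsyl⟩ := A.exists_core
  let Q : Sylow p N := default
  obtain ⟨hQ, hQn⟩ := hsyl Q
  letI := Fintype.ofFinite N
  set ζ : IrrCharacter N := ⟨fun x : N => ρ.character x, isIrr_character_res hNirr⟩
  have hfaith : ∀ x : N, (ζ : N → ℂ) x = (ζ : N → ℂ) 1 → x = 1 := fun x hx =>
    faithful_res hρ N x hx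
  have hdeg : charDegree (ζ : N → ℂ) = 16 := charDegree_res N
  obtain ⟨u, R, L, hcase⟩ := SmallFaith.exists_cases (by omega) Q hQ hQn ζ hfaith (by omega)
  rw [hdeg] at hcase
  rcases hcase with ⟨⟨iso⟩, -, hd⟩ | ⟨ω, y, t, Z, ht, ht3, hR2, hde⟩
  · obtain rfl : p = 31 := by
      rcases hd with h | h
      · exfalso
        obtain rfl : p = 33 := by omega
        exact absurd hp.out (by norm_num)
      · omega
    refine ⟨rfl, ?_⟩
    set φ : N →* G ⧸ Subgroup.center G := (QuotientGroup.mk' (Subgroup.center G)).comp N.subtype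
    have hφ : Function.Surjective φ := fun q => by
      obtain ⟨g, rfl⟩ := QuotientGroup.mk_surjective q
      obtain ⟨z, hz, n, hn, rfl⟩ := hcov g
      refine ⟨⟨n, hn⟩, ?_⟩
      rw [QuotientGroup.mk_mul, (QuotientGroup.eq_one_iff z).2 hz, one_mul]
      rfl
    have hker : φ.ker = Subgroup.center N := by
      ext ⟨n, hn⟩
      rw [MonoidHom.mem_ker, MonoidHom.comp_apply, QuotientGroup.mk'_apply, QuotientGroup.eq_one_iff,
        Subgroup.mem_center_iff, Subgroup.mem_center_iff]
      refine ⟨fun h g => Subtype.ext (h g), fun h g => ?_⟩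
      obtain ⟨z, hz, m, hm, rfl⟩ := hcov g
      have h1 : m * n = n * m := congrArg Subtype.val (h ⟨m, hm⟩)
      show z * m * n = n * (z * m)
      rw [mul_assoc, h1, ← mul_assoc, ← Subgroup.mem_center_iff.1 hz n, mul_assoc]
    exact ⟨((QuotientGroup.quotientKerEquivOfSurjective φ hφ).symm.trans
      (QuotientGroup.quotientMulEquivOfEq hker)).trans iso⟩
  · exfalso
    have he : Nat.card R * t = Nat.card R + 15 := by omega
    have h19' : p = 19 := by
      have hle : Nat.card R ≤ 7 := by
        by_contra h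
        have : Nat.card R * 3 ≤ Nat.card R * t := Nat.mul_le_mul_left _ ht3
        omega
      have hnp : ¬ p = 21 := fun h => absurd (h ▸ hp.out) (by norm_num)
      generalize hr : Nat.card R = r at he hle hde hR2
      interval_cases r <;> omega
    subst h19'
    exact no_nineteen Q hQ hQn ζ hfaith hdeg

end Cfsg.Agent.Block.Deg16
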